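import Cfsg.Prelude.Def_SporadicB

set_option autoImplicit false

namespace Cfsg.Agent.H29

variable {G : Type*} [Group G]

/-- In a 3-transposition set every member squares to one. -/
theorem tt_sq {E : Set G} (hE : Cfsg.IsThreeTranspositionSet E) {a : G} (ha : a ∈ E) :
    a * a = 1 := by
  have h := pow_orderOf_eq_one a
  rwa [hE.1 a ha, pow_two] at h

/-- A member of a 3-transposition set is its own inverse. -/
theorem tt_inv {E : Set G} (hE : Cfsg.IsThreeTranspositionSet E) {a : G} (ha : a ∈ E) :
    a⁻¹ = a := inv_eq_of_mul_eq_one_left (tt_sq hE ha)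

/-- Two non-commuting members satisfy the braid relation. -/
theorem tt_braid {E : Set G} (hE : Cfsg.IsThreeTranspositionSet E) {a b : G} (ha : a ∈ E)
    (hb : b ∈ E) (h : ¬ Commute a b) : a * b * a = b * a * b := by
  rcases hE.2 a ha b hb with h2 | h3
  · exfalso
    apply h
    have h4 : a * b = (a * b)⁻¹ := by
      rw [eq_inv_iff_mul_eq_one, ← pow_two, h2]
    rw [mul_inv_rev, tt_inv hE ha, tt_inv hE hb] at h4
    exact h4
  · have h4 : (a * b * a) * (b * a * b) = 1 := by
      rw [← h3]; simp [pow_succ, mul_assoc]
    have h5 : (b * a * b)⁻¹ = b * a * b := by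
      rw [mul_inv_rev, mul_inv_rev, tt_inv hE ha, tt_inv hE hb, mul_assoc]
    rw [← h5]
    exact eq_inv_of_mul_eq_one_left h4

/-- A member commuting with a product of two distinct commuting members commutes with both. -/
theorem tt_commute_pair {E : Set G} (hE : Cfsg.IsThreeTranspositionSet E) {a b e : G}
    (ha : a ∈ E) (hb : b ∈ E) (he : e ∈ E) (hab : a ≠ b) (h : Commute e (a * b)) :
    Commute e a ∧ Commute e b := by
  by_cases hea : Commute e a
  · refine ⟨hea, ?_⟩
    have h' := hea.inv_right.mul_right h
    rwa [inv_mul_cancel_left] at h'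
  · have heb : ¬ Commute e b := by
      intro heb
      apply hea
      have h' := h.mul_right heb.inv_right
      rwa [mul_inv_cancel_right] at h'
    exfalso
    apply hab
    have e1 := tt_braid hE he ha hea
    have e2 := tt_braid hE he hb heb
    have key : (a * e * a) * (b * e * b) = a * b := by
      rw [← e1, ← e2, show (e * a * e) * (e * b * e) = e * a * (e * e) * b * e by group,
        tt_sq hE he, mul_one, mul_assoc e a b, h.eq, mul_assoc, tt_sq hE he, mul_one]
    have key2 : e * (a * b) * e = 1 := by
      have k : a * (e * (a * b) * e) * b = a * 1 * b := by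
        rw [mul_one]; exact (by group : _ = (a * e * a) * (b * e * b)).trans key
      exact mul_left_cancel (mul_right_cancel k)
    have key3 : a * b = 1 := by
      have k : e * (a * b) * e = e * 1 * e := by rw [key2, mul_one, tt_sq hE he]
      exact mul_left_cancel (mul_right_cancel k)
    rw [eq_inv_of_mul_eq_one_left key3, tt_inv hE hb]

/-- Non-commuting members: the conjugate of one by the other. -/
theorem tt_conj {E : Set G} (hE : Cfsg.IsThreeTranspositionSet E) {a b : G} (ha : a ∈ E)
    (hb : b ∈ E) (h : ¬ Commute a b) : a * b * a⁻¹ = b * a * b := by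
  rw [tt_inv hE ha, tt_braid hE ha hb h]

end Cfsg.Agent.H29
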