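import Cfsg.Agent.H29.HigmanSimsGroup

/-!
The order of the automorphism group of the point-block graph of an S(3,6,22).
-/

set_option autoImplicit false

namespace Cfsg.Agent.H29

theorem card_graphAut {α : Type*} [Fintype α] [DecidableEq α] {B : Set (Finset α)}
    (hα : Fintype.card α = 22) (hB : Cfsg.IsSteinerSystem 3 6 B) :
    Nat.card (Cfsg.pointBlockGraph B ≃g Cfsg.pointBlockGraph B) = 88704000 := by
  classical
  haveI : Fintype B := Fintype.ofFinite B
  set A := Cfsg.pointBlockGraph B ≃g Cfsg.pointBlockGraph B
  have hV : Fintype.card (Option (α ⊕ B)) = 100 := (pointBlockGraph_srg hα hB).card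
  haveI : MulAction.IsPretransitive A (Option (α ⊕ B)) :=
    MulAction.isPretransitive_iff_base none |>.2 fun v => graph_transitive hα hB v
  let ψ : Cfsg.setSystemAut B →* MulAction.stabilizer A (none : Option (α ⊕ B)) :=
    graphLift.codRestrict _ fun g => rfl
  have hψ : Function.Bijective ψ := by
    refine ⟨fun g h e => graphLift_injective (congrArg Subtype.val e), fun u => ?_⟩
    obtain ⟨g, hg⟩ := exists_graphLift hB u.1 u.2
    exact ⟨g, Subtype.ext hg⟩
  rw [← (MulAction.stabilizer A (none : Option (α ⊕ B))).card_mul_index,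
    MulAction.index_stabilizer_of_transitive, Nat.card_eq_fintype_card (α := Option (α ⊕ B)), hV,
    ← Nat.card_congr (MulEquiv.ofBijective ψ hψ).toEquiv, (steiner22_aut hα hB).1]

end Cfsg.Agent.H29
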