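import Cfsg.Agent.H29.GolayExt

/-!
The strongly regular graphs with parameters (100, 22, 0, 6) and the S(3,6,22).
-/

set_option autoImplicit false

namespace Cfsg.Agent.H29

open Finset Golay

section

variable {V : Type*} [Fintype V] [DecidableEq V] {G : SimpleGraph V} [DecidableRel G.Adj]

theorem srg_common (hG : G.IsSRGWith 100 22 0 6) (a b : V) :
    (G.Adj a b → (G.neighborFinset a ∩ G.neighborFinset b).card = 0) ∧
    (a ≠ b → ¬ G.Adj a b → (G.neighborFinset a ∩ G.neighborFinset b).card = 6) := by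
  have key : (G.neighborFinset a ∩ G.neighborFinset b).card = Fintype.card (G.commonNeighbors a b) := by
    rw [← Set.toFinset_card]
    congr 1
    ext x
    simp [SimpleGraph.mem_commonNeighbors]
  exact ⟨fun h => key.trans (hG.of_adj a b h), fun h h' => key.trans (hG.of_not_adj h h')⟩

/-- The neighbours of a vertex and the traces of the other vertices form an S(3,6,22). -/
theorem srg_design (hG : G.IsSRGWith 100 22 0 6) (v : V) :
    (∀ x ∈ G.neighborFinset v, ∀ y ∈ G.neighborFinset v, ¬ G.Adj x y) ∧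
    SysOn 3 6 (G.neighborFinset v)
      {b | ∃ w, w ≠ v ∧ ¬ G.Adj v w ∧ G.neighborFinset v ∩ G.neighborFinset w = b} ∧
    ∀ w, w ≠ v → ¬ G.Adj v w → ∀ w', w' ≠ v → ¬ G.Adj v w' →
      (G.neighborFinset v ∩ G.neighborFinset w = G.neighborFinset v ∩ G.neighborFinset w' → w = w') ∧
      (G.Adj w w' ↔ Disjoint (G.neighborFinset v ∩ G.neighborFinset w)
        (G.neighborFinset v ∩ G.neighborFinset w')) := by
  set N := G.neighborFinset v with hN
  set M : Finset V := univ.filter fun w => w ≠ v ∧ ¬ G.Adj v w with hM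
  set K : V → Finset V := fun w => N ∩ G.neighborFinset w with hK
  have hNc : N.card = 22 := hG.regular v
  have memN : ∀ x, x ∈ N ↔ G.Adj v x := fun x => G.mem_neighborFinset v x
  have hind : ∀ x ∈ N, ∀ y ∈ N, ¬ G.Adj x y := by
    intro x hx y hy hxy
    have := (srg_common hG v x).1 ((memN x).1 hx)
    rw [card_eq_zero, eq_empty_iff_forall_notMem] at this
    exact this y (mem_inter.2 ⟨hy, (G.mem_neighborFinset x y).2 hxy⟩)
  have memM : ∀ w, w ∈ M ↔ w ≠ v ∧ ¬ G.Adj v w := fun w => by simp [hM]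
  have hMc : M.card = 77 := by
    have h : M = univ \ insert v N := by ext w; simp [hM, memN]
    rw [h, card_sdiff_of_subset (subset_univ _), card_insert_of_notMem
      (fun hh => G.irrefl ((memN v).1 hh)), hNc, card_univ, hG.card]
  have hKc : ∀ w ∈ M, (K w).card = 6 := fun w hw =>
    (srg_common hG v w).2 (Ne.symm ((memM w).1 hw).1) ((memM w).1 hw).2
  have memK : ∀ w x, x ∈ K w ↔ x ∈ N ∧ G.Adj w x := fun w x => by simp [hK]
  have hr : ∀ x ∈ N, (M.filter fun w => x ∈ K w).card = 21 := by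
    intro x hx
    have h : (M.filter fun w => x ∈ K w) = (G.neighborFinset x).erase v := by
      ext w
      rw [mem_filter, memM, memK, mem_erase, G.mem_neighborFinset x w]
      constructor
      · rintro ⟨⟨h1, -⟩, -, h3⟩; exact ⟨h1, h3.symm⟩
      · rintro ⟨h1, h2⟩
        exact ⟨⟨h1, fun h => hind x hx w ((memN w).2 h) h2⟩, hx, h2.symm⟩
    have hd : (G.neighborFinset x).card = 22 := hG.regular x
    rw [h, card_erase_of_mem ((G.mem_neighborFinset x v).2 ((memN x).1 hx).symm), hd]
  have hl : ∀ x ∈ N, ∀ y ∈ N, x ≠ y → (M.filter fun w => x ∈ K w ∧ y ∈ K w).card = 5 := by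
    intro x hx y hy hxy
    have h : (M.filter fun w => x ∈ K w ∧ y ∈ K w) =
        (G.neighborFinset x ∩ G.neighborFinset y).erase v := by
      ext w
      rw [mem_filter, memM, memK, memK, mem_erase, mem_inter, G.mem_neighborFinset x w,
        G.mem_neighborFinset y w]
      constructor
      · rintro ⟨⟨h1, -⟩, ⟨-, h3⟩, -, h4⟩; exact ⟨h1, h3.symm, h4.symm⟩
      · rintro ⟨h1, h2, h3⟩
        exact ⟨⟨h1, fun h => hind x hx w ((memN w).2 h) h2⟩, ⟨hx, h2.symm⟩, hy, h3.symm⟩
    rw [h, card_erase_of_mem (mem_inter.2 ⟨(G.mem_neighborFinset x v).2 ((memN x).1 hx).symm,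
      (G.mem_neighborFinset y v).2 ((memN y).1 hy).symm⟩),
      (srg_common hG x y).2 hxy (hind x hx y hy)]
  have hadj : ∀ w w', G.Adj w w' → Disjoint (K w) (K w') := by
    intro w w' h
    have := (srg_common hG w w').1 h
    rw [card_eq_zero, eq_empty_iff_forall_notMem] at this
    rw [disjoint_left]
    exact fun x hx hx' => this x (mem_inter.2 ⟨(mem_inter.1 hx).2, (mem_inter.1 hx').2⟩)
  have htwo : ∀ w ∈ M, ∀ w' ∈ M, w' ≠ w → ¬ G.Adj w w' → (K w ∩ K w').card = 2 := by
    intro w hw
    have hjc : ∀ u, (K w ∩ K u).card = ∑ x ∈ K w, if x ∈ K u then 1 else 0 := by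
      intro u
      rw [← card_filter]
      congr 1
    have h1 : ∑ u ∈ M, (K w ∩ K u).card = 126 := by
      simp only [hjc]
      rw [sum_comm]
      simp only [← card_filter]
      rw [sum_congr rfl (g := fun _ => 21) fun x hx => hr x (mem_inter.1 hx).1, sum_const,
        smul_eq_mul, hKc w hw]
    have h2 : ∑ u ∈ M, (K w ∩ K u).card * (K w ∩ K u).card = 276 := by
      simp only [hjc, sum_mul_sum]
      rw [sum_comm, sum_congr rfl (g := fun _ => 46), sum_const, smul_eq_mul, hKc w hw]
      intro x hx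
      rw [sum_comm, ← add_sum_erase _ _ hx]
      have hxN := (mem_inter.1 hx).1
      have e1 : (∑ u ∈ M, (if x ∈ K u then 1 else 0) * (if x ∈ K u then 1 else 0) : ℕ) = 21 := by
        rw [sum_congr rfl (g := fun u => if x ∈ K u then 1 else 0) fun u _ => by split <;> rfl,
          ← card_filter, hr x hxN]
      have e2 : ∀ y ∈ (K w).erase x,
          (∑ u ∈ M, (if x ∈ K u then 1 else 0) * (if y ∈ K u then 1 else 0) : ℕ) = 5 := by
        intro y hy
        rw [mem_erase] at hy
        rw [sum_congr rfl (g := fun u => if x ∈ K u ∧ y ∈ K u then 1 else 0) fun u _ => by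
          by_cases ha : x ∈ K u <;> simp [ha], ← card_filter,
          hl x hxN y (mem_inter.1 hy.2).1 hy.1.symm]
      rw [e1, sum_congr rfl e2, sum_const, card_erase_of_mem hx, hKc w hw]
      rfl
    set A := M.filter fun u => u ≠ w ∧ ¬ G.Adj w u with hA
    have hsplit : ∀ f : ℕ → ℕ, f 0 = 0 →
        ∑ u ∈ M, f (K w ∩ K u).card = f 6 + ∑ u ∈ A, f (K w ∩ K u).card := by
      intro f hf
      rw [← add_sum_erase _ _ hw, inter_self, hKc w hw]
      congr 1
      symm
      apply sum_subset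
      · intro u hu
        obtain ⟨h3, h4, -⟩ := mem_filter.1 hu
        exact mem_erase.2 ⟨h4, h3⟩
      · intro u hu hu'
        rw [mem_erase] at hu
        have : G.Adj w u := by
          by_contra hn
          exact hu' (mem_filter.2 ⟨hu.2, hu.1, hn⟩)
        rw [disjoint_iff_inter_eq_empty.1 (hadj w u this), card_empty, hf]
    have hAc : A.card = 60 := by
      have hdeg : (G.neighborFinset w).card = 22 := hG.regular w
      have h : A = M \ insert w (G.neighborFinset w \ K w) := by
        ext u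
        rw [hA, mem_filter, mem_sdiff, mem_insert, mem_sdiff, G.mem_neighborFinset, memK]
        constructor
        · rintro ⟨h, h', h''⟩; exact ⟨h, by tauto⟩
        · rintro ⟨h, h'⟩
          refine ⟨h, fun e => h' (Or.inl e), fun e => h' (Or.inr ⟨e, ?_⟩)⟩
          exact fun hh => ((memM u).1 h).2 ((memN u).1 hh.1)
      have hsub : insert w (G.neighborFinset w \ K w) ⊆ M := by
        refine insert_subset hw fun u hu => ?_
        rw [mem_sdiff, G.mem_neighborFinset, memK] at hu
        refine (memM u).2 ⟨fun e => ((memM w).1 hw).2 (e ▸ hu.1).symm, fun h => hu.2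
          ⟨(memN u).2 h, hu.1⟩⟩
      rw [h, card_sdiff_of_subset hsub, card_insert_of_notMem (by simp),
        card_sdiff_of_subset inter_subset_right, hdeg, hMc, hKc w hw]
    have s1 := (hsplit id rfl).symm.trans h1
    have s2 := (hsplit (fun n => n * n) rfl).symm.trans h2
    simp only [id] at s1
    have s0 : ∑ u ∈ A, (((K w ∩ K u).card : ℤ) - 2) ^ 2 = 0 := by
      have t1 : ∑ u ∈ A, ((K w ∩ K u).card : ℤ) = 120 := by exact_mod_cast (by omega :
        ∑ u ∈ A, (K w ∩ K u).card = 120)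
      have t2 : ∑ u ∈ A, ((K w ∩ K u).card : ℤ) * (K w ∩ K u).card = 240 := by
        exact_mod_cast (by omega : ∑ u ∈ A, (K w ∩ K u).card * (K w ∩ K u).card = 240)
      rw [sum_congr rfl (g := fun u => ((K w ∩ K u).card : ℤ) * (K w ∩ K u).card
        - 4 * ((K w ∩ K u).card : ℤ) + 4) fun u _ => by ring, sum_add_distrib, sum_sub_distrib,
        ← mul_sum, t1, t2, sum_const, hAc]
      norm_num
    intro w' hw' hne hn
    have := (sum_eq_zero_iff_of_nonneg fun u _ => sq_nonneg _).1 s0 w'
      (mem_filter.2 ⟨hw', hne, hn⟩)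
    rw [pow_eq_zero_iff two_ne_zero] at this
    omega
  have hle2 : ∀ w ∈ M, ∀ w' ∈ M, w' ≠ w → (K w ∩ K w').card ≤ 2 := by
    intro w hw w' hw' hne
    by_cases h : G.Adj w w'
    · rw [disjoint_iff_inter_eq_empty.1 (hadj w w' h)]; simp
    · exact (htwo w hw w' hw' hne h).le
  refine ⟨hind, ⟨?_, ?_⟩, ?_⟩
  · rintro b ⟨w, h1, h2, rfl⟩
    exact ⟨hKc w ((memM w).2 ⟨h1, h2⟩), inter_subset_left⟩
  · intro s hs hsc
    have hbu : (M.biUnion fun w => powersetCard 3 (K w)) = powersetCard 3 N := by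
      refine eq_of_subset_of_card_le ?_ ?_
      · intro t ht
        obtain ⟨w, -, hw⟩ := mem_biUnion.1 ht
        rw [mem_powersetCard] at hw ⊢
        exact ⟨hw.1.trans inter_subset_left, hw.2⟩
      · rw [card_biUnion, sum_congr rfl (g := fun _ => 20), sum_const, hMc, card_powersetCard, hNc]
        · rfl
        · intro w hw
          rw [card_powersetCard, hKc w hw]; rfl
        · intro w hw w' hw' hne
          rw [Function.onFun, disjoint_left]
          intro t ht ht'
          rw [mem_powersetCard] at ht ht'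
          have := hle2 w hw w' hw' hne.symm
          have := card_le_card (subset_inter ht.1 ht'.1)
          omega
    obtain ⟨w, hw, hsw⟩ := mem_biUnion.1 (hbu.symm ▸ mem_powersetCard.2 ⟨hs, hsc⟩)
    refine ⟨K w, ⟨⟨w, ((memM w).1 hw).1, ((memM w).1 hw).2, rfl⟩, (mem_powersetCard.1 hsw).1⟩, ?_⟩
    rintro b ⟨⟨w', h1, h2, rfl⟩, hsb⟩
    by_contra hne
    have hne' : w' ≠ w := fun e => hne (by rw [e])
    have := hle2 w hw w' ((memM w').2 ⟨h1, h2⟩) hne'
    have := card_le_card (subset_inter (mem_powersetCard.1 hsw).1 (show s ⊆ K w' from hsb))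
    omega
  · intro w h1 h2 w' h1' h2'
    have hw := (memM w).2 ⟨h1, h2⟩
    have hw' := (memM w').2 ⟨h1', h2'⟩
    refine ⟨fun he => ?_, ⟨hadj w w', fun hd => ?_⟩⟩
    · by_contra hne
      have := hle2 w hw w' hw' (Ne.symm hne)
      rw [show K w' = K w from he.symm, inter_self, hKc w hw] at this
      omega
    · have h0 : (K w ∩ K w').card = 0 := by
        rw [card_eq_zero]; exact disjoint_iff_inter_eq_empty.1 hd
      by_contra hn
      by_cases he : w' = w
      · rw [he, inter_self, hKc w hw] at h0; omega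
      · have := htwo w hw w' hw' he hn; omega

/-- Adjacency among the extra vertex, points and blocks. -/
def hsRel : Option (GolayPt ⊕ Finset GolayPt) → Option (GolayPt ⊕ Finset GolayPt) → Prop
  | none, some (Sum.inl _) => True
  | some (Sum.inl _), none => True
  | some (Sum.inl p), some (Sum.inr b) => p ∈ b
  | some (Sum.inr b), some (Sum.inl p) => p ∈ b
  | some (Sum.inr b), some (Sum.inr c) => Disjoint b c
  | _, _ => False

theorem exists_hs_coords_at (hG : G.IsSRGWith 100 22 0 6) (v : V) :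
    ∃ F : V → Option (GolayPt ⊕ Finset GolayPt), Function.Injective F ∧
      Set.range F = insert none (some '' (Sum.inl '' (X22 : Set GolayPt) ∪ Sum.inr '' std22)) ∧
      (∀ a b, G.Adj a b ↔ hsRel (F a) (F b)) ∧ F v = none := by
  obtain ⟨hind, hS, hpair⟩ := srg_design hG v
  let N := G.neighborFinset v
  let emb : {x // x ∈ N} ↪ V := Function.Embedding.subtype _
  let B : Set (Finset {x // x ∈ N}) :=
    {s | ∃ w, w ≠ v ∧ ¬ G.Adj v w ∧ N ∩ G.neighborFinset w = s.map emb}
  have hlift : ∀ l ⊆ N, (l.subtype fun p => p ∈ N).map emb = l := fun l hl =>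
    Finset.subtype_map_of_mem fun x hx => hl hx
  have hB : Cfsg.IsSteinerSystem 3 6 B := by
    refine ⟨fun b hb => by rw [← Finset.card_map emb]; exact (hS.1 _ hb).1, fun s hs => ?_⟩
    have hsN : s.map emb ⊆ N := by
      intro p hp
      obtain ⟨q, -, rfl⟩ := Finset.mem_map.1 hp
      exact q.2
    obtain ⟨b, ⟨hb, hsb⟩, hu⟩ := hS.2 (s.map emb) hsN (by rw [Finset.card_map, hs])
    refine ⟨b.subtype _, ⟨?_, ?_⟩, ?_⟩
    · show ∃ w, w ≠ v ∧ ¬ G.Adj v w ∧ N ∩ G.neighborFinset w = (b.subtype fun p => p ∈ N).map emb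
      rw [hlift b (hS.1 b hb).2]; exact hb
    · rw [← Finset.map_subset_map (f := emb), hlift b (hS.1 b hb).2]; exact hsb
    · rintro c ⟨hc, hsc⟩
      apply Finset.map_injective emb
      rw [hlift b (hS.1 b hb).2]
      exact hu _ ⟨hc, Finset.map_subset_map.2 hsc⟩
  obtain ⟨e, heX, he⟩ := exists_embed22 (α := {x // x ∈ N})
    (by rw [Fintype.card_coe]; exact hG.regular v) hB
  let K : V → Finset GolayPt := fun w =>
    (((N ∩ G.neighborFinset w).subtype fun p => p ∈ N)).map e
  let F : V → Option (GolayPt ⊕ Finset GolayPt) := fun a =>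
    if h : a ∈ N then some (Sum.inl (e ⟨a, h⟩)) else if a = v then none else some (Sum.inr (K a))
  have hvN : v ∉ N := by simp [N]
  have hFv : F v = none := by simp only [F]; rw [dif_neg hvN]; simp
  have hFN : ∀ a (h : a ∈ N), F a = some (Sum.inl (e ⟨a, h⟩)) := fun a h => dif_pos h
  have hFM : ∀ a, a ∉ N → a ≠ v → F a = some (Sum.inr (K a)) := fun a h h' => by
    simp only [F]; rw [dif_neg h, if_neg h']
  have memN : ∀ x, x ∈ N ↔ G.Adj v x := fun x => G.mem_neighborFinset v x
  have cases3 : ∀ a, a = v ∨ a ∈ N ∨ (a ≠ v ∧ a ∉ N) := by intro a; tauto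
  have hKin : ∀ x (h : x ∈ N) w, e ⟨x, h⟩ ∈ K w ↔ G.Adj w x := by
    intro x h w
    simp [K, h]
  have hKinj : ∀ w w', K w = K w' → N ∩ G.neighborFinset w = N ∩ G.neighborFinset w' := by
    intro w w' h
    have := congrArg (fun s => s.map emb) (Finset.map_injective e h)
    simp only [hlift _ Finset.inter_subset_left] at this
    exact this
  refine ⟨F, ?_, ?_, ?_, hFv⟩
  · intro a b hab
    rcases cases3 a with rfl | ha | ⟨ha, ha'⟩ <;> rcases cases3 b with rfl | hb | ⟨hb, hb'⟩
    · rfl
    · rw [hFv, hFN b hb] at hab; cases hab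
    · rw [hFv, hFM b hb' hb] at hab; cases hab
    · rw [hFv, hFN a ha] at hab; cases hab
    · rw [hFN a ha, hFN b hb, Option.some.injEq, Sum.inl.injEq] at hab
      exact congrArg Subtype.val (e.injective hab)
    · rw [hFN a ha, hFM b hb' hb] at hab; cases hab
    · rw [hFv, hFM a ha' ha] at hab; cases hab
    · rw [hFN b hb, hFM a ha' ha] at hab; cases hab
    · rw [hFM a ha' ha, hFM b hb' hb, Option.some.injEq, Sum.inr.injEq] at hab
      exact (hpair a ha (fun h => ha' ((memN a).2 h)) b hb (fun h => hb' ((memN b).2 h))).1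
        (hKinj a b hab)
  · ext z
    constructor
    · rintro ⟨a, rfl⟩
      rcases cases3 a with rfl | ha | ⟨ha, ha'⟩
      · rw [hFv]; exact Set.mem_insert _ _
      · rw [hFN a ha]
        refine Set.mem_insert_of_mem _ ⟨_, Or.inl ⟨_, ?_, rfl⟩, rfl⟩
        rw [← heX]; exact Finset.mem_map_of_mem e (Finset.mem_univ _)
      · rw [hFM a ha' ha]
        refine Set.mem_insert_of_mem _ ⟨_, Or.inr ⟨_, ?_, rfl⟩, rfl⟩
        rw [← he]
        refine ⟨_, ?_, rfl⟩
        refine ⟨a, ha, fun h => ha' ((memN a).2 h), ?_⟩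
        rw [hlift _ Finset.inter_subset_left]
    · rintro (rfl | ⟨_, (⟨p, hp, rfl⟩ | ⟨c, hc, rfl⟩), rfl⟩)
      · exact ⟨v, hFv⟩
      · rw [← heX] at hp
        obtain ⟨x, -, rfl⟩ := Finset.mem_map.1 hp
        exact ⟨x.1, hFN x.1 x.2⟩
      · rw [← he] at hc
        obtain ⟨s, ⟨w, hw, hw', hws⟩, rfl⟩ := hc
        refine ⟨w, ?_⟩
        rw [hFM w (fun h => hw' ((memN w).1 h)) hw]
        refine congrArg (fun x => some (Sum.inr (Finset.map e x))) (Finset.map_injective emb ?_)
        rw [hlift _ Finset.inter_subset_left, hws]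
  · intro a b
    rcases cases3 a with ha | ha | ⟨ha, ha'⟩ <;> rcases cases3 b with hb | hb | ⟨hb, hb'⟩
    · subst ha; subst hb; rw [hFv]; simp [hsRel]
    · subst ha; rw [hFv, hFN b hb]; simp [hsRel, (memN b).1 hb]
    · subst ha; rw [hFv, hFM b hb' hb]; simpa [hsRel] using fun h => hb' ((memN b).2 h)
    · subst hb; rw [hFv, hFN a ha]; simp [hsRel, ((memN a).1 ha).symm]
    · rw [hFN a ha, hFN b hb]; simp [hsRel, hind a ha b hb]
    · rw [hFN a ha, hFM b hb' hb]; simp only [hsRel]; rw [hKin]; exact G.adj_comm _ _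
    · subst hb; rw [hFv, hFM a ha' ha]; simpa [hsRel] using fun h => ha' ((memN a).2 h.symm)
    · rw [hFN b hb, hFM a ha' ha]; simp only [hsRel]; rw [hKin]
    · rw [hFM a ha' ha, hFM b hb' hb]
      simp only [hsRel]
      rw [(hpair a ha (fun h => ha' ((memN a).2 h)) b hb (fun h => hb' ((memN b).2 h))).2,
        Finset.disjoint_map, ← Finset.disjoint_map emb, hlift _ Finset.inter_subset_left,
        hlift _ Finset.inter_subset_left]

theorem exists_hs_coords (hG : G.IsSRGWith 100 22 0 6) :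
    ∃ F : V → Option (GolayPt ⊕ Finset GolayPt), Function.Injective F ∧
      Set.range F = insert none (some '' (Sum.inl '' (X22 : Set GolayPt) ∪ Sum.inr '' std22)) ∧
      ∀ a b, G.Adj a b ↔ hsRel (F a) (F b) := by
  obtain ⟨v⟩ : Nonempty V := Fintype.card_pos_iff.1 (by rw [hG.card]; norm_num)
  obtain ⟨F, h1, h2, h3, -⟩ := exists_hs_coords_at hG v
  exact ⟨F, h1, h2, h3⟩

end

theorem srg_iso {V W : Type*} [Fintype V] [Fintype W] {G : SimpleGraph V} {H : SimpleGraph W}
    [DecidableRel G.Adj] [DecidableRel H.Adj] (hG : G.IsSRGWith 100 22 0 6)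
    (hH : H.IsSRGWith 100 22 0 6) : Nonempty (G ≃g H) := by
  classical
  obtain ⟨F, hF, hFr, hFa⟩ := exists_hs_coords hG
  obtain ⟨F', hF', hFr', hFa'⟩ := exists_hs_coords hH
  let φ : V ≃ W := (Equiv.ofInjective F hF).trans
    ((Equiv.setCongr (hFr.trans hFr'.symm)).trans (Equiv.ofInjective F' hF').symm)
  have hφ : ∀ a, F' (φ a) = F a := fun a => Equiv.apply_ofInjective_symm hF' _
  exact ⟨⟨φ, fun {a b} => by rw [hFa', hFa, hφ, hφ]⟩⟩

end Cfsg.Agent.H29
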