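import Cfsg.Prelude.Def_SporadicB

/-!
The double cover of the alternating group of degree eight inside the Clifford group: pairs of an
even permutation and a matrix permuting eight anticommuting gamma matrices over `ZMod 17` that
preserves the bilinear form of the charge conjugation.
-/

set_option autoImplicit false

namespace Cfsg.Agent.H29.SpinEight

open Matrix Equiv

local notation "F" => ZMod 17
local notation "Mat" => Matrix (Fin 16) (Fin 16) (ZMod 17)

/-- The index with bit `k / 2` changed. -/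
def flipBit (k : Fin 8) (x : Fin 16) : Fin 16 :=
  ⟨(x.1 ^^^ 2 ^ (k.1 / 2)) % 16, Nat.mod_lt _ (by norm_num)⟩

/-- The coefficient of the monomial matrix `gam k` in row `x`. -/
def coef (k : Fin 8) (x : Fin 16) : F :=
  (List.range (k.1 / 2)).foldl (fun acc j => bif x.1.testBit j then -acc else acc)
    (bif k.1 % 2 == 1 then (bif x.1.testBit (k.1 / 2) then 4 else -4) else 1)

/-- The gamma matrices. -/
def gam (k : Fin 8) : Mat := Matrix.of fun x y => if y = flipBit k x then coef k x else 0

theorem two_ne_zero17 : (2 : F) ≠ 0 := by decide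

theorem fact17 : Fact (Nat.Prime 17) := ⟨by norm_num⟩

theorem flipBit_flipBit : ∀ k x, flipBit k (flipBit k x) = x := by decide +kernel

theorem gam_mul_apply (k : Fin 8) (M : Mat) (x y : Fin 16) :
    (gam k * M) x y = coef k x * M (flipBit k x) y := by
  rw [Matrix.mul_apply, Finset.sum_eq_single (flipBit k x)]
  · simp [gam]
  · intro z _ hz; simp [gam, hz]
  · simp

theorem mul_gam_apply (k : Fin 8) (M : Mat) (x y : Fin 16) :
    (M * gam k) x y = M x (flipBit k y) * coef k (flipBit k y) := by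
  rw [Matrix.mul_apply, Finset.sum_eq_single (flipBit k y)]
  · simp [gam, flipBit_flipBit]
  · intro z _ hz
    have : ¬ y = flipBit k z := fun e => hz (by rw [e, flipBit_flipBit])
    simp [gam, this]
  · simp

theorem pair_facts : ∀ k l : Fin 8, ∀ x : Fin 16,
    (k = l → coef k x * coef k (flipBit k x) = 1) ∧
    (k ≠ l → flipBit l (flipBit k x) = flipBit k (flipBit l x) ∧
      coef k x * coef l (flipBit k x) + coef l x * coef k (flipBit l x) = 0) := by decide +kernel

theorem gam_sq (k : Fin 8) : gam k * gam k = 1 := by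
  ext x y
  rw [gam_mul_apply]
  rcases eq_or_ne x y with rfl | hne
  · simp only [gam, Matrix.of_apply, flipBit_flipBit, if_true, Matrix.one_apply_eq]
    exact (pair_facts k k x).1 rfl
  · simp [gam, flipBit_flipBit, hne, Ne.symm hne]

theorem gam_anti {k l : Fin 8} (h : k ≠ l) : gam l * gam k = -(gam k * gam l) := by
  rw [eq_neg_iff_add_eq_zero]
  ext x y
  obtain ⟨h1, h2⟩ := (pair_facts k l x).2 h
  rw [Matrix.add_apply, gam_mul_apply, gam_mul_apply, Matrix.zero_apply]
  simp only [gam, Matrix.of_apply, h1]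
  by_cases hy : y = flipBit k (flipBit l x)
  · rw [if_pos hy, if_pos hy, add_comm]; exact h2
  · rw [if_neg hy, if_neg hy]; ring

/-- The charge conjugation. -/
def conjC : Mat := gam 1 * gam 3 * gam 5 * gam 7

theorem conj_facts : ∀ k : Fin 8, ∀ x : Fin 16,
    flipBit k (flipBit 7 (flipBit 5 (flipBit 3 (flipBit 1 x)))) =
      flipBit 7 (flipBit 5 (flipBit 3 (flipBit 1 (flipBit k x)))) ∧
    coef k (flipBit k x) *
        (coef 1 (flipBit k x) * coef 3 (flipBit 1 (flipBit k x)) *
          coef 5 (flipBit 3 (flipBit 1 (flipBit k x))) *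
          coef 7 (flipBit 5 (flipBit 3 (flipBit 1 (flipBit k x))))) =
      coef 1 x * coef 3 (flipBit 1 x) * coef 5 (flipBit 3 (flipBit 1 x)) *
        coef 7 (flipBit 5 (flipBit 3 (flipBit 1 x))) *
        coef k (flipBit 7 (flipBit 5 (flipBit 3 (flipBit 1 x)))) := by decide +kernel

theorem conjC_apply (x y : Fin 16) : conjC x y =
    if y = flipBit 7 (flipBit 5 (flipBit 3 (flipBit 1 x))) then
      coef 1 x * coef 3 (flipBit 1 x) * coef 5 (flipBit 3 (flipBit 1 x)) *
        coef 7 (flipBit 5 (flipBit 3 (flipBit 1 x))) else 0 := by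
  rw [conjC, Matrix.mul_assoc, Matrix.mul_assoc, gam_mul_apply, gam_mul_apply, gam_mul_apply]
  simp only [gam, Matrix.of_apply, mul_ite, mul_zero, mul_assoc]

theorem transpose_gam_conj (k : Fin 8) : (gam k)ᵀ * conjC = conjC * gam k := by
  ext x y
  obtain ⟨h1, h2⟩ := conj_facts k x
  rw [mul_gam_apply, Matrix.mul_apply, Finset.sum_eq_single (flipBit k x)]
  · simp only [Matrix.transpose_apply, gam, Matrix.of_apply, flipBit_flipBit, if_true,
      conjC_apply]
    by_cases hy : flipBit k y = flipBit 7 (flipBit 5 (flipBit 3 (flipBit 1 x)))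
    · have hy' : y = flipBit 7 (flipBit 5 (flipBit 3 (flipBit 1 (flipBit k x)))) := by
        rw [← h1, ← hy, flipBit_flipBit]
      rw [if_pos hy, if_pos hy', hy, h2]
    · have hy' : ¬ y = flipBit 7 (flipBit 5 (flipBit 3 (flipBit 1 (flipBit k x)))) := by
        rw [← h1]
        exact fun e => hy (by rw [e, flipBit_flipBit])
      rw [if_neg hy, if_neg hy']; ring
  · intro z _ hz
    have : ¬ x = flipBit k z := fun e => hz (by rw [e, flipBit_flipBit])
    simp [gam, this]
  · simp

theorem flip_ne : ∀ x y : Fin 16, x ≠ y → ∃ j : Fin 4, x.1.testBit j ≠ y.1.testBit j := by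
  decide +kernel

theorem coef_pair : ∀ (j : Fin 4) (x y : Fin 16), x.1.testBit j ≠ y.1.testBit j →
    flipBit ⟨2 * j, by omega⟩ x = flipBit ⟨2 * j + 1, by omega⟩ x ∧
    coef ⟨2 * j, by omega⟩ x * coef ⟨2 * j + 1, by omega⟩ (flipBit ⟨2 * j + 1, by omega⟩ (flipBit ⟨2 * j + 1, by omega⟩ y)) +
    coef ⟨2 * j + 1, by omega⟩ x * coef ⟨2 * j, by omega⟩ y = 0 ∧
    coef ⟨2 * j, by omega⟩ x ≠ 0 ∧ coef ⟨2 * j + 1, by omega⟩ y ≠ 0 := by decide +kernel

theorem coef_diag : ∀ (k : Fin 8) (x : Fin 16), coef k x ≠ 0 := by decide +kernel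

theorem eq_scalar {M : Mat} (h : ∀ k, M * gam k = gam k * M) :
    M = M 0 0 • (1 : Mat) := by
  have key : ∀ k x y, M x y * coef k y = coef k x * M (flipBit k x) (flipBit k y) := by
    intro k x y
    have e := congrFun (congrFun (h k) x) (flipBit k y)
    rw [mul_gam_apply, gam_mul_apply, flipBit_flipBit] at e
    exact e
  have hoff : ∀ x y, x ≠ y → M x y = 0 := by
    intro x y hxy
    obtain ⟨j, hj⟩ := flip_ne x y hxy
    obtain ⟨hf, hsum, hne, hne'⟩ := coef_pair j x y hj
    rw [flipBit_flipBit] at hsum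
    have e1 := key ⟨2 * j, by omega⟩ x y
    have e2 := key ⟨2 * j + 1, by omega⟩ x y
    have hfy : flipBit ⟨2 * j, by omega⟩ y = flipBit ⟨2 * j + 1, by omega⟩ y :=
      (coef_pair j y x (Ne.symm hj)).1
    rw [hf, hfy] at e1
    have hM0 : M x y * (2 * (coef ⟨2 * j, by omega⟩ x * coef ⟨2 * j + 1, by omega⟩ y)) = 0 := by
      linear_combination (coef ⟨2 * j, by omega⟩ x) * e2 - (coef ⟨2 * j + 1, by omega⟩ x) * e1
        + M x y * hsum
    haveI := fact17
    have h20 : (2 : ZMod 17) ≠ 0 := two_ne_zero17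
    rcases mul_eq_zero.1 hM0 with h0 | h0
    · exact h0
    · rcases mul_eq_zero.1 h0 with h0 | h0
      · exact absurd h0 h20
      · rcases mul_eq_zero.1 h0 with h0 | h0
        · exact absurd h0 hne
        · exact absurd h0 hne'
  have hdiag : ∀ k x, M (flipBit k x) (flipBit k x) = M x x := by
    intro k x
    haveI := fact17
    have e := key k x x
    rw [mul_comm] at e
    exact (mul_left_cancel₀ (coef_diag k x) e).symm
  have hdesc : ∀ x : Fin 16, x = 0 ∨ ∃ k, flipBit k x < x := by decide +kernel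
  have hall : ∀ x, M x x = M 0 0 := by
    intro x
    induction x using WellFoundedLT.induction with
    | _ x ih =>
      rcases hdesc x with rfl | ⟨k, hk⟩
      · rfl
      · rw [← hdiag k x]
        exact ih _ hk
  ext x y
  rcases eq_or_ne x y with rfl | hne
  · simp [hall x]
  · simp [hoff x y hne, hne]

attribute [irreducible] gam conjC

/-- The sign of a permutation as an element of the field. -/
def sgn (σ : Perm (Fin 8)) : F := ((Perm.sign σ : ℤ) : F)

theorem sgn_mul (σ τ : Perm (Fin 8)) : sgn (σ * τ) = sgn σ * sgn τ := by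
  simp [sgn, Int.cast_mul]

theorem sgn_sq (σ : Perm (Fin 8)) : sgn σ * sgn σ = 1 := by
  rcases Int.units_eq_one_or (Perm.sign σ) with h | h <;> simp [sgn, h]

/-- Pairs of a permutation and a matrix permuting the gamma matrices accordingly. -/
def pinGroup : Subgroup (Perm (Fin 8) × Matˣ) where
  carrier := {p | (∀ k, (p.2 : Mat) * gam k = sgn p.1 • (gam (p.1 k) * (p.2 : Mat))) ∧
    (p.2 : Mat)ᵀ * conjC * (p.2 : Mat) = conjC}
  one_mem' := ⟨fun k => by simp [sgn], by simp⟩
  mul_mem' := by
    rintro ⟨σ, M⟩ ⟨τ, N⟩ ⟨h1, h2⟩ ⟨h3, h4⟩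
    refine ⟨fun k => ?_, ?_⟩
    · simp only [Prod.fst_mul, Prod.snd_mul, Units.val_mul, sgn_mul, Perm.mul_apply]
      rw [Matrix.mul_assoc, h3 k, Matrix.mul_smul, ← Matrix.mul_assoc, h1, Matrix.smul_mul,
        smul_smul, Matrix.mul_assoc, mul_comm]
    · simp only [Prod.snd_mul, Units.val_mul, Matrix.transpose_mul]
      calc (N : Mat)ᵀ * (M : Mat)ᵀ * conjC * ((M : Mat) * (N : Mat))
          = (N : Mat)ᵀ * ((M : Mat)ᵀ * conjC * (M : Mat)) * (N : Mat) := by
            simp only [Matrix.mul_assoc]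
        _ = conjC := by rw [h2, h4]
  inv_mem' := by
    rintro ⟨σ, M⟩ ⟨h1, h2⟩
    refine ⟨fun k => ?_, ?_⟩
    · have hs : sgn σ⁻¹ = sgn σ := by simp [sgn]
      have e : (M : Mat) * gam (σ⁻¹ k) = sgn σ • (gam k * (M : Mat)) := by
        have e := h1 (σ⁻¹ k)
        have hk : σ (σ⁻¹ k) = k := Equiv.apply_symm_apply σ k
        simp only [hk] at e
        exact e
      simp only [Prod.fst_inv, Prod.snd_inv, hs]
      have e2 : (M : Mat) * gam (σ⁻¹ k) * (↑M⁻¹ : Mat) = sgn σ • gam k := by
        rw [e, Matrix.smul_mul, Matrix.mul_assoc, Units.mul_inv, Matrix.mul_one]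
      have e3 : gam (σ⁻¹ k) * (↑M⁻¹ : Mat) = sgn σ • ((↑M⁻¹ : Mat) * gam k) := by
        rw [← Matrix.mul_smul, ← e2, ← Matrix.mul_assoc, ← Matrix.mul_assoc, Units.inv_mul,
          Matrix.one_mul]
      rw [e3, smul_smul, sgn_sq, one_smul]
    · simp only [Prod.snd_inv]
      conv_lhs => rw [← h2]
      calc (↑M⁻¹ : Mat)ᵀ * ((M : Mat)ᵀ * conjC * (M : Mat)) * (↑M⁻¹ : Mat)
          = ((M : Mat) * (↑M⁻¹ : Mat))ᵀ * conjC * ((M : Mat) * (↑M⁻¹ : Mat)) := by
            simp only [Matrix.transpose_mul, Matrix.mul_assoc]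
        _ = conjC := by simp

/-- The unit vector `3 (γ a - γ b)`. -/
def vec (a b : Fin 8) : Mat := (3 : F) • (gam a - gam b)

theorem vec_sq {a b : Fin 8} (h : a ≠ b) : vec a b * vec a b = 1 := by
  simp only [vec, Matrix.smul_mul, Matrix.mul_smul, sub_mul, mul_sub, gam_sq, gam_anti h]
  trans ((3 : F) * 3 * 2) • (1 : Mat)
  · module
  · rw [show (3 : F) * 3 * 2 = 1 by decide, one_smul]

theorem vec_gam {a b : Fin 8} (h : a ≠ b) (k : Fin 8) :
    vec a b * gam k = -(gam (swap a b k) * vec a b) := by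
  simp only [vec, Matrix.smul_mul, Matrix.mul_smul, sub_mul, mul_sub]
  rcases eq_or_ne k a with rfl | ha
  · rw [swap_apply_left, gam_sq, gam_sq]
    module
  rcases eq_or_ne k b with rfl | hb
  · rw [swap_apply_right, gam_sq, gam_sq]
    module
  rw [swap_apply_of_ne_of_ne ha hb, gam_anti ha, gam_anti hb]
  module

theorem vec_vec {a b c d : Fin 8} (hab : a ≠ b) (hca : c ≠ a) (hcb : c ≠ b) (hda : d ≠ a)
    (hdb : d ≠ b) : vec a b * vec c d = -(vec c d * vec a b) := by
  have e : ∀ k, k ≠ a → k ≠ b → vec a b * gam k = -(gam k * vec a b) := fun k h1 h2 => by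
    have := vec_gam hab k
    rwa [swap_apply_of_ne_of_ne h1 h2] at this
  generalize vec a b = v at e ⊢
  simp only [vec, Matrix.smul_mul, Matrix.mul_smul, sub_mul, mul_sub, e c hca hcb, e d hda hdb,
    smul_neg]
  module

attribute [irreducible] vec

/-- The vector as a unit. -/
def vecUnit {a b : Fin 8} (h : a ≠ b) : Matˣ := ⟨vec a b, vec a b, vec_sq h, vec_sq h⟩

theorem vecUnit_mem {a b : Fin 8} (h : a ≠ b) : (swap a b, vecUnit h) ∈ pinGroup := by
  refine ⟨fun k => ?_, ?_⟩
  · show vec a b * gam k = sgn (swap a b) • (gam (swap a b k) * vec a b)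
    rw [vec_gam h k, sgn, Perm.sign_swap h]
    simp
  · show (vec a b)ᵀ * conjC * vec a b = conjC
    have hc : (vec a b)ᵀ * conjC = conjC * vec a b := by
      simp only [vec, Matrix.transpose_smul, Matrix.transpose_sub, Matrix.smul_mul, Matrix.mul_smul,
        sub_mul, mul_sub, transpose_gam_conj]
    rw [hc, Matrix.mul_assoc, vec_sq h, Matrix.mul_one]

theorem pin_surj (σ : Perm (Fin 8)) : ∃ M, (σ, M) ∈ pinGroup := by
  have : σ ∈ (pinGroup.map (MonoidHom.fst _ _)).toSubmonoid := by
    have h : Submonoid.closure (Set.range fun i : Fin 7 => swap i.castSucc i.succ) ≤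
        (pinGroup.map (MonoidHom.fst (Perm (Fin 8)) Matˣ)).toSubmonoid := by
      rw [Submonoid.closure_le]
      rintro _ ⟨i, rfl⟩
      exact ⟨_, vecUnit_mem Fin.castSucc_lt_succ.ne, rfl⟩
    rw [Perm.mclosure_swap_castSucc_succ] at h
    exact h trivial
  obtain ⟨⟨τ, M⟩, hM, rfl⟩ := this
  exact ⟨M, hM⟩

theorem pin_ker {M : Matˣ} (h : ((1 : Perm (Fin 8)), M) ∈ pinGroup) : M = 1 ∨ M = -1 := by
  obtain ⟨h1, h2⟩ := h
  have hs : ∀ k, (M : Mat) * gam k = gam k * (M : Mat) := fun k => by simpa [sgn] using h1 k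
  have hM := eq_scalar hs
  set c := (M : Mat) 0 0
  simp only at h2
  rw [hM, Matrix.transpose_smul, Matrix.transpose_one, Matrix.smul_mul, Matrix.one_mul,
    Matrix.mul_smul, Matrix.mul_one, smul_smul] at h2
  have hc : c * c = 1 := by
    have hne : conjC 0 (flipBit 7 (flipBit 5 (flipBit 3 (flipBit 1 0)))) ≠ 0 := by
      rw [conjC_apply, if_pos rfl]; decide +kernel
    have e := congrFun (congrFun h2 0) (flipBit 7 (flipBit 5 (flipBit 3 (flipBit 1 0))))
    rw [Matrix.smul_apply, smul_eq_mul] at e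
    haveI := fact17
    exact (mul_eq_right₀ hne).1 e
  have hcc : c = 1 ∨ c = -1 := by
    revert hc; generalize c = d; revert d; decide +kernel
  rcases hcc with h | h
  · exact Or.inl (Units.ext (by rw [hM, h, one_smul]; rfl))
  · exact Or.inr (Units.ext (by rw [hM, h, neg_one_smul]; rfl))

/-- The even part. -/
def spinGroup8 : Subgroup (Perm (Fin 8) × Matˣ) :=
  pinGroup ⊓ (alternatingGroup (Fin 8)).comap (MonoidHom.fst _ _)

/-- The map to the alternating group. -/
def toAlt : spinGroup8 →* alternatingGroup (Fin 8) :=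
  ((MonoidHom.fst _ _).comp spinGroup8.subtype).codRestrict _ fun p => p.2.2

theorem toAlt_surj : Function.Surjective toAlt := fun σ => by
  obtain ⟨M, hM⟩ := pin_surj σ
  exact ⟨⟨(σ.1, M), hM, σ.2⟩, rfl⟩

theorem vec_prod_mem {a b c d : Fin 8} (h : a ≠ b) (h' : c ≠ d) :
    (swap a b * swap c d, vecUnit h * vecUnit h') ∈ spinGroup8 :=
  Subgroup.mem_inf.2 ⟨by rw [← Prod.mk_mul_mk]; exact mul_mem (vecUnit_mem h) (vecUnit_mem h'), by
    rw [Subgroup.mem_comap, MonoidHom.coe_fst, Perm.mem_alternatingGroup, map_mul,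
      Perm.sign_swap h, Perm.sign_swap h']; rfl⟩

theorem neg_one_mem : ((1 : Perm (Fin 8)), (-1 : Matˣ)) ∈ spinGroup8 :=
  Subgroup.mem_inf.2 ⟨⟨fun k => by simp [sgn], by simp⟩, by
    rw [Subgroup.mem_comap, MonoidHom.coe_fst]; exact one_mem _⟩

theorem neg_one_ne : (-1 : Matˣ) ≠ 1 := fun e => by
  have := Matrix.ext_iff.2 (congrArg Units.val e) 0 0
  simp at this
  exact absurd this (by decide)

/-- The double cover with two involutions. -/
theorem exists_double_cover :
    ∃ (H : Type) (_ : Group H) (_ : Finite H),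
      Cfsg.IsNonsplitDoubleCover H (alternatingGroup (Fin 8)) ∧
        ∃ x y : H, x ≠ y ∧ orderOf x = 2 ∧ orderOf y = 2 := by
  have hker : ∀ p : spinGroup8, toAlt p = 1 ↔ p.1 = (1, 1) ∨ p.1 = (1, -1) := by
    intro p
    constructor
    · intro h
      have h1 : p.1.1 = 1 := congrArg Subtype.val h
      rcases pin_ker (M := p.1.2) (h1 ▸ p.2.1) with e | e
      · exact Or.inl (Prod.ext h1 e)
      · exact Or.inr (Prod.ext h1 e)
    · rintro (e | e) <;> exact Subtype.ext (congrArg Prod.fst e)
  have hcen : Subgroup.center spinGroup8 = toAlt.ker := by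
    refine le_antisymm (fun p hp => ?_) (fun p hp => ?_)
    · have : toAlt p ∈ Subgroup.center (alternatingGroup (Fin 8)) := by
        rw [Subgroup.mem_center_iff]
        intro σ
        obtain ⟨q, rfl⟩ := toAlt_surj σ
        rw [← map_mul, ← map_mul, Subgroup.mem_center_iff.1 hp q]
      rwa [alternatingGroup.center_eq_bot (by simp), Subgroup.mem_bot] at this
    · rw [Subgroup.mem_center_iff]
      intro q
      rcases (hker p).1 hp with e | e <;>
        exact Subtype.ext (Prod.ext (by simp [e]) (Units.ext (by simp [e])))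
  let z : spinGroup8 := ⟨_, neg_one_mem⟩
  have hz1 : z ≠ 1 := fun e => neg_one_ne (congrArg (fun p : spinGroup8 => p.1.2) e)
  refine ⟨spinGroup8, inferInstance, inferInstance, ⟨?_, ?_, ?_⟩, ?_⟩
  · rw [Nat.card_eq_two_iff' (1 : Subgroup.center spinGroup8)]
    refine ⟨⟨z, ?_⟩, fun e => hz1 (congrArg Subtype.val e), fun p hp => ?_⟩
    · rw [hcen]; exact (hker z).2 (Or.inr rfl)
    · have hp' : (p : spinGroup8) ∈ toAlt.ker := by rw [← hcen]; exact p.2
      rcases (hker p.1).1 hp' with e | e
      · exact absurd (Subtype.ext (Subtype.ext e)) hp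
      · exact Subtype.ext (Subtype.ext e)
  · exact ⟨(QuotientGroup.quotientMulEquivOfEq hcen).trans
      (QuotientGroup.quotientKerEquivOfSurjective toAlt toAlt_surj)⟩
  · intro L hL
    let a : spinGroup8 := ⟨_, vec_prod_mem (show (0 : Fin 8) ≠ 1 by decide) (show (2 : Fin 8) ≠ 3 by decide)⟩
    obtain ⟨⟨⟨c, hc⟩, ⟨l, hl⟩⟩, he⟩ := hL.2 a
    simp only at he
    have hck : c ∈ toAlt.ker := by rw [← hcen]; exact hc
    have hc' : c.1 = (1, 1) ∨ c.1 = (1, -1) := (hker c).1 hck
    have ha2 : a * a = z := by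
      refine Subtype.ext (Prod.ext ?_ (Units.ext ?_))
      · show (swap (0 : Fin 8) 1 * swap 2 3) * (swap 0 1 * swap 2 3) = 1
        decide +kernel
      · show vec 0 1 * vec 2 3 * (vec 0 1 * vec 2 3) = -1
        calc vec 0 1 * vec 2 3 * (vec 0 1 * vec 2 3)
            = vec 0 1 * (vec 2 3 * vec 0 1) * vec 2 3 := by simp only [Matrix.mul_assoc]
          _ = -1 := by
            rw [vec_vec (by decide) (by decide) (by decide) (by decide) (by decide),
              Matrix.mul_neg, Matrix.neg_mul, ← Matrix.mul_assoc, vec_sq (by decide),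
              Matrix.one_mul, vec_sq (by decide)]
    have hl2 : l * l = z := by
      rw [← ha2, ← he]
      rcases hc' with e | e <;>
        exact Subtype.ext (Prod.ext (by simp [e]) (Units.ext (by simp [e])))
    have hzL : z ∈ L := hl2 ▸ mul_mem hl hl
    have hzC : z ∈ Subgroup.center spinGroup8 := by rw [hcen]; exact (hker z).2 (Or.inr rfl)
    exact hz1 (Subgroup.mem_bot.1 (hL.disjoint.le_bot ⟨hzC, hzL⟩))
  · let y : spinGroup8 := ⟨_, mul_mem
      (vec_prod_mem (show (0 : Fin 8) ≠ 1 by decide) (show (2 : Fin 8) ≠ 3 by decide))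
      (vec_prod_mem (show (4 : Fin 8) ≠ 5 by decide) (show (6 : Fin 8) ≠ 7 by decide))⟩
    have hy1 : y.1.1 ≠ 1 := by
      show (swap (0 : Fin 8) 1 * swap 2 3) * (swap 4 5 * swap 6 7) ≠ 1
      decide +kernel
    refine ⟨z, y, fun e => hy1 (congrArg (fun p : spinGroup8 => p.1.1) e).symm, ?_, ?_⟩
    · refine orderOf_eq_prime (Subtype.ext (Prod.ext (by simp [z, pow_two])
        (Units.ext (by simp [z, pow_two])))) hz1
    · refine orderOf_eq_prime (Subtype.ext (Prod.ext ?_ (Units.ext ?_)))
        fun e => hy1 (congrArg (fun p : spinGroup8 => p.1.1) e)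
      · show ((swap (0 : Fin 8) 1 * swap 2 3) * (swap 4 5 * swap 6 7)) ^ 2 = 1
        decide +kernel
      · rw [pow_two]
        show vec 0 1 * vec 2 3 * (vec 4 5 * vec 6 7) * (vec 0 1 * vec 2 3 * (vec 4 5 * vec 6 7)) = 1
        have e1 := vec_vec (a := 4) (b := 5) (c := 0) (d := 1) (by decide) (by decide) (by decide)
          (by decide) (by decide)
        have e2 := vec_vec (a := 6) (b := 7) (c := 0) (d := 1) (by decide) (by decide) (by decide)
          (by decide) (by decide)
        have e3 := vec_vec (a := 4) (b := 5) (c := 2) (d := 3) (by decide) (by decide) (by decide)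
          (by decide) (by decide)
        have e4 := vec_vec (a := 6) (b := 7) (c := 2) (d := 3) (by decide) (by decide) (by decide)
          (by decide) (by decide)
        have e5 := vec_vec (a := 2) (b := 3) (c := 0) (d := 1) (by decide) (by decide) (by decide)
          (by decide) (by decide)
        have e6 := vec_vec (a := 6) (b := 7) (c := 4) (d := 5) (by decide) (by decide) (by decide)
          (by decide) (by decide)
        have s1 := vec_sq (a := 0) (b := 1) (by decide)
        have s2 := vec_sq (a := 2) (b := 3) (by decide)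
        have s3 := vec_sq (a := 4) (b := 5) (by decide)
        have s4 := vec_sq (a := 6) (b := 7) (by decide)
        generalize vec 0 1 = p at *
        generalize vec 2 3 = q at *
        generalize vec 4 5 = r at *
        generalize vec 6 7 = t at *
        calc p * q * (r * t) * (p * q * (r * t))
            = p * (q * (r * (t * p))) * (q * (r * t)) := by simp only [Matrix.mul_assoc]
          _ = -(p * (q * (r * p))) * (t * (q * (r * t))) := by
              rw [e2]; simp only [Matrix.mul_neg, Matrix.neg_mul, Matrix.mul_assoc]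
          _ = (p * (q * p)) * r * (t * q) * (r * t) := by
              rw [e1]; simp only [Matrix.mul_neg, Matrix.neg_mul, neg_neg, Matrix.mul_assoc]
          _ = ((p * p) * q) * (r * q) * ((t * r) * t) := by
              rw [e5, e4]; simp only [Matrix.mul_neg, Matrix.neg_mul, neg_neg, Matrix.mul_assoc]
          _ = (q * q) * (r * r) * (t * t) := by
              rw [s1, e3, e6]; simp only [Matrix.one_mul, Matrix.mul_neg, Matrix.neg_mul, neg_neg, Matrix.mul_assoc]
          _ = 1 := by rw [s2, s3, s4]; simp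

end Cfsg.Agent.H29.SpinEight
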