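import Cfsg.Prelude.Def_SporadicB

/-!
In a non-split double cover of an alternating group of degree at most seven the central involution
is the only one: otherwise the transfer to a suitable Sylow 2-subgroup gives a complement.
-/

set_option autoImplicit false

namespace Cfsg.Agent.H29

open Equiv

theorem cycleType_even_involution {n : ℕ} (hn : n ≤ 7) {σ : Perm (Fin n)} (h : orderOf σ = 2)
    (hs : Perm.sign σ = 1) : σ.cycleType = Multiset.replicate 2 2 := by
  obtain ⟨k, hk⟩ := Perm.cycleType_prime_order (h.symm ▸ Nat.prime_two)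
  rw [h] at hk
  have hsum := Perm.sum_cycleType_le σ
  rw [hk, Multiset.sum_replicate, smul_eq_mul, Fintype.card_fin] at hsum
  rw [Perm.sign_of_cycleType, hk, Multiset.sum_replicate, Multiset.card_replicate, smul_eq_mul,
    pow_add, pow_mul', Int.units_sq, one_pow, one_mul] at hs
  have hk2 : k ≤ 2 := by omega
  interval_cases k
  · exact absurd hs (by decide)
  · exact hk
  · exact absurd hs (by decide)

/-- An involution of the alternating group is conjugate to a given one with an odd centraliser. -/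
theorem exists_conj_involution {n : ℕ} (hn : n ≤ 7) (t b : alternatingGroup (Fin n))
    (ht : orderOf t = 2) (hb : orderOf b = 2) (w : Perm (Fin n)) (hw : Perm.sign w = -1)
    (hwb : w * (b : Perm (Fin n)) = (b : Perm (Fin n)) * w) :
    ∃ g : alternatingGroup (Fin n), g * b * g⁻¹ = t := by
  have hc : IsConj (b : Perm (Fin n)) t := by
    rw [Perm.isConj_iff_cycleType_eq, cycleType_even_involution hn (by rw [Subgroup.orderOf_coe, hb])
      (Perm.mem_alternatingGroup.1 b.2), cycleType_even_involution hn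
      (by rw [Subgroup.orderOf_coe, ht]) (Perm.mem_alternatingGroup.1 t.2)]
  obtain ⟨g, hg⟩ := isConj_iff.1 hc
  rcases Int.units_eq_one_or (Perm.sign g) with hs | hs
  · exact ⟨⟨g, Perm.mem_alternatingGroup.2 hs⟩, Subtype.ext hg⟩
  · refine ⟨⟨g * w, Perm.mem_alternatingGroup.2 (by rw [map_mul, hs, hw]; rfl)⟩, Subtype.ext ?_⟩
    show g * w * (b : Perm (Fin n)) * (g * w)⁻¹ = t
    rw [mul_assoc g w, hwb, ← hg]
    group

/-- The data: a dihedral Sylow 2-subgroup and an odd permutation centralising a reflection. -/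
structure DihedralSylow (n m : ℕ) where
  a : alternatingGroup (Fin n)
  b : alternatingGroup (Fin n)
  w : Perm (Fin n)
  hm : m = 2 ∨ m = 4
  ha : a ^ m = 1
  ha' : ∀ i : Fin m, (i : ℕ) ≠ 0 → a ^ (i : ℕ) ≠ 1
  hb : b ^ 2 = 1
  hb' : b ≠ 1
  hba : (b * a) ^ 2 = 1
  hab : ∀ i : Fin m, a ^ (i : ℕ) * b ≠ 1
  hw : Perm.sign w = -1
  hwb : w * (b : Perm (Fin n)) = (b : Perm (Fin n)) * w
  hodd : ∃ q, Odd q ∧ Nat.card (alternatingGroup (Fin n)) = 2 * m * q

theorem unique_involution_of_data {n m : ℕ} (hn : n ≤ 7) (D : DihedralSylow n m) {H : Type*}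
    [Group H] [Finite H] (hH : Cfsg.IsNonsplitDoubleCover H (alternatingGroup (Fin n))) :
    ∀ x : H, orderOf x = 2 → x ∈ Subgroup.center H := by
  obtain ⟨hZ, ⟨φ⟩, hns⟩ := hH
  intro x hx
  by_contra hxZ
  set π : H →* alternatingGroup (Fin n) := φ.toMonoidHom.comp (QuotientGroup.mk' _) with hπdef
  have hπs : Function.Surjective π := φ.surjective.comp (QuotientGroup.mk'_surjective _)
  have hker : ∀ g, π g = 1 ↔ g ∈ Subgroup.center H := by
    intro g
    rw [hπdef, MonoidHom.comp_apply, MulEquiv.coe_toMonoidHom, EmbeddingLike.map_eq_one_iff,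
      QuotientGroup.mk'_apply, QuotientGroup.eq_one_iff]
  have hz2 : ∀ z ∈ Subgroup.center H, z ^ 2 = 1 := by
    intro z hz
    have := pow_card_eq_one' (x := (⟨z, hz⟩ : Subgroup.center H))
    rw [hZ] at this
    exact congrArg Subtype.val this
  have hx2 : x ^ 2 = 1 := hx ▸ pow_orderOf_eq_one x
  have hpx : orderOf (π x) = 2 := orderOf_eq_prime
    (by rw [← map_pow, hx2, map_one]) fun e => hxZ ((hker x).1 e)
  -- every lift of an involution squares to one
  have hsq : ∀ h, π h ^ 2 = 1 → h ^ 2 = 1 := by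
    intro h hh
    by_cases h1 : π h = 1
    · exact hz2 h ((hker h).1 h1)
    · have hb := orderOf_eq_prime D.hb D.hb'
      obtain ⟨g₁, hg₁⟩ := exists_conj_involution hn (π x) D.b hpx hb D.w D.hw D.hwb
      obtain ⟨g₂, hg₂⟩ := exists_conj_involution hn (π h) D.b (orderOf_eq_prime hh h1) hb D.w D.hw D.hwb
      obtain ⟨k, hk⟩ := hπs (g₂ * g₁⁻¹)
      have hkh : π ((k * x * k⁻¹)⁻¹ * h) = 1 := by
        rw [map_mul, map_inv, map_mul, map_mul, map_inv, hk, ← hg₁, ← hg₂]
        group
      have hc := (hker _).1 hkh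
      have e : h = (k * x * k⁻¹) * ((k * x * k⁻¹)⁻¹ * h) := by group
      rw [e, Commute.mul_pow (Subgroup.mem_center_iff.1 hc _), hz2 _ hc, mul_one, conj_pow, hx2]
      group
  obtain ⟨r, hr⟩ := hπs D.a
  obtain ⟨s, hs⟩ := hπs D.b
  have hs2 : s ^ 2 = 1 := hsq s (by rw [hs, D.hb])
  have hsr : (s * r) ^ 2 = 1 := hsq _ (by rw [map_mul, hs, hr, D.hba])
  have hrm : r ^ m = 1 := by
    rcases D.hm with rfl | rfl
    · exact hsq r (by rw [hr, D.ha])
    · rw [show (4 : ℕ) = 2 * 2 from rfl, pow_mul]
      exact hsq _ (by rw [map_pow, hr, ← pow_mul, D.ha]) |>.trans rfl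
  have hsinv : s⁻¹ = s := inv_eq_of_mul_eq_one_right (by rw [← pow_two, hs2])
  have hconj : ∀ i : ℕ, s * r ^ i = (r ^ i)⁻¹ * s := by
    intro i
    induction i with
    | zero => simp
    | succ i ih =>
      have h1 : s * r = r⁻¹ * s := by
        have := hsr
        rw [pow_two] at this
        have e : (s * r)⁻¹ = s * r := inv_eq_of_mul_eq_one_right this
        rw [← e, mul_inv_rev, hsinv]
      rw [pow_succ, ← mul_assoc, ih, mul_assoc, h1, ← mul_assoc]
      congr 1
      group
  have hm0 : 0 < m := by rcases D.hm with rfl | rfl <;> norm_num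
  let S : Set H := {g | ∃ i : ℕ, g = r ^ i ∨ g = r ^ i * s}
  have hinv : ∀ i : ℕ, (r ^ i)⁻¹ = r ^ (i * (m - 1)) := by
    intro i
    refine inv_eq_of_mul_eq_one_right ?_
    rw [← pow_add, show i + i * (m - 1) = m * i by
      obtain ⟨m', rfl⟩ := Nat.exists_eq_add_of_le hm0
      simp; ring, pow_mul, hrm, one_pow]
  let L : Subgroup H :=
    { carrier := S
      one_mem' := ⟨0, Or.inl (by simp)⟩
      inv_mem' := by
        rintro g ⟨i, rfl | rfl⟩
        · exact ⟨i * (m - 1), Or.inl (hinv i)⟩
        · refine ⟨i, Or.inr ?_⟩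
          rw [mul_inv_rev, hsinv, hinv i, hconj, ← hinv i, inv_inv]
      mul_mem' := by
        rintro g h ⟨i, hg⟩ ⟨j, hh⟩
        rcases hg with rfl | rfl <;> rcases hh with rfl | rfl
        · exact ⟨i + j, Or.inl (pow_add r i j).symm⟩
        · exact ⟨i + j, Or.inr (by rw [← mul_assoc, ← pow_add])⟩
        · exact ⟨i + j * (m - 1), Or.inr (by rw [mul_assoc, hconj, ← mul_assoc, hinv, ← pow_add])⟩
        · exact ⟨i + j * (m - 1), Or.inl (by
            rw [mul_assoc, ← mul_assoc s, hconj, mul_assoc, ← pow_two, hs2, mul_one, hinv,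
              ← pow_add])⟩ }
  have hmemL : ∀ g ∈ L, ∃ i : Fin m, g = r ^ (i : ℕ) ∨ g = r ^ (i : ℕ) * s := by
    rintro g ⟨i, hg⟩
    exact ⟨⟨i % m, Nat.mod_lt _ hm0⟩, by
      simpa [← pow_eq_pow_mod i hrm] using hg⟩
  have hLcard : Nat.card L = 2 * m := by
    let f : Fin m × Fin 2 → L := fun p => ⟨if p.2 = 0 then r ^ (p.1 : ℕ) else r ^ (p.1 : ℕ) * s,
      ⟨p.1, by by_cases h : p.2 = 0 <;> simp [h]⟩⟩
    have hinj : ∀ i j : Fin m, (i : ℕ) ≤ j → π (r ^ (i : ℕ)) = π (r ^ (j : ℕ)) → i = j := by
      intro i j hij he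
      rw [map_pow, map_pow, hr, ← Nat.add_sub_cancel' hij, pow_add, left_eq_mul] at he
      by_contra hne
      exact D.ha' ⟨(j : ℕ) - i, by omega⟩ (by
        simp only
        have : (i : ℕ) ≠ j := fun e => hne (Fin.ext e)
        omega) he
    have hinj' : ∀ i j : Fin m, π (r ^ (i : ℕ)) = π (r ^ (j : ℕ)) → i = j := fun i j he =>
      (le_total (i : ℕ) j).elim (fun h => hinj i j h he) fun h => (hinj j i h he.symm).symm
    have hne : ∀ i j : Fin m, π (r ^ (i : ℕ)) ≠ π (r ^ (j : ℕ) * s) := by
      intro i j he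
      rw [map_mul, map_pow, map_pow, hr, hs] at he
      apply D.hab ⟨((j : ℕ) + ((m : ℕ) - i)) % m, Nat.mod_lt _ hm0⟩
      simp only
      rw [← pow_eq_pow_mod _ D.ha, add_comm, pow_add, mul_assoc, ← he, ← pow_add,
        Nat.sub_add_cancel i.2.le, D.ha]
    have hb : Function.Bijective f := by
      refine ⟨?_, fun g => ?_⟩
      · rintro ⟨i, c⟩ ⟨j, d⟩ he
        have he' := congrArg (fun g : L => π g.1) he
        simp only [f] at he'
        fin_cases c <;> fin_cases d <;> simp at he' ⊢
        · exact hinj' i j (by simpa using he')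
        · exact (hne i j (by simpa using he')).elim
        · exact (hne j i (by simpa using he'.symm)).elim
        · exact hinj' i j (by simpa using he')
      · obtain ⟨i, hi | hi⟩ := hmemL g.1 g.2
        · exact ⟨(i, 0), Subtype.ext (by simp [f, hi])⟩
        · exact ⟨(i, 1), Subtype.ext (by simp [f, hi])⟩
    rw [← Nat.card_congr (Equiv.ofBijective f hb), Nat.card_prod, Nat.card_fin, Nat.card_fin,
      mul_comm]
  have hdis : ∀ g ∈ L, g ∈ Subgroup.center H → g = 1 := by
    intro g hg hgc
    have h1 := (hker g).2 hgc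
    obtain ⟨i, rfl | rfl⟩ := hmemL g hg
    · rw [map_pow, hr] at h1
      by_contra hne
      exact D.ha' i (fun e => hne (by rw [e, pow_zero])) h1
    · rw [map_mul, map_pow, hr, hs] at h1
      exact absurd h1 (D.hab i)
  let P : Subgroup H := L ⊔ Subgroup.center H
  have hPmem : ∀ p ∈ P, ∃ l ∈ L, ∃ z ∈ Subgroup.center H, l * z = p := by
    intro p hp
    rwa [Subgroup.mem_sup_of_normal_right] at hp
  have hPcard : Nat.card P = 2 * m * 2 := by
    have hb : Function.Bijective fun q : L × Subgroup.center H =>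
        (⟨q.1 * q.2, mul_mem (le_sup_left (b := Subgroup.center H) q.1.2)
          (le_sup_right (a := L) q.2.2)⟩ : P) := by
      refine ⟨fun q q' e => ?_, fun p => ?_⟩
      · exact Subgroup.mul_injective_of_disjoint
          (disjoint_iff.2 ((Subgroup.eq_bot_iff_forall _).2 fun g hg => hdis g hg.1 hg.2))
          (congrArg Subtype.val e)
      · obtain ⟨l, hl, z, hz, e⟩ := hPmem p.1 p.2
        exact ⟨(⟨l, hl⟩, ⟨z, hz⟩), Subtype.ext e⟩
    rw [← Nat.card_congr (Equiv.ofBijective _ hb), Nat.card_prod, hLcard, hZ]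
  let K : Subgroup P := L.subgroupOf P
  have hK : K.index = 2 := by
    have h := K.card_mul_index
    rw [Nat.card_congr (Subgroup.subgroupOfEquivOfLe (le_sup_left : L ≤ P)).toEquiv, hLcard,
      hPcard] at h
    exact Nat.eq_of_mul_eq_mul_left (by omega) h
  classical
  let lam : P →* Multiplicative (ZMod 2) :=
    { toFun := fun g => if g ∈ K then 1 else Multiplicative.ofAdd 1
      map_one' := by simp
      map_mul' := fun g h => by
        rw [Subgroup.mul_mem_iff_of_index_two hK]
        by_cases hg : g ∈ K <;> by_cases hh : h ∈ K <;> simp [hg, hh] <;> decide }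
  obtain ⟨q, hq, hA⟩ := D.hodd
  have hHcard : Nat.card H = 2 * m * q * 2 := by
    have h := (Subgroup.center H).card_mul_index
    rw [hZ, show (Subgroup.center H).index = Nat.card (H ⧸ Subgroup.center H) from rfl,
      Nat.card_congr φ.toEquiv, hA] at h
    rw [← h, mul_comm]
  have hidx : P.index = q := by
    have h := P.card_mul_index
    rw [hPcard, hHcard] at h
    exact Nat.eq_of_mul_eq_mul_left (by omega : 0 < 2 * m * 2) (by rw [h]; ring)
  haveI : P.FiniteIndex := inferInstance
  set τ := lam.transfer with hτ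
  have hτz : ∀ z ∈ Subgroup.center H, z ≠ 1 → τ z ≠ 1 := by
    intro z hz hz1
    have key : ∀ (k : ℕ) (g₀ : H), g₀⁻¹ * z ^ k * g₀ ∈ P → g₀⁻¹ * z ^ k * g₀ = z ^ k := by
      intro k g₀ _
      rw [mul_assoc, ← Subgroup.mem_center_iff.1 (pow_mem hz k) g₀, inv_mul_cancel_left]
    rw [hτ, MonoidHom.transfer_eq_pow lam z key]
    have hzq : z ^ P.index = z := by
      obtain ⟨j, hj⟩ := hq
      rw [hidx, hj, pow_succ, pow_mul, hz2 z hz, one_pow, one_mul]
    show (if (⟨z ^ P.index, _⟩ : P) ∈ K then (1 : Multiplicative (ZMod 2)) else _) ≠ 1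
    rw [if_neg]
    · decide
    · intro hK'
      have : z ^ P.index ∈ L := hK'
      rw [hzq] at this
      exact hz1 (hdis z this hz)
  refine hns τ.ker (Subgroup.isComplement'_of_card_mul_and_disjoint ?_ ?_)
  · have h2 := τ.ker.card_mul_index
    obtain ⟨⟨z, hz⟩, hzne⟩ : ∃ z : Subgroup.center H, z ≠ 1 := by
      by_contra hall
      push Not at hall
      haveI : Subsingleton (Subgroup.center H) := ⟨fun u v => (hall u).trans (hall v).symm⟩
      rw [Nat.card_of_subsingleton (1 : Subgroup.center H)] at hZ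
      omega
    have hz1 : z ≠ 1 := fun e => hzne (Subtype.ext e)
    have hidx2 : τ.ker.index = 2 := by
      rw [Subgroup.index_ker]
      refine le_antisymm ((Subgroup.card_le_card_group _).trans (by simp)) ?_
      by_contra hlt
      have h1 : Nat.card τ.range = 1 := by have := Nat.card_pos (α := τ.range); omega
      rw [Subgroup.card_eq_one] at h1
      exact hτz z hz hz1 (Subgroup.mem_bot.1 (h1 ▸ ⟨z, rfl⟩))
    rw [hidx2] at h2
    rw [hZ, mul_comm, h2]
  · rw [disjoint_iff, Subgroup.eq_bot_iff_forall]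
    intro g hg
    by_contra hne
    exact hτz g hg.1 hne hg.2

def data4 : DihedralSylow 4 2 where
  a := ⟨swap 0 1 * swap 2 3, Perm.mem_alternatingGroup.2 (by decide)⟩
  b := ⟨swap 0 2 * swap 1 3, Perm.mem_alternatingGroup.2 (by decide)⟩
  w := swap 0 2
  hm := Or.inl rfl
  ha := by decide +kernel
  ha' := by decide +kernel
  hb := by decide +kernel
  hb' := by decide +kernel
  hba := by decide +kernel
  hab := by decide +kernel
  hw := by decide +kernel
  hwb := by decide +kernel
  hodd := ⟨3, by decide, by rw [nat_card_alternatingGroup, Nat.card_fin]; rfl⟩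

def data5 : DihedralSylow 5 2 where
  a := ⟨swap 0 1 * swap 2 3, Perm.mem_alternatingGroup.2 (by decide)⟩
  b := ⟨swap 0 2 * swap 1 3, Perm.mem_alternatingGroup.2 (by decide)⟩
  w := swap 0 2
  hm := Or.inl rfl
  ha := by decide +kernel
  ha' := by decide +kernel
  hb := by decide +kernel
  hb' := by decide +kernel
  hba := by decide +kernel
  hab := by decide +kernel
  hw := by decide +kernel
  hwb := by decide +kernel
  hodd := ⟨15, by decide, by rw [nat_card_alternatingGroup, Nat.card_fin]; rfl⟩

def data6 : DihedralSylow 6 4 where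
  a := ⟨swap 0 1 * swap 1 2 * swap 2 3 * swap 4 5, Perm.mem_alternatingGroup.2 (by decide)⟩
  b := ⟨swap 0 2 * swap 4 5, Perm.mem_alternatingGroup.2 (by decide)⟩
  w := swap 0 2
  hm := Or.inr rfl
  ha := by decide +kernel
  ha' := by decide +kernel
  hb := by decide +kernel
  hb' := by decide +kernel
  hba := by decide +kernel
  hab := by decide +kernel
  hw := by decide +kernel
  hwb := by decide +kernel
  hodd := ⟨45, by decide, by rw [nat_card_alternatingGroup, Nat.card_fin]; rfl⟩

def data7 : DihedralSylow 7 4 where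
  a := ⟨swap 0 1 * swap 1 2 * swap 2 3 * swap 4 5, Perm.mem_alternatingGroup.2 (by decide)⟩
  b := ⟨swap 0 2 * swap 4 5, Perm.mem_alternatingGroup.2 (by decide)⟩
  w := swap 0 2
  hm := Or.inr rfl
  ha := by decide +kernel
  ha' := by decide +kernel
  hb := by decide +kernel
  hb' := by decide +kernel
  hba := by decide +kernel
  hab := by decide +kernel
  hw := by decide +kernel
  hwb := by decide +kernel
  hodd := ⟨315, by decide, by rw [nat_card_alternatingGroup, Nat.card_fin]; rfl⟩

/-- The central involution is the only one. -/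
theorem involution_unique {n : ℕ} {H : Type*} [Group H] [Finite H] (hn : n ≤ 7)
    (hH : Cfsg.IsNonsplitDoubleCover H (alternatingGroup (Fin n))) (x y : H) (hx : orderOf x = 2)
    (hy : orderOf y = 2) : x = y := by
  have key : ∀ u : H, orderOf u = 2 → u ∈ Subgroup.center H := by
    obtain ⟨hZ, ⟨φ⟩, hns⟩ := hH
    rcases Nat.lt_or_ge n 4 with h4 | h4
    · intro u _
      have hcyc : IsCyclic (alternatingGroup (Fin n)) := by
        have hc : Nat.card (alternatingGroup (Fin n)) = 1 ∨ Nat.card (alternatingGroup (Fin n)) = 3 := by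
          interval_cases n
          all_goals first
            | (left; rw [Nat.card_eq_fintype_card]; decide)
            | (right; rw [Nat.card_eq_fintype_card]; decide)
        rcases hc with h | h
        · haveI := (Nat.card_eq_one_iff_unique.1 h).1
          infer_instance
        · haveI : Fact (Nat.Prime 3) := ⟨by norm_num⟩
          exact isCyclic_of_prime_card h
      haveI := hcyc
      rw [Subgroup.mem_center_iff]
      intro v
      exact (φ.toMonoidHom.comp (QuotientGroup.mk' (Subgroup.center H))).isMulCommutative_of_isCyclic_of_ker_le_center (by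
        intro g hg
        simpa [EmbeddingLike.map_eq_one_iff] using hg) |>.is_comm.comm v u
    · interval_cases n
      · exact unique_involution_of_data (by norm_num) data4 ⟨hZ, ⟨φ⟩, hns⟩
      · exact unique_involution_of_data (by norm_num) data5 ⟨hZ, ⟨φ⟩, hns⟩
      · exact unique_involution_of_data (by norm_num) data6 ⟨hZ, ⟨φ⟩, hns⟩
      · exact unique_involution_of_data le_rfl data7 ⟨hZ, ⟨φ⟩, hns⟩
  have h2 := (Nat.card_eq_two_iff' (1 : Subgroup.center H)).1 hH.1
  have hne : ∀ {u : H}, orderOf u = 2 → u ≠ 1 := fun h e => by simp [e] at h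
  exact congrArg Subtype.val
    (h2.unique (y₁ := ⟨x, key x hx⟩) (y₂ := ⟨y, key y hy⟩)
      (fun e => hne hx (congrArg Subtype.val e)) (fun e => hne hy (congrArg Subtype.val e)))

end Cfsg.Agent.H29
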