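import Cfsg.Agent.H29.SteinerMask

/-!
Explicit block lists of S(4,5,11) and S(5,6,12) as bit masks, with the kernel-checked search
results: from the seven normalised blocks there are exactly six completions, related by the six
symmetries of a two-coloured hexagon; the derived system determines S(5,6,12).
-/

set_option autoImplicit false

namespace Cfsg.Agent.H29

/-- The seven normalised blocks. -/
def init11 : List ℕ := [31, 103, 391, 1543, 203, 779, 1067]

/-- The blocks of the standard S(4,5,11). -/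
def std11 : List ℕ :=
  [31, 103, 124, 173, 186, 203, 214, 241, 302, 307, 341, 346, 361, 391, 409, 436,
   460, 482, 566, 569, 589, 595, 618, 654, 661, 675, 728, 740, 779, 796, 805, 838,
   880, 914, 936, 961, 1067, 1077, 1102, 1113, 1138, 1171, 1180, 1190, 1221, 1256, 1293, 1302,
   1336, 1347, 1380, 1418, 1441, 1488, 1543, 1562, 1580, 1620, 1633, 1673, 1712, 1730, 1809, 1826,
   1864, 1924]

/-- The blocks through the last point of the standard S(5,6,12). -/
def init12 : List ℕ := std11.map fun c => c ||| 2 ^ 11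

/-- The blocks of the standard S(5,6,12). -/
def std12 : List ℕ :=
  [123, 183, 221, 238, 317, 335, 374, 414, 427, 467, 485, 504, 559, 606, 629, 667,
   700, 711, 745, 754, 791, 826, 857, 867, 876, 909, 934, 945, 970, 980, 1086, 1111,
   1133, 1167, 1209, 1242, 1251, 1268, 1307, 1319, 1372, 1386, 1393, 1429, 1452, 1458, 1478, 1481,
   1565, 1587, 1611, 1638, 1656, 1686, 1701, 1706, 1740, 1745, 1806, 1833, 1844, 1861, 1874, 1923,
   1944, 2016, 2079, 2151, 2172, 2221, 2234, 2251, 2262, 2289, 2350, 2355, 2389, 2394, 2409, 2439,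
   2457, 2484, 2508, 2530, 2614, 2617, 2637, 2643, 2666, 2702, 2709, 2723, 2776, 2788, 2827, 2844,
   2853, 2886, 2928, 2962, 2984, 3009, 3115, 3125, 3150, 3161, 3186, 3219, 3228, 3238, 3269, 3304,
   3341, 3350, 3384, 3395, 3428, 3466, 3489, 3536, 3591, 3610, 3628, 3668, 3681, 3721, 3760, 3778,
   3857, 3874, 3912, 3972]

/-- Permutations of the eleven points fixing 0,...,4 and preserving the two matchings. -/
def hexSym : List (Equiv.Perm (Fin 11)) :=
  [⟨![0,1,2,3,4,5,6,7,8,9,10], ![0,1,2,3,4,5,6,7,8,9,10], by decide, by decide⟩, ⟨![0,1,2,3,4,6,5,10,9,8,7], ![0,1,2,3,4,6,5,10,9,8,7], by decide, by decide⟩, ⟨![0,1,2,3,4,7,8,9,10,5,6], ![0,1,2,3,4,9,10,5,6,7,8], by decide, by decide⟩, ⟨![0,1,2,3,4,8,7,6,5,10,9], ![0,1,2,3,4,8,7,6,5,10,9], by decide, by decide⟩, ⟨![0,1,2,3,4,9,10,5,6,7,8], ![0,1,2,3,4,7,8,9,10,5,6], by decide, by decide⟩, ⟨![0,1,2,3,4,10,9,8,7,6,5], ![0,1,2,3,4,10,9,8,7,6,5], by decide, by decide⟩]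

/-- Leaf test for S(4,5,11). -/
def leaf11 (ch : List ℕ) : Bool :=
  hexSym.any fun p => ch.all (fun c => (std11.map (mapMask p)).contains c) &&
    std11.all (fun c => ch.contains (mapMask p c))

/-- Leaf test for S(5,6,12). -/
def leaf12 (ch : List ℕ) : Bool :=
  ch.all (fun c => std12.contains c) && std12.all (fun c => ch.contains c)

theorem search11 :
    search 11 leaf11 (tMasks 11 4) (init11.foldl (fun acc c => acc ||| cover 11 c) 0) init11 = true := by
  decide +kernel

theorem search12 :
    search 12 leaf12 (tMasks 12 5) (init12.foldl (fun acc c => acc ||| cover 12 c) 0) init12 = true := by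
  decide +kernel

end Cfsg.Agent.H29
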