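import Cfsg.Agent.H29.SteinerBasic
import Cfsg.Agent.H29.SteinerData

/-!
S(4,5,11) and S(5,6,12) are rigid: a system and four (five) distinct points determine exactly
one isomorphism with the standard system.
-/

set_option autoImplicit false

namespace Cfsg.Agent.H29

/-- The standard S(4,5,11). -/
def Std11 : Set (Finset (Fin 11)) := {s | ∃ c ∈ std11, ofMask 11 c = s}

/-- The standard S(5,6,12). -/
def Std12 : Set (Finset (Fin 12)) := {s | ∃ c ∈ std12, ofMask 12 c = s}

theorem std11_lt : ∀ c ∈ std11, c < 2 ^ 11 := by decide +kernel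

theorem std12_lt : ∀ c ∈ std12, c < 2 ^ 12 := by decide +kernel

theorem mem_std11_iff {m : ℕ} (hm : m < 2 ^ 11) : ofMask 11 m ∈ Std11 ↔ m ∈ std11 :=
  ⟨fun ⟨c, hc, h⟩ => ofMask_inj (std11_lt c hc) hm h ▸ hc, fun h => ⟨m, h, rfl⟩⟩

/-- Two fixed-point-free involutions on six points with no common edge form a hexagon. -/
theorem hexagon {β : Type*} [DecidableEq β] (U : Finset β) (hU : U.card = 6) (f g : β → β)
    (hf : ∀ q ∈ U, f q ∈ U) (hg : ∀ q ∈ U, g q ∈ U) (hff : ∀ q ∈ U, f (f q) = q)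
    (hgg : ∀ q ∈ U, g (g q) = q) (hf1 : ∀ q ∈ U, f q ≠ q) (hg1 : ∀ q ∈ U, g q ≠ q)
    (hfg : ∀ q ∈ U, f q ≠ g q) :
    ∃ a b c d e h, U = {a, b, c, d, e, h} ∧ f a = b ∧ g b = c ∧ f c = d ∧ g d = e ∧ f e = h ∧
      g h = a := by
  obtain ⟨a, ha⟩ : U.Nonempty := Finset.card_pos.1 (by omega)
  have hb := hf a ha
  set b := f a with hfa
  have hc := hg b hb
  set c := g b with hgb
  have hd := hf c hc
  set d := f c with hfc
  have he := hg d hd
  set e := g d with hgd
  have hh := hf e he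
  set h := f e with hfe
  have fb : f b = a := by rw [hfa]; exact hff a ha
  have gc : g c = b := by rw [hgb]; exact hgg b hb
  have fd : f d = c := by rw [hfc]; exact hff c hc
  have ge : g e = d := by rw [hgd]; exact hgg d hd
  have fh : f h = e := by rw [hfe]; exact hff e he
  have ab : a ≠ b := (hf1 a ha).symm
  have bc : b ≠ c := (hg1 b hb).symm
  have cd : c ≠ d := (hf1 c hc).symm
  have de : d ≠ e := (hg1 d hd).symm
  have eh : e ≠ h := (hf1 e he).symm
  have ac : a ≠ c := fun hx => hfg b hb (by rw [fb, ← hgb, ← hx])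
  have bd : b ≠ d := fun hx => ac (by rw [← fb, ← fd, hx])
  have ad : a ≠ d := fun hx => bc (by rw [hfa, hx, fd])
  have ce : c ≠ e := fun hx => bd (by rw [← gc, ← ge, hx])
  have be : b ≠ e := fun hx => cd (by rw [hgb, hx, ge])
  have ae : a ≠ e := by
    intro hx
    have hsub : ({a, b, c, d} : Finset β) ⊆ U := by
      simp [Finset.insert_subset_iff, ha, hb, hc, hd]
    have hcard : (U \ {a, b, c, d}).card = 2 := by
      rw [Finset.card_sdiff_of_subset hsub, hU]
      simp [ab, ac, ad, bc, bd, cd]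
    obtain ⟨z, w, hzw, hw⟩ := Finset.card_eq_two.1 hcard
    have hz : z ∈ U ∧ z ∉ ({a, b, c, d} : Finset β) := Finset.mem_sdiff.1 (by rw [hw]; simp)
    have ga : g a = d := by rw [hx]; exact ge
    simp only [Finset.mem_insert, Finset.mem_singleton, not_or] at hz
    have key : ∀ F : β → β, (∀ q ∈ U, F q ∈ U) → (∀ q ∈ U, F (F q) = q) → F z ≠ z →
        (∀ x ∈ ({a, b, c, d} : Finset β), F x ∈ ({a, b, c, d} : Finset β)) → F z = w := by
      intro F h1 h2 h3 h4
      have hm : F z ∈ U \ {a, b, c, d} := by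
        rw [Finset.mem_sdiff]
        refine ⟨h1 z hz.1, fun hc' => ?_⟩
        have h5 := h4 _ hc'
        rw [h2 z hz.1] at h5
        simp [hz.2] at h5
      rw [hw] at hm
      simpa [h3] using hm
    refine hfg z hz.1 ((key f hf hff (hf1 z hz.1) ?_).trans (key g hg hgg (hg1 z hz.1) ?_).symm)
    · simp [← hfa, fb, ← hfc, fd]
    · simp [ga, ← hgb, gc, ← hgd, ← hx]
  have ah : a ≠ h := fun hx => be (by rw [hfa, hx, fh])
  have bh : b ≠ h := fun hx => ae (by rw [← fb, ← fh, hx])
  have ch : c ≠ h := fun hx => de (by rw [hfc, hx, fh])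
  have dh : d ≠ h := fun hx => ce (by rw [← fd, ← fh, hx])
  have hUeq : U = {a, b, c, d, e, h} := by
    symm
    apply Finset.eq_of_subset_of_card_le
    · simp [Finset.insert_subset_iff, ha, hb, hc, hd, he, hh]
    · rw [hU]; simp [ab, ac, ad, ae, ah, bc, bd, be, bh, cd, ce, ch, de, dh, eh]
  refine ⟨a, b, c, d, e, h, hUeq, rfl, rfl, rfl, rfl, rfl, ?_⟩
  have hm := hg h hh
  have g1 := hgg h hh
  have g2 := hg1 h hh
  rw [hUeq] at hm
  simp only [Finset.mem_insert, Finset.mem_singleton] at hm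
  rcases hm with hm | hm | hm | hm | hm | hm
  · exact hm
  · exact absurd (by rw [hm, ← hgb] at g1; exact g1) ch
  · exact absurd (by rw [hm, gc] at g1; exact g1) bh
  · exact absurd (by rw [hm, ← hgd] at g1; exact g1) eh
  · exact absurd (by rw [hm, ge] at g1; exact g1) dh
  · exact absurd hm g2

theorem last_notMem_map (s : Finset (Fin 11)) : Fin.last 11 ∉ s.map Fin.castSuccEmb := by
  intro h
  obtain ⟨x, _, hx⟩ := Finset.mem_map.1 h
  exact Fin.castSucc_ne_last x hx

section Eleven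

variable {α : Type*}

/-- The isomorphisms from the standard S(4,5,11). -/
def IsIso11 (B : Set (Finset α)) (e : Fin 11 ≃ α) : Prop :=
  ∀ s : Finset (Fin 11), s.map e.toEmbedding ∈ B ↔ s ∈ Std11

/-- The fifth point of the standard block through four points. -/
def fifth11 (a b c d : Fin 11) : Fin 11 :=
  ((List.finRange 11).find? fun e => !decide (e ∈ [a, b, c, d]) &&
    std11.contains (2 ^ a.val ||| 2 ^ b.val ||| 2 ^ c.val ||| 2 ^ d.val ||| 2 ^ e.val)).getD 0

/-- The candidate automorphism fixing 0,...,4 and sending 5 to `v`. -/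
def hexExt (v : Fin 11) : Fin 11 → Fin 11 :=
  let p6 := fifth11 0 1 2 v
  let p7 := fifth11 0 1 3 p6
  let p8 := fifth11 0 1 2 p7
  let p9 := fifth11 0 1 3 p8
  let p10 := fifth11 0 1 2 p9
  ![0, 1, 2, 3, 4, v, p6, p7, p8, p9, p10]

theorem mask5 (a b c d z : Fin 11) :
    ofMask 11 (2 ^ a.val ||| 2 ^ b.val ||| 2 ^ c.val ||| 2 ^ d.val ||| 2 ^ z.val) = {a, b, c, d, z} := by
  rw [ofMask_or, ofMask_or, ofMask_or, ofMask_or]
  have : ofMask 11 (2 ^ a.val) = {a} := by
    ext j; simp [mem_ofMask, Nat.testBit_two_pow, Fin.ext_iff, eq_comm]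
  rw [this]
  ext j
  simp only [Finset.mem_insert, Finset.mem_singleton, or_comm, or_left_comm]

theorem fifth11_eq (hS : Cfsg.IsSteinerSystem 4 5 Std11) {A B C D z : Fin 11}
    (h : ({A, B, C, D, z} : Finset (Fin 11)) ∈ Std11) : z = fifth11 A B C D := by
  have hins : ({A, B, C, D, z} : Finset (Fin 11)) = insert z {A, B, C, D} := by
    ext v; simp only [Finset.mem_insert, Finset.mem_singleton, or_comm, or_left_comm]
  have hcard := hS.1 _ h
  rw [hins] at hcard
  have hzs : z ∉ ({A, B, C, D} : Finset (Fin 11)) := by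
    intro hz
    rw [Finset.insert_eq_self.2 hz] at hcard
    have h4 : ({A, B, C, D} : Finset (Fin 11)).card ≤ 4 := Finset.card_le_four
    omega
  rw [Finset.card_insert_of_notMem hzs] at hcard
  have h4c : ({A, B, C, D} : Finset (Fin 11)).card = 4 := by omega
  have hzl : z ∉ [A, B, C, D] := by
    intro hz; apply hzs; simpa using hz
  have hlt : 2 ^ A.val ||| 2 ^ B.val ||| 2 ^ C.val ||| 2 ^ D.val ||| 2 ^ z.val < 2 ^ 11 := by
    refine Nat.or_lt_two_pow (Nat.or_lt_two_pow (Nat.or_lt_two_pow (Nat.or_lt_two_pow ?_ ?_) ?_) ?_) ?_ <;>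
      exact Nat.pow_lt_pow_right one_lt_two (Fin.isLt _)
  have hin : (2 ^ A.val ||| 2 ^ B.val ||| 2 ^ C.val ||| 2 ^ D.val ||| 2 ^ z.val) ∈ std11 := by
    refine (mem_std11_iff hlt).1 ?_
    rw [mask5]; exact h
  unfold fifth11
  generalize hl : List.finRange 11 = l
  generalize hs : std11 = sl at hin
  have hzmem : z ∈ l := hl ▸ List.mem_finRange z
  cases hf : l.find? (fun e => !decide (e ∈ [A, B, C, D]) &&
      sl.contains (2 ^ A.val ||| 2 ^ B.val ||| 2 ^ C.val ||| 2 ^ D.val ||| 2 ^ e.val)) with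
  | none =>
    exfalso
    have h0 := List.find?_eq_none.1 hf z hzmem
    apply h0
    simp only [Bool.and_eq_true, Bool.not_eq_true', decide_eq_false_iff_not, List.contains_iff_mem]
    exact ⟨hzl, hin⟩
  | some w =>
    rw [Option.getD_some]
    have hw := List.find?_some hf
    simp only [Bool.and_eq_true, Bool.not_eq_true', decide_eq_false_iff_not, List.contains_iff_mem] at hw
    have hwb : ({A, B, C, D, w} : Finset (Fin 11)) ∈ Std11 := ⟨_, hs ▸ hw.2, mask5 _ _ _ _ _⟩
    have heq := block_eq hS h hwb h4c (by simp [Finset.subset_iff]) (by simp [Finset.subset_iff])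
    have hm : z ∈ ({A, B, C, D, w} : Finset (Fin 11)) := by rw [← heq]; simp
    simp only [List.mem_cons, List.not_mem_nil, or_false, not_or] at hzl
    simp only [Finset.mem_insert, Finset.mem_singleton] at hm
    rcases hm with hm | hm | hm | hm | hm
    · exact absurd hm hzl.1
    · exact absurd hm hzl.2.1
    · exact absurd hm hzl.2.2.1
    · exact absurd hm hzl.2.2.2
    · exact hm

theorem hexSym_fix : ∀ p ∈ hexSym, p 0 = 0 ∧ p 1 = 1 ∧ p 2 = 2 ∧ p 3 = 3 := by
  intro p hp
  simp only [hexSym, List.mem_cons, List.not_mem_nil, or_false] at hp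
  rcases hp with rfl | rfl | rfl | rfl | rfl | rfl <;> exact ⟨rfl, rfl, rfl, rfl⟩

theorem hexExt_all : (List.finRange 11).all (fun v => decide (v.val ≤ 4) ||
    (List.finRange 11).all (fun i => hexExt v i == i) ||
    std11.any (fun c => !std11.contains (mapMask (hexExt v) c))) = true := by decide +kernel

theorem hexExt_check (v : Fin 11) : v.val ≤ 4 ∨ hexExt v = id ∨
    (std11.any fun c => !std11.contains (mapMask (hexExt v) c)) = true := by
  have h := List.all_eq_true.1 hexExt_all v (List.mem_finRange v)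
  simp only [Bool.or_eq_true, decide_eq_true_eq, List.all_eq_true, beq_iff_eq] at h
  rcases h with (h | h) | h
  · exact Or.inl h
  · exact Or.inr (Or.inl (funext fun i => h i (List.mem_finRange i)))
  · exact Or.inr (Or.inr h)

theorem exists_iso11 [Fintype α] (hα : Fintype.card α = 11) {B : Set (Finset α)}
    (hB : Cfsg.IsSteinerSystem 4 5 B) (x : Fin 4 ↪ α) :
    ∃ e : Fin 11 ≃ α, (∀ i : Fin 4, e (i.castLE (by omega)) = x i) ∧ IsIso11 B e := by
  classical
  have hx : ∀ {i j : Fin 4}, i ≠ j → x i ≠ x j := fun hij => x.injective.ne hij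
  set S : Finset α := {x 0, x 1, x 2, x 3} with hS
  have hScard : S.card = 4 := by simp [hS, x.injective.eq_iff]
  obtain ⟨B0, ⟨hB0, hSB0⟩, -⟩ := hB.2 S hScard
  have hdiff : (B0 \ S).card = 1 := by rw [Finset.card_sdiff_of_subset hSB0, hB.1 _ hB0, hScard]
  obtain ⟨a4, ha4⟩ := Finset.card_eq_one.1 hdiff
  have ha4' : a4 ∈ B0 ∧ a4 ∉ S := Finset.mem_sdiff.1 (by rw [ha4]; simp)
  have hB0eq : B0 = {x 0, x 1, x 2, x 3, a4} := by
    rw [← Finset.union_sdiff_of_subset hSB0, ha4, hS]
    ext; simp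
  have hx0 : ∀ i, x i ∈ B0 := by
    intro i; fin_cases i <;> simp [hB0eq]
  set U : Finset α := Finset.univ \ B0 with hU
  have hUcard : U.card = 6 := by
    rw [hU, Finset.card_sdiff_of_subset (Finset.subset_univ _), Finset.card_univ, hα, hB.1 _ hB0]
  have memU : ∀ {q}, q ∈ U ↔ q ∉ B0 := by simp [hU]
  have partner : ∀ k : Fin 4, k ≠ 0 → k ≠ 1 → ∀ q ∈ U, ∃ q' ∈ U, q' ≠ q ∧
      ({x 0, x 1, x k, q, q'} : Finset α) ∈ B := by
    intro k hk0 hk1 q hq
    have hq' := memU.1 hq
    have hne : ∀ i, q ≠ x i := fun i hh => hq' (hh ▸ hx0 i)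
    have hTc : ({x 0, x 1, x k, q} : Finset α).card = 4 := by
      simp [x.injective.eq_iff, hk0.symm, hk1.symm, (hne _).symm]
    obtain ⟨b, ⟨hb, hTb⟩, -⟩ := hB.2 _ hTc
    have hd : (b \ {x 0, x 1, x k, q}).card = 1 := by
      rw [Finset.card_sdiff_of_subset hTb, hB.1 _ hb, hTc]
    obtain ⟨q', hq''⟩ := Finset.card_eq_one.1 hd
    have hq3 : q' ∈ b ∧ q' ∉ ({x 0, x 1, x k, q} : Finset α) := Finset.mem_sdiff.1 (by rw [hq'']; simp)
    have hbeq : b = {x 0, x 1, x k, q, q'} := by
      rw [← Finset.union_sdiff_of_subset hTb, hq'']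
      ext; simp
    refine ⟨q', memU.2 fun hh => hq' ?_, ?_, hbeq ▸ hb⟩
    · simp only [Finset.mem_insert, Finset.mem_singleton, not_or] at hq3
      have hWc : ({x 0, x 1, x k, q'} : Finset α).card = 4 := by
        simp [x.injective.eq_iff, hk0.symm, hk1.symm, Ne.symm hq3.2.1, Ne.symm hq3.2.2.1, Ne.symm hq3.2.2.2.1]
      have heq := block_eq hB hb hB0 hWc (by rw [hbeq]; simp [Finset.subset_iff])
        (by simp [Finset.insert_subset_iff, hx0, hh])
      rw [← heq]; exact hTb (by simp)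
    · intro hh
      simp [hh] at hq3
  have hchoose : ∀ k : Fin 4, k ≠ 0 → k ≠ 1 → ∃ f : α → α, (∀ q ∈ U, f q ∈ U) ∧ (∀ q ∈ U, f q ≠ q) ∧
      (∀ q ∈ U, f (f q) = q) ∧ ∀ q ∈ U, ({x 0, x 1, x k, q, f q} : Finset α) ∈ B := by
    intro k hk0 hk1
    choose! f h1 h2 h3 using partner k hk0 hk1
    refine ⟨f, h1, h2, fun q hq => ?_, h3⟩
    have b1 := h3 q hq
    have b2 := h3 (f q) (h1 q hq)
    have hc : ({x 0, x 1, x k, f q} : Finset α).card = 4 := by
      have hne : ∀ i, f q ≠ x i := fun i hh => memU.1 (h1 q hq) (hh ▸ hx0 i)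
      simp [x.injective.eq_iff, hk0.symm, hk1.symm, (hne _).symm]
    have heq := block_eq hB b2 b1 hc (by simp [Finset.subset_iff]) (by simp [Finset.subset_iff])
    have hm : f (f q) ∈ ({x 0, x 1, x k, q, f q} : Finset α) := by rw [← heq]; simp
    simp only [Finset.mem_insert, Finset.mem_singleton] at hm
    have hne : ∀ i, f (f q) ≠ x i := fun i hh => memU.1 (h1 _ (h1 q hq)) (hh ▸ hx0 i)
    have hne2 := h2 (f q) (h1 q hq)
    rcases hm with hm | hm | hm | hm | hm
    · exact absurd hm (hne 0)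
    · exact absurd hm (hne 1)
    · exact absurd hm (hne k)
    · exact hm
    · exact absurd hm hne2
  obtain ⟨f, hfU, hf1, hff, hfB⟩ := hchoose 2 (by decide) (by decide)
  obtain ⟨g, hgU, hg1, hgg, hgB⟩ := hchoose 3 (by decide) (by decide)
  have hfg : ∀ q ∈ U, f q ≠ g q := by
    intro q hq hh
    have hne : ∀ i, q ≠ x i := fun i he => memU.1 hq (he ▸ hx0 i)
    have hne' : ∀ i, f q ≠ x i := fun i he => memU.1 (hfU q hq) (he ▸ hx0 i)
    have hc : ({x 0, x 1, q, f q} : Finset α).card = 4 := by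
      simp [x.injective.eq_iff, (hne _).symm, (hne' _).symm, Ne.symm (hf1 q hq)]
    have heq := block_eq hB (hfB q hq) (hgB q hq) hc (by simp [Finset.subset_iff])
      (by rw [← hh]; simp [Finset.subset_iff])
    have hm : x 3 ∈ ({x 0, x 1, x 2, q, f q} : Finset α) := by rw [heq]; simp
    simp [x.injective.eq_iff, (hne 3).symm, (hne' 3).symm] at hm
  obtain ⟨a, b, c, d, e, h, hUeq, h1, h2, h3, h4, h5, h6⟩ :=
    hexagon U hUcard f g hfU hgU hff hgg hf1 hg1 hfg
  have hm : ∀ q ∈ ({a, b, c, d, e, h} : Finset α), q ∈ U := by intro q hq; rwa [hUeq]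
  let E : Fin 11 → α := ![x 0, x 1, x 2, x 3, a4, a, b, c, d, e, h]
  have hsurj : Function.Surjective E := by
    intro y
    by_cases hy : y ∈ B0
    · rw [hB0eq] at hy
      simp only [Finset.mem_insert, Finset.mem_singleton] at hy
      rcases hy with rfl | rfl | rfl | rfl | rfl
      exacts [⟨0, rfl⟩, ⟨1, rfl⟩, ⟨2, rfl⟩, ⟨3, rfl⟩, ⟨4, rfl⟩]
    · have hy' := memU.2 hy
      rw [hUeq] at hy'
      simp only [Finset.mem_insert, Finset.mem_singleton] at hy'
      rcases hy' with rfl | rfl | rfl | rfl | rfl | rfl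
      exacts [⟨5, rfl⟩, ⟨6, rfl⟩, ⟨7, rfl⟩, ⟨8, rfl⟩, ⟨9, rfl⟩, ⟨10, rfl⟩]
  have hbij : Function.Bijective E :=
    (Fintype.bijective_iff_surjective_and_card E).2 ⟨hsurj, by rw [Fintype.card_fin, hα]⟩
  let e0 : Fin 11 ≃ α := Equiv.ofBijective E hbij
  have hinit : ∀ c ∈ init11, c < 2 ^ 11 ∧ ofMask 11 c ∈ {s : Finset (Fin 11) | s.map e0.toEmbedding ∈ B} := by
    have k1 : ofMask 11 31 = {0, 1, 2, 3, 4} := by decide +kernel
    have k2 : ofMask 11 103 = {0, 1, 2, 5, 6} := by decide +kernel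
    have k3 : ofMask 11 391 = {0, 1, 2, 7, 8} := by decide +kernel
    have k4 : ofMask 11 1543 = {0, 1, 2, 9, 10} := by decide +kernel
    have k5 : ofMask 11 203 = {0, 1, 3, 6, 7} := by decide +kernel
    have k6 : ofMask 11 779 = {0, 1, 3, 8, 9} := by decide +kernel
    have k7 : ofMask 11 1067 = {0, 1, 3, 5, 10} := by decide +kernel
    have v : ∀ i, e0.toEmbedding i = E i := fun i => rfl
    intro m hm'
    simp only [init11, List.mem_cons, List.not_mem_nil, or_false] at hm'
    rcases hm' with rfl | rfl | rfl | rfl | rfl | rfl | rfl <;> refine ⟨by norm_num, ?_⟩ <;>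
      show Finset.map _ _ ∈ B
    · rw [k1]; simp only [Finset.map_insert, Finset.map_singleton, v]
      simpa [E, hB0eq] using hB0
    · rw [k2]; simp only [Finset.map_insert, Finset.map_singleton, v]
      simpa [E, h1] using hfB a (hm a (by simp))
    · rw [k3]; simp only [Finset.map_insert, Finset.map_singleton, v]
      simpa [E, h3] using hfB c (hm c (by simp))
    · rw [k4]; simp only [Finset.map_insert, Finset.map_singleton, v]
      simpa [E, h5] using hfB e (hm e (by simp))
    · rw [k5]; simp only [Finset.map_insert, Finset.map_singleton, v]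
      simpa [E, h2] using hgB b (hm b (by simp))
    · rw [k6]; simp only [Finset.map_insert, Finset.map_singleton, v]
      simpa [E, h4] using hgB d (hm d (by simp))
    · rw [k7]; simp only [Finset.map_insert, Finset.map_singleton, v]
      have h' := hgB h (hm h (by simp))
      rw [h6, Finset.pair_comm h a] at h'
      simpa [E] using h'
  obtain ⟨ch, hleaf, hT⟩ := search_complete leaf11 (pullback_steiner hB e0) init11 hinit search11
  simp only [leaf11, List.any_eq_true, Bool.and_eq_true, List.all_eq_true, List.contains_iff_mem,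
    List.mem_map] at hleaf
  obtain ⟨p, hp, hp1, hp2⟩ := hleaf
  refine ⟨p.trans e0, fun i => ?_, fun s => ?_⟩
  · obtain ⟨q0, q1, q2, q3⟩ := hexSym_fix p hp
    fin_cases i
    · show e0 (p 0) = _; rw [q0]; rfl
    · show e0 (p 1) = _; rw [q1]; rfl
    · show e0 (p 2) = _; rw [q2]; rfl
    · show e0 (p 3) = _; rw [q3]; rfl
  · have hmap : s.map (p.trans e0).toEmbedding = (s.map p.toEmbedding).map e0.toEmbedding := by
      rw [Finset.map_map]; rfl
    rw [hmap]
    refine (hT (s.map p.toEmbedding)).trans ⟨?_, ?_⟩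
    · rintro ⟨k, hk, hk'⟩
      obtain ⟨k0, hk0, rfl⟩ := hp1 k hk
      rw [ofMask_mapMask, Finset.map_eq_image] at hk'
      exact ⟨k0, hk0, Finset.image_injective p.injective hk'⟩
    · rintro ⟨k0, hk0, rfl⟩
      exact ⟨_, hp2 k0 hk0, by rw [ofMask_mapMask, Finset.map_eq_image]; rfl⟩

theorem iso11_unique {B : Set (Finset α)} (hB : Cfsg.IsSteinerSystem 4 5 B) {e e' : Fin 11 ≃ α}
    (he : IsIso11 B e) (he' : IsIso11 B e')
    (h : ∀ i : Fin 4, e (i.castLE (by omega)) = e' (i.castLE (by omega))) : e = e' := by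
  classical
  have hStd : Cfsg.IsSteinerSystem 4 5 Std11 := by
    have hset : {s : Finset (Fin 11) | s.map e.toEmbedding ∈ B} = Std11 := Set.ext he
    exact hset ▸ pullback_steiner hB e
  set π : Equiv.Perm (Fin 11) := e'.trans e.symm with hπdef
  have hπ : ∀ s : Finset (Fin 11), s.map π.toEmbedding ∈ Std11 ↔ s ∈ Std11 := by
    intro s
    rw [← he, Finset.map_map, ← he' s]
    have : π.toEmbedding.trans e.toEmbedding = e'.toEmbedding := by ext i; simp [hπdef]
    rw [this]
  have step : ∀ a b c d z A B' C D : Fin 11,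
      (2 ^ a.val ||| 2 ^ b.val ||| 2 ^ c.val ||| 2 ^ d.val ||| 2 ^ z.val) ∈ std11 →
      π a = A → π b = B' → π c = C → π d = D → π z = fifth11 A B' C D := by
    intro a b c d z A B' C D hmem h1 h2 h3 h4
    have hh := (hπ _).2 ⟨_, hmem, mask5 a b c d z⟩
    apply fifth11_eq hStd
    simp only [Finset.map_insert, Finset.map_singleton, Equiv.coe_toEmbedding, h1, h2, h3, h4] at hh
    exact hh
  have hfix : ∀ i : Fin 4, π (i.castLE (by omega)) = i.castLE (by omega) := by
    intro i; simp [hπdef, ← h i]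
  have p0 : π 0 = 0 := hfix 0
  have p1 : π 1 = 1 := hfix 1
  have p2 : π 2 = 2 := hfix 2
  have p3 : π 3 = 3 := hfix 3
  have p4 : π 4 = 4 := by
    rw [step 0 1 2 3 4 _ _ _ _ (by decide +kernel) p0 p1 p2 p3]; decide +kernel
  have p6 := step 0 1 2 5 6 _ _ _ _ (by decide +kernel) p0 p1 p2 rfl
  have p7 := step 0 1 3 6 7 _ _ _ _ (by decide +kernel) p0 p1 p3 p6
  have p8 := step 0 1 2 7 8 _ _ _ _ (by decide +kernel) p0 p1 p2 p7
  have p9 := step 0 1 3 8 9 _ _ _ _ (by decide +kernel) p0 p1 p3 p8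
  have p10 := step 0 1 2 9 10 _ _ _ _ (by decide +kernel) p0 p1 p2 p9
  have hext : (π : Fin 11 → Fin 11) = hexExt (π 5) := by
    funext i
    fin_cases i
    exacts [p0, p1, p2, p3, p4, rfl, p6, p7, p8, p9, p10]
  rcases hexExt_check (π 5) with h5 | h5 | h5
  · exfalso
    have : ∀ v : Fin 11, v.val ≤ 4 → v = 0 ∨ v = 1 ∨ v = 2 ∨ v = 3 ∨ v = 4 := by decide
    rcases this _ h5 with hv | hv | hv | hv | hv <;>
      [exact absurd (π.injective (hv.trans p0.symm)) (by decide);
       exact absurd (π.injective (hv.trans p1.symm)) (by decide);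
       exact absurd (π.injective (hv.trans p2.symm)) (by decide);
       exact absurd (π.injective (hv.trans p3.symm)) (by decide);
       exact absurd (π.injective (hv.trans p4.symm)) (by decide)]
  · rw [← hext] at h5
    ext i
    have h6 : π i = i := congrFun h5 i
    simp only [hπdef, Equiv.trans_apply] at h6
    rw [Equiv.symm_apply_eq] at h6
    exact h6.symm
  · exfalso
    simp only [List.any_eq_true, Bool.not_eq_true', List.contains_eq_mem, decide_eq_false_iff_not] at h5
    obtain ⟨k, hk, hk'⟩ := h5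
    obtain ⟨k', hk2, hk3⟩ := (hπ (ofMask 11 k)).2 ⟨k, hk, rfl⟩
    have himg : (ofMask 11 k).map π.toEmbedding = ofMask 11 (mapMask (hexExt (π 5)) k) := by
      rw [ofMask_mapMask, Finset.map_eq_image, ← hext]; rfl
    rw [himg] at hk3
    have hlt : mapMask (hexExt (π 5)) k < 2 ^ 11 := by
      apply Nat.lt_pow_two_of_testBit
      intro i hi
      rw [Bool.eq_false_iff, mapMask]
      intro hb
      rw [testBit_foldl_or (fun j : Fin 11 => bif k.testBit j.val then 2 ^ (hexExt (π 5) j).val else 0)] at hb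
      rcases hb with hb | ⟨j, -, hb⟩
      · simp at hb
      · cases hkj : k.testBit j.val <;> simp [hkj, Nat.testBit_two_pow] at hb
        have := (hexExt (π 5) j).isLt
        omega
    exact hk' (ofMask_inj (std11_lt _ hk2) hlt hk3 ▸ hk2)

end Eleven

section Twelve

variable {α : Type*}

/-- The isomorphisms from the standard S(5,6,12). -/
def IsIso12 (B : Set (Finset α)) (e : Fin 12 ≃ α) : Prop :=
  ∀ s : Finset (Fin 12), s.map e.toEmbedding ∈ B ↔ s ∈ Std12

theorem ofMask_snoc {c : ℕ} (hc : c < 2 ^ 11) :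
    ofMask 12 (c ||| 2 ^ 11) = Finset.cons (Fin.last 11) ((ofMask 11 c).map Fin.castSuccEmb)
      (last_notMem_map _) := by
  ext i
  rw [Finset.mem_cons, Finset.mem_map, mem_ofMask, Nat.testBit_or, Nat.testBit_two_pow]
  refine Fin.lastCases ?_ (fun j => ?_) i
  · simp
  · have : ¬ (11 = (j : ℕ)) := by omega
    have h' : Fin.castSucc j ≠ Fin.last 11 := Fin.castSucc_ne_last j
    simp only [Fin.val_castSucc, this, decide_false, Bool.or_false, false_or, h']
    constructor
    · exact fun h => ⟨j, mem_ofMask.2 h, rfl⟩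
    · rintro ⟨x, hx, he⟩
      rw [← Fin.castSucc_injective _ he]
      exact mem_ofMask.1 hx

theorem exists_iso12 [Fintype α] (hα : Fintype.card α = 12) {B : Set (Finset α)}
    (hB : Cfsg.IsSteinerSystem 5 6 B) (x : Fin 5 ↪ α) :
    ∃ e : Fin 12 ≃ α, (∀ i : Fin 4, e (i.castLE (by omega)) = x i.castSucc) ∧
      e (Fin.last 11) = x (Fin.last 4) ∧ IsIso12 B e := by
  classical
  set a := x (Fin.last 4) with ha
  have hβ : Fintype.card {y : α // y ≠ a} = 11 := by
    rw [Fintype.card_subtype_compl, Fintype.card_subtype_eq, hα]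
  let x' : Fin 4 ↪ {y : α // y ≠ a} :=
    ⟨fun i => ⟨x i.castSucc, fun hh => Fin.castSucc_ne_last i (x.injective hh)⟩,
      fun i j hij => by simpa using hij⟩
  obtain ⟨e, he, hiso⟩ := exists_iso11 hβ (derived_steiner hB a) x'
  let E : Fin 12 → α := Fin.snoc (fun i => (e i : α)) a
  have hEl : E (Fin.last 11) = a := Fin.snoc_last _ _
  have hEc : ∀ i, E (Fin.castSucc i) = (e i : α) := fun i => Fin.snoc_castSucc _ _ _
  have hinj : Function.Injective E := by
    intro i j
    refine Fin.lastCases ?_ (fun i => ?_) i <;> refine Fin.lastCases ?_ (fun j => ?_) j <;> intro hij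
    · rfl
    · rw [hEl, hEc] at hij; exact absurd hij.symm (e j).2
    · rw [hEl, hEc] at hij; exact absurd hij (e i).2
    · rw [hEc, hEc] at hij; rw [e.injective (Subtype.ext hij)]
  let e0 : Fin 12 ≃ α := Equiv.ofBijective E
    ((Fintype.bijective_iff_injective_and_card E).2 ⟨hinj, by rw [Fintype.card_fin, hα]⟩)
  have hinit : ∀ c ∈ init12, c < 2 ^ 12 ∧ ofMask 12 c ∈ {s : Finset (Fin 12) | s.map e0.toEmbedding ∈ B} := by
    intro c hc
    simp only [init12, List.mem_map] at hc
    obtain ⟨k, hk, rfl⟩ := hc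
    refine ⟨Nat.or_lt_two_pow ((std11_lt k hk).trans (by norm_num)) (by norm_num), ?_⟩
    show (ofMask 12 (k ||| 2 ^ 11)).map e0.toEmbedding ∈ B
    have hk' : Finset.cons a (((ofMask 11 k).map e.toEmbedding).map (Function.Embedding.subtype _))
        (by simp) ∈ B := (hiso _).2 ⟨k, hk, rfl⟩
    rw [ofMask_snoc (std11_lt k hk), Finset.map_cons]
    convert hk' using 2
    · exact hEl
    · rw [Finset.map_map, Finset.map_map]
      congr 1
      ext i
      exact hEc i
  obtain ⟨ch, hleaf, hT⟩ := search_complete leaf12 (pullback_steiner hB e0) init12 hinit search12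
  simp only [leaf12, Bool.and_eq_true, List.all_eq_true, List.contains_iff_mem] at hleaf
  refine ⟨e0, fun i => ?_, hEl, fun s => (hT s).trans ?_⟩
  · show E (Fin.castSucc (i.castLE (by omega))) = _
    rw [hEc, he]
    rfl
  · exact ⟨fun ⟨k, hk, h⟩ => ⟨k, hleaf.1 k hk, h⟩, fun ⟨k, hk, h⟩ => ⟨k, hleaf.2 k hk, h⟩⟩

theorem std12_derived {s : Finset (Fin 11)} :
    Finset.cons (Fin.last 11) (s.map Fin.castSuccEmb) (last_notMem_map _) ∈ Std12 ↔
      s ∈ Std11 := by
  have k1 : ∀ c ∈ std11, c ||| 2 ^ 11 ∈ std12 := by decide +kernel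
  have k2 : ∀ c ∈ std12, c.testBit 11 = true → c ^^^ 2 ^ 11 ∈ std11 := by decide +kernel
  obtain ⟨m, hm, rfl⟩ := exists_mask s
  rw [← ofMask_snoc hm]
  constructor
  · rintro ⟨c, hc, h⟩
    have hcm : c = m ||| 2 ^ 11 :=
      ofMask_inj (std12_lt c hc) (Nat.or_lt_two_pow (hm.trans (by norm_num)) (by norm_num)) h
    subst hcm
    have hb := k2 _ hc (by rw [Nat.testBit_or, Nat.testBit_two_pow_self, Bool.or_true])
    have hx : (m ||| 2 ^ 11) ^^^ 2 ^ 11 = m := by
      apply Nat.eq_of_testBit_eq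
      intro j
      rw [Nat.testBit_xor, Nat.testBit_or, Nat.testBit_two_pow]
      by_cases hj : 11 = j
      · subst hj; simp [Nat.testBit_lt_two_pow hm]
      · simp [hj]
    rw [hx] at hb
    exact ⟨m, hb, rfl⟩
  · intro h
    exact ⟨_, k1 m ((mem_std11_iff hm).1 h), rfl⟩

theorem iso12_unique {B : Set (Finset α)} (hB : Cfsg.IsSteinerSystem 5 6 B) {e e' : Fin 12 ≃ α}
    (he : IsIso12 B e) (he' : IsIso12 B e') (hlast : e (Fin.last 11) = e' (Fin.last 11))
    (h : ∀ i : Fin 4, e (i.castLE (by omega)) = e' (i.castLE (by omega))) : e = e' := by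
  classical
  set a := e (Fin.last 11) with ha
  have key : ∀ f : Fin 12 ≃ α, f (Fin.last 11) = a → IsIso12 B f →
      ∃ g : Fin 11 ≃ {y : α // y ≠ a}, (∀ i, (g i : α) = f i.castSucc) ∧ IsIso11 (derived a B) g := by
    intro f hf hiso
    let G : Fin 11 → {y : α // y ≠ a} := fun i =>
      ⟨f i.castSucc, fun hh => Fin.castSucc_ne_last i (f.injective (hh.trans hf.symm))⟩
    have hbij : Function.Bijective G := by
      refine ⟨fun i j hij => by simpa [G] using hij, fun y => ?_⟩
      obtain ⟨i, hi⟩ := f.surjective y.1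
      revert hi
      refine Fin.lastCases ?_ (fun j => ?_) i <;> intro hi
      · exact absurd (hi.symm.trans hf) y.2
      · exact ⟨j, Subtype.ext hi⟩
    refine ⟨Equiv.ofBijective G hbij, fun i => rfl, fun s => ?_⟩
    rw [← std12_derived, ← hiso]
    show Finset.cons a _ _ ∈ B ↔ _
    rw [Finset.map_cons]
    have : ((s.map (Equiv.ofBijective G hbij).toEmbedding).map (Function.Embedding.subtype _)) =
        (s.map Fin.castSuccEmb).map f.toEmbedding := by
      rw [Finset.map_map, Finset.map_map]; rfl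
    constructor <;> intro hs <;> convert hs using 2 <;> first | exact this | exact this.symm | exact hf | exact hf.symm
  obtain ⟨g, hg, hgi⟩ := key e rfl he
  obtain ⟨g', hg', hgi'⟩ := key e' hlast.symm he'
  have hgg := iso11_unique (derived_steiner hB a) hgi hgi' (fun i => Subtype.ext (by
    rw [hg, hg']; exact h i))
  ext i
  refine Fin.lastCases ?_ (fun j => ?_) i
  · exact hlast
  · rw [← hg, ← hg', hgg]

end Twelve

end Cfsg.Agent.H29
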