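import Cfsg.Agent.Fusion.PComplement
import Cfsg.Agent.Cores.Basic
import Cfsg.Agent.Perm.Basic
import Mathlib

/-!
Transitive groups of degree 11 and order 7920 are simple; sharply multiply transitive groups have
the expected order.
-/

set_option autoImplicit false

open MulAction Subgroup

namespace Cfsg.Agent.H29

variable {G : Type*} [Group G] {X : Type*} [MulAction G X]

/-- The order of a sharply `n`-transitive group. -/
theorem card_of_sharp [Fintype X] {n : ℕ} [IsMultiplyPretransitive G X n] (hn : n ≤ Fintype.card X)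
    (hsharp : ∀ x : Fin n ↪ X, stabilizer G x = ⊥) :
    Nat.card G = (Fintype.card X).descFactorial n := by
  classical
  obtain ⟨x⟩ := Function.Embedding.nonempty_of_card_le (α := Fin n) (β := X) (by simpa using hn)
  have h := index_stabilizer_of_transitive G x
  rw [hsharp x, Subgroup.index_bot, Nat.card_eq_fintype_card (α := Fin n ↪ X), Fintype.card_embedding_eq,
    Fintype.card_fin] at h
  exact h

/-- A group of order 7920 with a faithful 2-transitive action of degree 11 is simple. -/
theorem isSimpleGroup_7920 [Finite G] [FaithfulSMul G X] (hX : Nat.card X = 11)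
    (hG : Nat.card G = 7920) (h2 : IsMultiplyPretransitive G X 2) : IsSimpleGroup G := by
  haveI : Fact (Nat.Prime 11) := ⟨by norm_num⟩
  haveI : Finite X := Nat.finite_of_card_ne_zero (by omega)
  haveI : Nonempty X := (Nat.card_pos_iff.1 (by omega)).1
  haveI : Nontrivial G := Finite.one_lt_card_iff_nontrivial.1 (by omega)
  have hdiv : ∀ N : Subgroup G, N.Normal → N ≠ ⊥ → 11 ∣ Nat.card N := by
    intro N hN hne
    have ht := Perm.transitive_of_normal_of_two h2 (N := N) hne
    obtain ⟨a⟩ := (inferInstance : Nonempty X)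
    have := index_stabilizer_of_transitive N a
    rw [hX] at this
    exact this ▸ Subgroup.index_dvd_card _
  obtain ⟨Q⟩ := (inferInstance : Nonempty (Sylow 11 G))
  have hQ : Nat.card Q = 11 := by
    obtain ⟨k, hk⟩ := Q.2.exists_card_eq
    have h1 : Nat.card Q ∣ 7920 := hG ▸ Subgroup.card_subgroup_dvd_card _
    have h0 : 11 ∣ Nat.card Q := Q.dvd_card_of_dvd_card (by rw [hG]; norm_num)
    rw [hk] at h1 h0 ⊢
    match k, h1, h0 with
    | 0, _, h0 => norm_num at h0
    | 1, _, _ => norm_num
    | k + 2, h1, _ => exact absurd ((Dvd.intro_left (11 ^ k) (pow_add 11 k 2).symm).trans h1) (by norm_num)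
  haveI : IsCyclic (Q : Subgroup G) := isCyclic_of_prime_card hQ
  have hQmc : IsMulCommutative (Q : Subgroup G) :=
    ⟨⟨(IsCyclic.commGroup (α := (Q : Subgroup G))).mul_comm⟩⟩
  have hQne : (Q : Subgroup G) ≠ ⊥ := fun h => by rw [h, Subgroup.card_bot] at hQ; omega
  have hQt : IsPretransitive (Q : Subgroup G) X := by
    obtain ⟨q, hq, hq1⟩ := (Subgroup.ne_bot_iff_exists_ne_one.1 hQne).imp (fun a h => (⟨a.2, h⟩ : _ ∧ _)) |>
      (fun ⟨a, h⟩ => (⟨a.1, h.1, fun he => h.2 (Subtype.ext he)⟩ : ∃ q, q ∈ (Q : Subgroup G) ∧ q ≠ 1))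
    obtain ⟨a, ha⟩ : ∃ a : X, q • a ≠ a := by
      by_contra hc
      push_neg at hc
      exact hq1 (FaithfulSMul.eq_of_smul_eq_smul (α := X) (fun x => by rw [hc x, one_smul]))
    have hcard : Nat.card (orbit (Q : Subgroup G) a) = 11 := by
      have h1 := index_stabilizer (Q : Subgroup G) a
      rw [← Nat.card_coe_set_eq] at h1
      have h2 : Nat.card (orbit (Q : Subgroup G) a) ∣ 11 := by
        rw [← h1]; exact (Subgroup.index_dvd_card _).trans (dvd_of_eq hQ)
      rcases (Nat.dvd_prime (by norm_num)).1 h2 with h3 | h3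
      · exfalso
        obtain ⟨hs, -⟩ := Nat.card_eq_one_iff_unique.1 h3
        apply ha
        exact congrArg Subtype.val (hs.elim ⟨q • a, ⟨⟨q, hq⟩, rfl⟩⟩ ⟨a, mem_orbit_self a⟩)
      · exact h3
    have huniv : orbit (Q : Subgroup G) a = Set.univ :=
      Set.eq_of_subset_of_ncard_le (Set.subset_univ _)
        (by rw [Set.ncard_univ, hX, ← Nat.card_coe_set_eq, hcard])
    exact isPretransitive_iff_orbit_eq_univ _ |>.2 huniv
  have hCQ : Subgroup.centralizer ((Q : Subgroup G) : Set G) = (Q : Subgroup G) := by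
    symm
    apply Subgroup.eq_of_le_of_card_ge (Perm.le_centralizer_self hQmc)
    obtain ⟨a⟩ := (inferInstance : Nonempty X)
    refine le_trans (Nat.card_le_card_of_injective
      (fun c : Subgroup.centralizer ((Q : Subgroup G) : Set G) => (c : G) • a) ?_) (le_of_eq (hX.trans hQ.symm))
    intro c d hcd
    exact Subtype.ext (Perm.eq_of_smul_eq_of_free (Perm.centralizer_free hQt) c.2 d.2 a hcd)
  have hNQ : Nat.card (normalizer ((Q : Subgroup G) : Set G)) = 55 := by
    have key := Subgroup.card_dvd_of_injective _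
      (QuotientGroup.kerLift_injective (Q : Subgroup G).normalizerMonoidHom)
    rw [normalizerMonoidHom_ker, ← Subgroup.index, ← Subgroup.relIndex, IsCyclic.card_mulAut, hQ,
      Nat.totient_prime (by norm_num), hCQ] at key
    have hmul := Subgroup.relIndex_mul_relIndex (⊥ : Subgroup G) (Q : Subgroup G)
      (normalizer ((Q : Subgroup G) : Set G)) bot_le Subgroup.le_normalizer
    rw [relIndex_bot_left, relIndex_bot_left, hQ] at hmul
    set r := (Q : Subgroup G).relIndex (normalizer ((Q : Subgroup G) : Set G))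
    have hi := Subgroup.index_mul_card (normalizer ((Q : Subgroup G) : Set G))
    have hs : Nat.card (Sylow 11 G) = (normalizer ((Q : Subgroup G) : Set G)).index :=
      Q.card_eq_index_normalizer
    have hm : Nat.card (Sylow 11 G) % 11 = 1 := card_sylow_modEq_one 11 G
    rw [hs] at hm
    rw [hG, ← hmul] at hi
    generalize (normalizer ((Q : Subgroup G) : Set G)).index = m at hi hm
    have hr0 : r ≤ 10 := Nat.le_of_dvd (by norm_num) key
    rw [← hmul]
    interval_cases r <;> omega
  refine ⟨fun N hN => ?_⟩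
  by_contra hcon
  push_neg at hcon
  obtain ⟨hne, hnt⟩ := hcon
  haveI := hN
  have hQN : (Q : Subgroup G) ≤ N := by
    obtain ⟨n, hn⟩ := exists_prime_orderOf_dvd_card' 11 (hdiv N hN hne)
    have hp : IsPGroup 11 (Subgroup.zpowers (n : G)) := by
      apply IsPGroup.of_card (n := 1)
      rw [Nat.card_zpowers, Subgroup.orderOf_coe, hn, pow_one]
    obtain ⟨R, hR⟩ := hp.exists_le_sylow
    have hRN : (R : Subgroup G) ≤ N := by
      have : Subgroup.zpowers (n : G) = (R : Subgroup G) := by
        apply Subgroup.eq_of_le_of_card_ge hR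
        have hRQ : Nat.card R = Nat.card Q := by
          rw [R.card_eq_multiplicity, Q.card_eq_multiplicity]
        rw [Nat.card_zpowers, Subgroup.orderOf_coe, hn, hRQ, hQ]
      rw [← this, Subgroup.zpowers_le]
      exact n.2
    obtain ⟨g, hg⟩ := exists_smul_eq G R Q
    intro x hx
    rw [← hg, Sylow.coe_subgroup_smul, Subgroup.mem_pointwise_smul_iff_inv_smul_mem] at hx
    have hx' := hN.conj_mem _ (hRN hx) g
    simpa [MulAut.smul_def, mul_assoc] using hx'
  have hfr : normalizer ((Q : Subgroup G) : Set G) ⊔ N = ⊤ := Sylow.normalizer_sup_eq_top' (N := N) Q hQN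
  have hcards := Cores.card_sup_mul_card_inf (normalizer ((Q : Subgroup G) : Set G)) N
  rw [hfr, Subgroup.card_top, hG, hNQ] at hcards
  set M := normalizer ((Q : Subgroup G) : Set G) ⊓ N with hM
  have hMQ : (Q : Subgroup G) ≤ M := le_inf Subgroup.le_normalizer hQN
  have hd1 : 11 ∣ Nat.card M := hQ ▸ Subgroup.card_dvd_of_le hMQ
  have hd2 : Nat.card M ∣ 55 := hNQ ▸ Subgroup.card_dvd_of_le inf_le_left
  have hM11 : Nat.card M = 11 := by
    have hle := Nat.le_of_dvd (by norm_num) hd2
    interval_cases hc : Nat.card M <;> try omega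
    all_goals exfalso; apply hnt; apply Subgroup.eq_top_of_card_eq; omega
  have hN1584 : Nat.card N = 1584 := by rw [hM11] at hcards; omega
  have hMeq : (Q : Subgroup G) = M := Subgroup.eq_of_le_of_card_ge hMQ (by rw [hM11, hQ])
  have hle : normalizer (((Q.subtype hQN : Sylow 11 N) : Subgroup N) : Set N) ≤
      Subgroup.centralizer (((Q.subtype hQN : Sylow 11 N) : Subgroup N) : Set N) := by
    intro n hn
    have hmem : ∀ x : N, x ∈ ((Q.subtype hQN : Sylow 11 N) : Subgroup N) ↔ (x : G) ∈ (Q : Subgroup G) :=
      fun x => by rw [Sylow.coe_subtype, Subgroup.mem_subgroupOf]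
    have hnQ : (n : G) ∈ (Q : Subgroup G) := by
      rw [hMeq, hM, Subgroup.mem_inf]
      refine ⟨?_, n.2⟩
      rw [Subgroup.mem_normalizer_iff]
      intro x
      constructor
      · intro hx
        exact (hmem (n * ⟨x, hQN hx⟩ * n⁻¹)).1 ((Subgroup.mem_normalizer_iff.1 hn _).1 ((hmem _).2 hx))
      · intro hx
        have hxN : x ∈ N := by
          have := mul_mem (mul_mem (N.inv_mem n.2) (hQN hx)) n.2
          simpa [mul_assoc] using this
        exact (hmem ⟨x, hxN⟩).1 ((Subgroup.mem_normalizer_iff.1 hn _).2 ((hmem _).2 hx))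
    rw [Subgroup.mem_centralizer_iff]
    intro x hx
    apply Subtype.ext
    exact Subgroup.mem_centralizer_iff.1 (hCQ.ge hnQ) (x : G) ((hmem x).1 hx)
  have hcomp := MonoidHom.ker_transferSylow_isComplement' (Q.subtype hQN) hle
  set K := (MonoidHom.transferSylow (Q.subtype hQN) hle).ker
  have hKc : Nat.card K = 144 := by
    have h := hcomp.card_mul
    have : Nat.card ((Q.subtype hQN : Sylow 11 N) : Subgroup N) = 11 := by
      rw [Sylow.coe_subtype, Nat.card_congr (Subgroup.subgroupOfEquivOfLe hQN).toEquiv, hQ]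
    rw [this, hN1584] at h
    omega
  have hmemK : ∀ x : N, x ∈ K ↔ Nat.Coprime 11 (orderOf x) :=
    fun x => Fusion.mem_iff_coprime_orderOf (p := 11) (by rw [hKc]; norm_num)
      (Fusion.isPGroup_quotient_of_isComplement' (Q.subtype hQN) hcomp) |>.trans Nat.coprime_comm
  have hKn : (K.map N.subtype).Normal := by
    constructor
    rintro _ ⟨x, hx, rfl⟩ g
    refine ⟨⟨g * x * g⁻¹, hN.conj_mem _ x.2 g⟩, (hmemK _).2 ?_, rfl⟩
    have := (hmemK x).1 hx
    rw [← Subgroup.orderOf_coe] at this ⊢
    have heq : orderOf (g * (x : G) * g⁻¹) = orderOf (x : G) :=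
      orderOf_injective (MulAut.conj g).toMonoidHom (MulAut.conj g).injective _
    show Nat.Coprime 11 (orderOf (g * (x : G) * g⁻¹))
    rw [heq]; exact this
  have hKc' : Nat.card (K.map N.subtype) = 144 := by
    rw [Cores.card_map_eq K N.subtype_injective, hKc]
  have hKne : K.map N.subtype ≠ ⊥ := fun h => by rw [h, Subgroup.card_bot] at hKc'; omega
  have := hdiv _ hKn hKne
  rw [hKc'] at this
  norm_num at this

/-- A group of order 95040 with a faithful sharply 5-transitive action of degree 12 is simple. -/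
theorem isSimpleGroup_95040 [Finite G] [FaithfulSMul G X] [Fintype X] (hX : Fintype.card X = 12)
    [h5 : IsMultiplyPretransitive G X 5] (hG : Nat.card G = 95040) : IsSimpleGroup G := by
  classical
  haveI : Nonempty X := Fintype.card_pos_iff.1 (by omega)
  haveI : Nontrivial G := Finite.one_lt_card_iff_nontrivial.1 (by omega)
  have h2 : IsMultiplyPretransitive G X 2 :=
    isMultiplyPretransitive_of_le' (n := 5) (by omega) (by rw [ENat.card_eq_coe_fintype_card, hX]; norm_num)
  haveI : IsPretransitive G X := by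
    haveI := h2
    exact isPretransitive_of_is_two_pretransitive
  obtain ⟨a⟩ := (inferInstance : Nonempty X)
  haveI : FaithfulSMul (stabilizer G a) (SubMulAction.ofStabilizer G a) := by
    constructor
    intro g h hgh
    apply Subtype.ext
    apply FaithfulSMul.eq_of_smul_eq_smul (α := X)
    intro x
    by_cases hx : x = a
    · rw [hx, (g.2 : (g : G) • a = a), (h.2 : (h : G) • a = a)]
    · exact congrArg Subtype.val (hgh ⟨x, hx⟩)
  have hH : Nat.card (stabilizer G a) = 7920 := by
    have h := Subgroup.index_mul_card (stabilizer G a)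
    rw [index_stabilizer_of_transitive, Nat.card_eq_fintype_card (α := X), hX, hG] at h
    omega
  have hXc : Nat.card (SubMulAction.ofStabilizer G a) = 11 := by
    have h := SubMulAction.nat_card_ofStabilizer_eq G a
    rw [Nat.card_eq_fintype_card (α := X), hX] at h
    omega
  haveI : Finite (SubMulAction.ofStabilizer G a) := Nat.finite_of_card_ne_zero (by omega)
  have h4 : IsMultiplyPretransitive (stabilizer G a) (SubMulAction.ofStabilizer G a) 4 :=
    SubMulAction.ofStabilizer.isMultiplyPretransitive.1 h5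
  have hH2 : IsMultiplyPretransitive (stabilizer G a) (SubMulAction.ofStabilizer G a) 2 :=
    isMultiplyPretransitive_of_le' (n := 4) (by omega) (by rw [ENat.card_eq_coe_natCard, hXc]; norm_num)
  haveI := isSimpleGroup_7920 hXc hH hH2
  refine ⟨fun N hN => ?_⟩
  by_contra hcon
  push_neg at hcon
  obtain ⟨hne, hnt⟩ := hcon
  haveI := hN
  have ht := Perm.transitive_of_normal_of_two h2 (N := N) hne
  rcases (Subgroup.Normal.subgroupOf hN (stabilizer G a)).eq_bot_or_eq_top with hb | htop
  · have hfree : ∀ x : X, stabilizer N x = ⊥ := by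
      apply Perm.free_of_stabilizer_eq_bot ht (a := a)
      rw [eq_bot_iff]
      intro n hn
      have hm : (⟨(n : G), hn⟩ : stabilizer G a) ∈ N.subgroupOf (stabilizer G a) := n.2
      rw [hb, Subgroup.mem_bot] at hm
      rw [Subgroup.mem_bot]
      exact Subtype.ext (congrArg (fun z : stabilizer G a => (z : G)) hm)
    have hN12 : Nat.card N = 12 := by
      have h := index_stabilizer_of_transitive N a
      rwa [hfree a, Subgroup.index_bot, Nat.card_eq_fintype_card (α := X), hX] at h
    have hsame : ∀ m n : N, m ≠ 1 → n ≠ 1 → orderOf m = orderOf n := by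
      intro m n hm hn
      have hne' : ∀ z : N, z ≠ 1 → (z : G) • a ≠ a := by
        intro z hz he
        apply hz
        have : z ∈ stabilizer N a := he
        rwa [hfree a, Subgroup.mem_bot] at this
      haveI : IsPretransitive (stabilizer G a) (SubMulAction.ofStabilizer G a) := by
        haveI := hH2
        exact isPretransitive_of_is_two_pretransitive
      obtain ⟨g, hg⟩ := exists_smul_eq (stabilizer G a)
        (⟨(m : G) • a, hne' m hm⟩ : SubMulAction.ofStabilizer G a) ⟨(n : G) • a, hne' n hn⟩
      have hg' : (g : G) • (m : G) • a = (n : G) • a := congrArg Subtype.val hg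
      have hconj : (g : G) * m * (g : G)⁻¹ = n := by
        refine Perm.eq_of_smul_eq_of_free hfree (hN.conj_mem _ m.2 g) n.2 a ?_
        rw [mul_smul, mul_smul, inv_smul_eq_iff.2 (g.2 : (g : G) • a = a).symm, hg']
      rw [← Subgroup.orderOf_coe, ← Subgroup.orderOf_coe, ← hconj]
      exact (orderOf_injective (MulAut.conj (g : G)).toMonoidHom (MulAut.conj (g : G)).injective _).symm
    haveI : Fact (Nat.Prime 2) := ⟨Nat.prime_two⟩
    haveI : Fact (Nat.Prime 3) := ⟨Nat.prime_three⟩
    obtain ⟨m, hm⟩ := exists_prime_orderOf_dvd_card' (G := N) 2 (by rw [hN12]; norm_num)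
    obtain ⟨n, hn⟩ := exists_prime_orderOf_dvd_card' (G := N) 3 (by rw [hN12]; norm_num)
    have := hsame m n (fun h => by rw [h, orderOf_one] at hm; omega)
      (fun h => by rw [h, orderOf_one] at hn; omega)
    omega
  · apply hnt
    have hsup := Perm.sup_stabilizer_eq_top ht a
    have hle : stabilizer G a ≤ N := fun g hg => by
      have : (⟨g, hg⟩ : stabilizer G a) ∈ N.subgroupOf (stabilizer G a) := htop ▸ Subgroup.mem_top _
      exact this
    rwa [sup_eq_left.2 hle] at hsup

end Cfsg.Agent.H29
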