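import Cfsg.Agent.Golay.Mask

/-!
Population count of a 24-bit mask by a packed byte table.
-/

set_option autoImplicit false

namespace Cfsg.Agent.H29

/-- Bit counts of the 256 bytes, four bits each. -/
def byteTbl : ℕ := 95125173855764218123276304889944061997689682402263585766959741291920687686033329201817409157123347502415384089435969498586180241031507595463600295898153685276653211633572815512294064538494957912327413386667662218713394765509704508661031522276467630197481635010039778342554499416459730172574551513689147646224

/-- Bit count of a byte. -/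
def byteCnt (b : ℕ) : ℕ := (byteTbl >>> (4 * b)) &&& 15

/-- Number of set bits among the lowest 24. -/
def fastCnt (m : ℕ) : ℕ :=
  byteCnt (m &&& 255) + byteCnt ((m >>> 8) &&& 255) + byteCnt ((m >>> 16) &&& 255)

theorem byteCnt_spec : ∀ b : Fin 256,
    byteCnt b.val = ∑ i ∈ Finset.range 8, if b.val.testBit i then 1 else 0 := by
  decide +kernel

theorem byteCnt_and (x : ℕ) :
    byteCnt (x &&& 255) = ∑ i ∈ Finset.range 8, if x.testBit i then 1 else 0 := by
  have hlt : x &&& 255 < 256 := lt_of_le_of_lt Nat.and_le_right (by norm_num)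
  rw [byteCnt_spec ⟨x &&& 255, hlt⟩]
  refine Finset.sum_congr rfl fun i hi => ?_
  rw [Nat.testBit_and, show (255 : ℕ) = 2 ^ 8 - 1 by norm_num, Nat.testBit_two_pow_sub_one,
    decide_eq_true (Finset.mem_range.1 hi), Bool.and_true]

theorem fastCnt_eq (m : ℕ) : fastCnt m = Golay.popCnt m := by
  rw [Golay.popCnt, Golay.popCnt_aux, zero_add, Finset.card_filter, fastCnt, byteCnt_and,
    byteCnt_and, byteCnt_and, show (24 : ℕ) = 8 + 8 + 8 by norm_num, Finset.sum_range_add,
    Finset.sum_range_add]
  simp only [Nat.testBit_shiftRight]

theorem card_ptSet_fast (m : ℕ) : (Golay.ptSet m).card = fastCnt m := by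
  rw [fastCnt_eq, Golay.card_ptSet]

end Cfsg.Agent.H29
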