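import Cfsg.Agent.H29.FischerRankThree

/-!
Fischer's rank three property, remaining parts: transitivity on the members commuting with `a`
(from Fischer's lemma applied modulo the centre) and the existence of such a member (from a
`Z*`-type hypothesis).
-/

set_option autoImplicit false

namespace Cfsg.Agent.H29

open H44
open scoped commutatorElement

variable {G : Type*} [Group G] {D : Set G}

/-- The commutator of two members of the class lies in the derived group. -/
theorem tt_mul_mem_commutator (hD : IsThreeTranspositionClass D) {p q : G} (hp : p ∈ D)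
    (hq : q ∈ D) : p * q ∈ commutator G := by
  obtain ⟨g, rfl⟩ := tt_class_conj hD hp hq
  have h : p * (g * p * g⁻¹) = ⁅p, g⁆ := by
    rw [commutatorElement_def, tt_inv hD.1 hp]; group
  rw [h]
  exact Subgroup.commutator_mem_commutator (Subgroup.mem_top _) (Subgroup.mem_top _)

/-- A normal solvable subgroup is central. -/
theorem le_center_of_solvable_normal (hsimple : IsSimpleGroup (commutator G))
    (hnonab : ∃ x y : commutator G, x * y ≠ y * x) {N : Subgroup G} (hN : N.Normal)
    (hs : Group.IsSolvable ↥N) : N ≤ Subgroup.center G := by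
  haveI := hsimple
  haveI := hs
  have hbot : ∀ g : G, g ∈ N → g ∈ commutator G → g = 1 := by
    intro g hgN hgC
    rcases (Subgroup.Normal.subgroupOf hN (commutator G)).eq_bot_or_eq_top with h | h
    · have hm : (⟨g, hgC⟩ : commutator G) ∈ N.subgroupOf (commutator G) := hgN
      rw [h, Subgroup.mem_bot] at hm
      exact congrArg Subtype.val hm
    · exfalso
      have hle : commutator G ≤ N := Subgroup.subgroupOf_eq_top.1 h
      haveI : Group.IsSolvable (commutator G) :=
        Group.isSolvable_of_isSolvable_injective (Subgroup.inclusion_injective hle)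
      obtain ⟨x, y, hxy⟩ := hnonab
      exact hxy (IsSimpleGroup.comm_iff_isSolvable.2 inferInstance x y)
  intro n hn
  rw [Subgroup.mem_center_iff]
  intro g
  have h1 : ⁅g, n⁆ = 1 := hbot _ (by
      rw [commutatorElement_def]
      exact mul_mem (hN.conj_mem n hn g) (inv_mem hn))
    (Subgroup.commutator_mem_commutator (Subgroup.mem_top _) (Subgroup.mem_top _))
  exact commutatorElement_eq_one_iff_mul_comm.1 h1

section

variable [Finite G] (hD : IsThreeTranspositionClass D) (hsimple : IsSimpleGroup (commutator G))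
  (hnonab : ∃ x y : commutator G, x * y ≠ y * x)
include hD hsimple hnonab

omit [Finite G] in
/-- The derived group meets the centre trivially. -/
theorem eq_one_of_mem_center {g : G} (hg : g ∈ Subgroup.center G) (hg' : g ∈ commutator G) :
    g = 1 := by
  haveI := hsimple
  rcases (Subgroup.Normal.subgroupOf (inferInstance : (Subgroup.center G).Normal)
      (commutator G)).eq_bot_or_eq_top with h | h
  · have hm : (⟨g, hg'⟩ : commutator G) ∈ (Subgroup.center G).subgroupOf (commutator G) := hg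
    rw [h, Subgroup.mem_bot] at hm
    exact congrArg Subtype.val hm
  · exfalso
    obtain ⟨x, y, hxy⟩ := hnonab
    exact hxy (Subtype.ext (Subgroup.mem_center_iff.1
      (Subgroup.subgroupOf_eq_top.1 h y.2) (x : G)))

/-- Transitivity on the other members commuting with `a`. -/
theorem conj_of_commute {a b b' : G} (ha : a ∈ D) (hb : b ∈ D) (hb' : b' ∈ D) (hba : b ≠ a)
    (hb'a : b' ≠ a) (hab : Commute a b) (hab' : Commute a b') :
    ∃ g : G, Commute g a ∧ g * b * g⁻¹ = b' := by
  let π : G →* G ⧸ Subgroup.center G := QuotientGroup.mk' _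
  have hπ : Function.Surjective π := QuotientGroup.mk'_surjective _
  have hinj : ∀ p q, p ∈ D → q ∈ D → π p = π q → p = q := by
    intro p q hp hq hpq
    have h1 : p * q ∈ Subgroup.center G := by
      have h0 : p⁻¹ * q ∈ Subgroup.center G := QuotientGroup.eq.1 hpq
      rwa [tt_inv hD.1 hp] at h0
    have h2 := eq_one_of_mem_center hD hsimple hnonab h1 (tt_mul_mem_commutator hD hp hq)
    rw [eq_inv_of_mul_eq_one_left h2, tt_inv hD.1 hq]
  have hcomm : ∀ p q, p ∈ D → q ∈ D → Commute (π p) (π q) → Commute p q := by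
    intro p q hp hq hpq
    have h0 : π (q * p * q⁻¹) = π p := by
      rw [map_mul, map_mul, map_inv, ← hpq.eq, mul_inv_cancel_right]
    have h1 := hinj _ _ (tt_invariant hD q hp) hp h0
    exact (mul_inv_eq_iff_eq_mul.1 h1).symm
  have hord : ∀ p ∈ D, π p ≠ 1 := by
    intro p hp h1
    have hpc : p ∈ Subgroup.center G := (QuotientGroup.eq_one_iff p).1 h1
    have hall : ∀ q ∈ D, q = p := by
      intro q hq
      obtain ⟨g, rfl⟩ := tt_class_conj hD hp hq
      rw [Subgroup.mem_center_iff.1 hpc g, mul_inv_cancel_right]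
    exact hba ((hall b hb).trans (hall a ha).symm)
  have hD' : IsThreeTranspositionClass (π '' D) := by
    refine ⟨⟨?_, ?_⟩, ?_, ?_⟩
    · rintro _ ⟨p, hp, rfl⟩
      exact orderOf_eq_prime (by rw [← map_pow, pow_two, tt_mul_self hD.1 hp, map_one]) (hord p hp)
    · rintro _ ⟨p, hp, rfl⟩ _ ⟨q, hq, rfl⟩
      rcases hD.1.2 p hp q hq with h | h
      · left; rw [← map_mul, ← map_pow, h, map_one]
      · right; rw [← map_mul, ← map_pow, h, map_one]
    · refine ⟨π a, ⟨a, ha, rfl⟩, Set.ext fun x => ⟨?_, ?_⟩⟩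
      · rintro ⟨p, hp, rfl⟩
        obtain ⟨g, rfl⟩ := tt_class_conj hD ha hp
        exact isConj_iff.2 ⟨π g, by simp⟩
      · intro hx
        obtain ⟨c, rfl⟩ := isConj_iff.1 hx
        obtain ⟨g, rfl⟩ := hπ c
        exact ⟨_, tt_invariant hD g ha, by simp⟩
    · rw [← MonoidHom.map_closure, hD.2.2, Subgroup.map_top_of_surjective _ hπ]
  have hsol : ∀ N : Subgroup (G ⧸ Subgroup.center G), N.Normal → Group.IsSolvable ↥N → N = ⊥ := by
    intro N hN hs
    haveI := hs
    set M := N.comap π
    have hMs : Group.IsSolvable M := by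
      let f : M →* N := (π.comp M.subtype).codRestrict N (fun m => m.2)
      let i : Subgroup.center G →* M := Subgroup.inclusion fun z hz => by
        show π z ∈ N
        have hz1 : π z = 1 := (QuotientGroup.eq_one_iff z).2 hz
        rw [hz1]; exact N.one_mem
      haveI : Group.IsSolvable (Subgroup.center G) := Group.isSolvable_of_comm fun x y =>
        Subtype.ext (Subgroup.mem_center_iff.1 y.2 (x : G))
      refine Group.isSolvable_of_ker_le_range i f fun m hm => ?_
      have hm' : π (m : G) = 1 := congrArg Subtype.val hm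
      exact ⟨⟨(m : G), (QuotientGroup.eq_one_iff _).1 hm'⟩, Subtype.ext rfl⟩
    have hMc := le_center_of_solvable_normal hsimple hnonab (hN.comap π) hMs
    rw [eq_bot_iff]
    intro x hx
    obtain ⟨g, rfl⟩ := hπ x
    exact (Subgroup.mem_bot).2 ((QuotientGroup.eq_one_iff g).2 (hMc hx))
  obtain ⟨gq, hgq, hgb⟩ := dx_conjugate hD' hsol (x := π a) (y := π b) (y' := π b') ⟨a, ha, rfl⟩
    ⟨⟨b, hb, rfl⟩, fun e => hba (hinj _ _ hb ha e), hab.map π⟩
    ⟨⟨b', hb', rfl⟩, fun e => hb'a (hinj _ _ hb' ha e), hab'.map π⟩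
  have hset : {q : G ⧸ Subgroup.center G | q ∈ π '' D ∧ q ≠ π a ∧ Commute (π a) q} ⊆
      π '' {q : G | q ∈ D ∧ Commute a q} := by
    rintro _ ⟨⟨q, hq, rfl⟩, -, hcq⟩
    exact ⟨q, ⟨hq, hcomm a q ha hq hcq⟩, rfl⟩
  have hg' := Subgroup.closure_mono hset hgq
  rw [← MonoidHom.map_closure] at hg'
  obtain ⟨g, hg, rfl⟩ := hg'
  refine ⟨g, ?_, hinj _ _ (tt_invariant hD g hb) hb' (by simpa using hgb)⟩
  have hgc : Subgroup.closure {q : G | q ∈ D ∧ Commute a q} ≤ Subgroup.centralizer ({a} : Set G) := by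
    rw [Subgroup.closure_le]
    exact fun q hq => Subgroup.mem_centralizer_singleton_iff.2 hq.2.symm.eq
  exact Subgroup.mem_centralizer_singleton_iff.1 (hgc hg)

/-- Some member does not commute with `a`. -/
theorem exists_noncommute {a : G} (ha : a ∈ D) : ∃ c ∈ D, ¬ Commute a c := by
  by_contra hall
  push Not at hall
  have hac : a ∈ Subgroup.center G := by
    have hle : Subgroup.closure D ≤ Subgroup.centralizer ({a} : Set G) :=
      (Subgroup.closure_le _).2 fun q hq => Subgroup.mem_centralizer_singleton_iff.2 (hall q hq).symm.eq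
    rw [hD.2.2] at hle
    exact Subgroup.mem_center_iff.2 fun g =>
      Subgroup.mem_centralizer_singleton_iff.1 (hle (Subgroup.mem_top g))
  have hDa : D ⊆ {a} := by
    intro q hq
    obtain ⟨g, rfl⟩ := tt_class_conj hD ha hq
    rw [Set.mem_singleton_iff, Subgroup.mem_center_iff.1 hac g, mul_inv_cancel_right]
  have htop : Subgroup.zpowers a = ⊤ := by
    rw [eq_top_iff, ← hD.2.2, Subgroup.closure_le]
    intro q hq
    rw [hDa hq]
    exact Subgroup.mem_zpowers a
  have hab : ∀ p q : G, p * q = q * p := fun p q => by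
    obtain ⟨m, rfl⟩ := (htop ▸ Subgroup.mem_top p : p ∈ Subgroup.zpowers a)
    obtain ⟨n, rfl⟩ := (htop ▸ Subgroup.mem_top q : q ∈ Subgroup.zpowers a)
    exact ((Commute.refl a).zpow_zpow m n).eq
  obtain ⟨x, y, hxy⟩ := hnonab
  exact hxy (Subtype.ext (hab x y))

/-- Some other member commutes with `a`, given the `Z*` theorem. -/
theorem exists_commute
    (hZ : ∀ (P : Sylow 2 G) (u : G), orderOf u = 2 → u ∈ P →
      (∀ g : G, g * u * g⁻¹ ∈ P → g * u * g⁻¹ = u) →
      ∃ N : Subgroup G, N.Normal ∧ Odd (Nat.card N) ∧ ∀ g : G, (u * g * u⁻¹ * g⁻¹) ∈ N)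
    {a : G} (ha : a ∈ D) : ∃ b ∈ D, b ≠ a ∧ Commute a b := by
  by_contra hnone
  push Not at hnone
  haveI : Fact (Nat.Prime 2) := ⟨Nat.prime_two⟩
  haveI := hsimple
  have hp : IsPGroup 2 (Subgroup.zpowers a) := by
    apply IsPGroup.of_card (n := 1)
    rw [Nat.card_zpowers, hD.1.1 a ha, pow_one]
  obtain ⟨P, hP⟩ := hp.exists_le_sylow
  have haP : a ∈ (P : Subgroup G) := hP (Subgroup.mem_zpowers a)
  obtain ⟨N, hN, hodd, hmem⟩ := hZ P a (hD.1.1 a ha) haP (by
    intro g hg
    by_contra hne
    have hgD := tt_invariant hD g ha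
    have hnc := hnone _ hgD hne
    have h3 := tt_cube hD.1 ha hgD hnc
    obtain ⟨k, hk⟩ := P.2 ⟨a * (g * a * g⁻¹), mul_mem haP hg⟩
    have h2 : orderOf (a * (g * a * g⁻¹)) ∣ 2 ^ k :=
      orderOf_dvd_of_pow_eq_one (congrArg Subtype.val hk)
    have h1 : orderOf (a * (g * a * g⁻¹)) = 1 :=
      Nat.eq_one_of_dvd_coprimes (Nat.Coprime.pow_left k (by norm_num : Nat.Coprime 2 3)) h2
        (orderOf_dvd_of_pow_eq_one h3)
    rw [orderOf_eq_one_iff] at h1
    exact hne (by rw [← tt_inv hD.1 hgD]; exact (eq_inv_of_mul_eq_one_left h1).symm))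
  rcases (Subgroup.Normal.subgroupOf hN (commutator G)).eq_bot_or_eq_top with hb | ht
  · obtain ⟨c, hc, hac⟩ := exists_noncommute hD hsimple hnonab ha
    apply hac
    have hm : (⟨a * c * a⁻¹ * c⁻¹, Subgroup.commutator_mem_commutator (Subgroup.mem_top a)
        (Subgroup.mem_top c)⟩ : commutator G) ∈ N.subgroupOf (commutator G) := hmem c
    rw [hb, Subgroup.mem_bot] at hm
    exact mul_inv_eq_iff_eq_mul.1 (mul_inv_eq_one.1 (congrArg Subtype.val hm))
  -- the derived group has odd order
  set K := commutator G with hK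
  have hKodd : Odd (Nat.card K) :=
    hodd.of_dvd_nat (Subgroup.card_dvd_of_le (Subgroup.subgroupOf_eq_top.1 ht))
  have hconjmem : ∀ g : G, a * (g * a * g⁻¹) ∈ K := fun g =>
    tt_mul_mem_commutator hD ha (tt_invariant hD g ha)
  letI : MulAction (Subgroup.zpowers a) K :=
    MulAction.compHom K ((MulAut.conjNormal (H := K)).comp (Subgroup.zpowers a).subtype)
  -- an invariant Sylow subgroup for every prime
  have hinv : ∀ (q : ℕ) [Fact q.Prime], ∃ Q : Sylow q K, ∀ x : K, x ∈ Q →
      (MulAut.conjNormal a : MulAut K) x ∈ Q := by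
    intro q _
    letI : MulAction (Subgroup.zpowers a) (Sylow q K) :=
      MulAction.compHom (Sylow q K) ((MulAut.conjNormal (H := K)).comp (Subgroup.zpowers a).subtype)
    obtain ⟨Q, hQ⟩ := hp.nonempty_fixed_point_of_prime_not_dvd_card (α := Sylow q K) fun h => by
      obtain ⟨Q⟩ := (inferInstance : Nonempty (Sylow q K))
      exact Nat.not_even_iff_odd.2 hKodd (even_iff_two_dvd.2
        ((h.trans (dvd_of_eq Q.card_eq_index_normalizer)).trans (Subgroup.index_dvd_card _)))
    refine ⟨Q, fun x hx => ?_⟩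
    have h := hQ ⟨a, Subgroup.mem_zpowers a⟩
    have h' : (MulAut.conjNormal a : MulAut K) • Q = Q := h
    rw [← h']
    exact Set.smul_mem_smul_set hx
  set C := (Subgroup.centralizer ({a} : Set G)).subgroupOf K with hC
  have hsylow : ∀ (q : ℕ) [Fact q.Prime], q ≠ 3 → ∀ Q : Sylow q K,
      (∀ x : K, x ∈ Q → (MulAut.conjNormal a : MulAut K) x ∈ Q) → (Q : Subgroup K) ≤ C := by
    intro q _ hq3 Q hQ x hx
    by_cases hq2 : q = 2
    · subst hq2
      have h1 : Nat.card (Q : Subgroup K) = 1 := by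
        obtain ⟨k, hk⟩ := Q.2.exists_card_eq
        rcases Nat.eq_zero_or_pos k with rfl | hk0
        · simpa using hk
        · exact absurd (even_iff_two_dvd.2 ((hk ▸ dvd_pow_self 2 hk0.ne' :
            2 ∣ Nat.card (Q : Subgroup K)).trans (Subgroup.card_subgroup_dvd_card _)))
            (Nat.not_even_iff_odd.2 hKodd)
      rw [(Subgroup.card_eq_one).1 h1, Subgroup.mem_bot] at hx
      rw [hx]; exact C.one_mem
    · show (x : G) ∈ Subgroup.centralizer ({a} : Set G)
      rw [Subgroup.mem_centralizer_singleton_iff]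
      have hu : (MulAut.conjNormal a : MulAut K) x * x⁻¹ ∈ Q := mul_mem (hQ x hx) (inv_mem hx)
      obtain ⟨k, hk⟩ := Q.2 ⟨_, hu⟩
      have hue : ((((MulAut.conjNormal a : MulAut K) x * x⁻¹ : K)) : G) = a * ((x : G) * a * (x : G)⁻¹) := by
        rw [Subgroup.coe_mul, MulAut.conjNormal_apply, Subgroup.coe_inv, tt_inv hD.1 ha]; group
      have hpow : (a * ((x : G) * a * (x : G)⁻¹)) ^ (q ^ k) = 1 := by
        rw [← hue, ← Subgroup.coe_pow]
        exact congrArg (fun z : K => (z : G)) (congrArg Subtype.val hk)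
      have hxa := tt_invariant hD (x : G) ha
      have h1 : orderOf (a * ((x : G) * a * (x : G)⁻¹)) = 1 := by
        have hqc : Nat.Coprime (q ^ k) 6 := by
          apply Nat.Coprime.pow_left
          rw [(Fact.out : q.Prime).coprime_iff_not_dvd]
          intro h
          rcases (Fact.out : q.Prime).dvd_mul.1 (show q ∣ 2 * 3 by simpa using h) with h2 | h3
          · exact hq2 ((Nat.prime_dvd_prime_iff_eq Fact.out Nat.prime_two).1 h2)
          · exact hq3 ((Nat.prime_dvd_prime_iff_eq Fact.out Nat.prime_three).1 h3)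
        refine Nat.eq_one_of_dvd_coprimes hqc (orderOf_dvd_of_pow_eq_one hpow) ?_
        rcases hD.1.2 a ha _ hxa with h | h
        · exact (orderOf_dvd_of_pow_eq_one h).trans (by norm_num)
        · exact (orderOf_dvd_of_pow_eq_one h).trans (by norm_num)
      rw [orderOf_eq_one_iff] at h1
      have h2 : a⁻¹ = (x : G) * a * (x : G)⁻¹ := inv_eq_of_mul_eq_one_right h1
      rw [tt_inv hD.1 ha] at h2
      exact mul_inv_eq_iff_eq_mul.1 h2.symm
  haveI : Fact (Nat.Prime 3) := ⟨Nat.prime_three⟩
  obtain ⟨R, hR⟩ := hinv 3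
  -- the index of the centraliser is a power of 3
  have hidx : (Nat.card K).factorization 3 ≤ (C.index * Nat.card C).factorization 3 ∧
      ∀ q : ℕ, q.Prime → q ≠ 3 → ¬ q ∣ C.index := by
    refine ⟨by rw [Subgroup.index_mul_card], fun q hq hq3 hdvd => ?_⟩
    haveI := Fact.mk hq
    obtain ⟨Q, hQ⟩ := hinv q
    exact Q.not_dvd_index (hdvd.trans (Subgroup.index_dvd_of_le (hsylow q hq3 Q hQ)))
  have hCpow : ∃ i, C.index = 3 ^ i := by
    refine ⟨_, Nat.eq_prime_pow_of_unique_prime_dvd Subgroup.index_ne_zero_of_finite ?_⟩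
    intro q hq hdvd
    by_contra hq3
    exact hidx.2 q hq hq3 hdvd
  obtain ⟨i, hi⟩ := hCpow
  -- `K = R C`
  have hRC : ∀ k : K, ∃ r ∈ (R : Subgroup K), r⁻¹ * k ∈ C := by
    have hle : C.index ≤ C.relIndex (R : Subgroup K) := by
      have h1 := Subgroup.relIndex_mul_relIndex (⊥ : Subgroup K) ((R : Subgroup K) ⊓ C)
        (R : Subgroup K) bot_le inf_le_left
      rw [Subgroup.relIndex_bot_left, Subgroup.relIndex_bot_left, Subgroup.inf_relIndex_left] at h1
      obtain ⟨j, hj⟩ := (R.2.to_le (inf_le_left : (R : Subgroup K) ⊓ C ≤ R)).exists_card_eq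
      have hjC : 3 ^ j ∣ Nat.card C := hj ▸ Subgroup.card_dvd_of_le inf_le_right
      have hcard : 3 ^ (i + j) ∣ Nat.card K := by
        rw [← Subgroup.index_mul_card C, hi, pow_add]; exact Nat.mul_dvd_mul_left _ hjC
      have hRdvd : 3 ^ (i + j) ∣ Nat.card (R : Subgroup K) := R.pow_dvd_card_of_pow_dvd_card hcard
      rw [← h1, hj, pow_add, mul_comm] at hRdvd
      have h3 : 3 ^ i ∣ C.relIndex (R : Subgroup K) :=
        Nat.dvd_of_mul_dvd_mul_left (pow_pos (by norm_num) j) hRdvd
      exact hi ▸ Nat.le_of_dvd (Nat.pos_of_ne_zero Subgroup.index_ne_zero_of_finite) h3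
    intro k
    let f : (R : Subgroup K) ⧸ C.subgroupOf (R : Subgroup K) → K ⧸ C :=
      Quotient.map' (fun r => (r : K)) fun r s h => by
        rw [QuotientGroup.leftRel_apply] at h ⊢
        exact h
    have hinj : Function.Injective f := by
      intro u v
      induction u using QuotientGroup.induction_on with
      | _ r =>
        induction v using QuotientGroup.induction_on with
        | _ s =>
          intro h
          apply Quotient.sound'
          have h' := Quotient.exact' h
          rw [QuotientGroup.leftRel_apply] at h' ⊢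
          exact h'
    have hbij := hinj.bijective_of_nat_card_le (hle : Nat.card (K ⧸ C) ≤ Nat.card (_ ⧸ _))
    obtain ⟨u, hu⟩ := hbij.2 (k : K ⧸ C)
    obtain ⟨r, rfl⟩ := QuotientGroup.mk_surjective u
    exact ⟨r, r.2, QuotientGroup.eq.1 hu⟩
  set R' : Subgroup G := (R : Subgroup K).map K.subtype with hR'
  -- every element is `k` or `k * a`
  have hdec : ∀ g : G, ∃ k ∈ K, g = k ∨ g = k * a := by
    intro g
    have hcl : ∀ q ∈ D, q * a⁻¹ ∈ K := fun q hq => by
      rw [tt_inv hD.1 ha]; exact tt_mul_mem_commutator hD hq ha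
    have hgcl : g ∈ Subgroup.closure D := by rw [hD.2.2]; exact Subgroup.mem_top g
    induction hgcl using Subgroup.closure_induction_left with
    | one => exact ⟨1, one_mem _, Or.inl rfl⟩
    | mul_left q hq z _ hz =>
      obtain ⟨k, hk, rfl | rfl⟩ := hz
      · refine ⟨q * a⁻¹ * (a * z * a⁻¹), mul_mem (hcl q hq)
          ((inferInstance : K.Normal).conj_mem z hk a), Or.inr ?_⟩
        group
      · refine ⟨q * a⁻¹ * (a * k * a⁻¹), mul_mem (hcl q hq)
          ((inferInstance : K.Normal).conj_mem k hk a), Or.inl ?_⟩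
        rw [tt_inv hD.1 ha]
        simp only [mul_assoc]
        rw [← mul_assoc a a, tt_mul_self hD.1 ha, one_mul]
    | inv_mul_cancel q hq z _ hz =>
      rw [tt_inv hD.1 hq]
      obtain ⟨k, hk, rfl | rfl⟩ := hz
      · refine ⟨q * a⁻¹ * (a * z * a⁻¹), mul_mem (hcl q hq)
          ((inferInstance : K.Normal).conj_mem z hk a), Or.inr ?_⟩
        group
      · refine ⟨q * a⁻¹ * (a * k * a⁻¹), mul_mem (hcl q hq)
          ((inferInstance : K.Normal).conj_mem k hk a), Or.inl ?_⟩
        rw [tt_inv hD.1 ha]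
        simp only [mul_assoc]
        rw [← mul_assoc a a, tt_mul_self hD.1 ha, one_mul]
  have hDsub : D ⊆ (R' ⊔ Subgroup.zpowers a : Subgroup G) := by
    intro q hq
    obtain ⟨g, rfl⟩ := tt_class_conj hD ha hq
    obtain ⟨k, hk, hgk⟩ := hdec g
    obtain ⟨r, hr, hrk⟩ := hRC ⟨k, hk⟩
    have hc : (r : G)⁻¹ * k * a = a * ((r : G)⁻¹ * k) :=
      Subgroup.mem_centralizer_singleton_iff.1 hrk
    have heq : g * a * g⁻¹ = (r : G) * a * (r : G)⁻¹ := by
      have hk' : k * a * k⁻¹ = (r : G) * a * (r : G)⁻¹ :=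
        calc k * a * k⁻¹ = (r : G) * ((r : G)⁻¹ * k * a) * k⁻¹ := by group
          _ = (r : G) * a * (r : G)⁻¹ := by rw [hc]; group
      rcases hgk with rfl | rfl
      · exact hk'
      · rw [← hk']; group
    rw [heq]
    exact mul_mem (mul_mem (Subgroup.mem_sup_left ⟨r, hr, rfl⟩) (Subgroup.mem_sup_right
      (Subgroup.mem_zpowers a))) (inv_mem (Subgroup.mem_sup_left ⟨r, hr, rfl⟩))
  have hRn : Subgroup.zpowers a ≤ Subgroup.normalizer (R' : Set G) := by
    rw [Subgroup.zpowers_le, Subgroup.mem_normalizer_iff]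
    have hm : ∀ y : G, y ∈ R' → a * y * a⁻¹ ∈ R' := by
      rintro _ ⟨r, hr, rfl⟩
      exact ⟨_, hR r hr, by simp [MulAut.conjNormal_apply]⟩
    refine fun y => ⟨hm y, fun hy => ?_⟩
    have h2 := hm _ hy
    rw [tt_inv hD.1 ha] at h2
    have e : a * (a * y * a) * a = y := by
      rw [← mul_assoc, ← mul_assoc, tt_mul_self hD.1 ha, one_mul, mul_assoc,
        tt_mul_self hD.1 ha, mul_one]
    rwa [e] at h2
  have htop : R' ⊔ Subgroup.zpowers a = ⊤ := by
    rw [eq_top_iff, ← hD.2.2, Subgroup.closure_le]; exact hDsub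
  haveI hR'n : R'.Normal := by
    rw [← Subgroup.normalizer_eq_top_iff, eq_top_iff, ← htop]
    exact sup_le Subgroup.le_normalizer hRn
  have hKR : K ≤ R' := by
    haveI : IsCyclic (G ⧸ R') := by
      refine ⟨⟨(a : G ⧸ R'), fun x => ?_⟩⟩
      obtain ⟨g, rfl⟩ := QuotientGroup.mk_surjective x
      have hg : g ∈ R' ⊔ Subgroup.zpowers a := htop ▸ Subgroup.mem_top g
      obtain ⟨r, hr, z, ⟨n, rfl⟩, rfl⟩ := Subgroup.mem_sup_of_normal_left.1 hg
      refine ⟨n, ?_⟩
      show (a : G ⧸ R') ^ n = _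
      rw [← QuotientGroup.mk_zpow, QuotientGroup.eq]
      have := hR'n.conj_mem r hr (a ^ n)⁻¹
      simpa [mul_assoc] using this
    letI : CommGroup (G ⧸ R') := IsCyclic.commGroup
    intro k hk
    have hle : commutator G ≤ (QuotientGroup.mk' R').ker := Abelianization.commutator_subset_ker _
    rw [QuotientGroup.ker_mk'] at hle
    exact hle hk
  -- so `K` is a 3-group, hence not non-abelian simple
  haveI : Fact (Nat.Prime 3) := ⟨Nat.prime_three⟩
  have hK3 : IsPGroup 3 K := (R.2.map K.subtype).to_le hKR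
  haveI : Nontrivial K := by
    obtain ⟨x, y, hxy⟩ := hnonab
    exact ⟨⟨x, y, fun e => hxy (by rw [e])⟩⟩
  obtain ⟨x, y, hxy⟩ := hnonab
  haveI := hK3.center_nontrivial
  rcases (inferInstance : (Subgroup.center K).Normal).eq_bot_or_eq_top with h | h
  · exact (Subgroup.nontrivial_iff_ne_bot _).1 inferInstance h
  · exact hxy (Subgroup.mem_center_iff.1 (h ▸ Subgroup.mem_top y) x)

end

end Cfsg.Agent.H29
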