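import Cfsg.Agent.H44.FischerDx

/-!
Fischer's rank three property: for a class of 3-transpositions with non-abelian simple derived
group, the centraliser of a member is transitive on the members not commuting with it, provided
some other member commutes with it.  Colour a non-commuting pair by its orbit; a colour changes
along a commuting edge only by becoming commuting, and this forces a single colour.
-/

set_option autoImplicit false

namespace Cfsg.Agent.H29

open H44
open scoped commutatorElement

variable {G : Type*} [Group G] {D : Set G}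

/-- Two pairs in one orbit under conjugation. -/
def SameColour (a c a' c' : G) : Prop := ∃ g : G, g * a * g⁻¹ = a' ∧ g * c * g⁻¹ = c'

theorem SameColour.refl (a c : G) : SameColour a c a c := ⟨1, by group, by group⟩

theorem SameColour.symm {a c a' c' : G} (h : SameColour a c a' c') : SameColour a' c' a c := by
  obtain ⟨g, rfl, rfl⟩ := h
  exact ⟨g⁻¹, by group, by group⟩

theorem SameColour.trans {a c a' c' a'' c'' : G} (h : SameColour a c a' c')
    (h' : SameColour a' c' a'' c'') : SameColour a c a'' c'' := by
  obtain ⟨g, rfl, rfl⟩ := h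
  obtain ⟨k, rfl, rfl⟩ := h'
  exact ⟨k * g, by group, by group⟩

theorem SameColour.not_commute {a c a' c' : G} (h : SameColour a c a' c') (hc : ¬ Commute a c) :
    ¬ Commute a' c' := by
  obtain ⟨g, rfl, rfl⟩ := h
  exact fun e => hc ((commute_conj_iff g a c).1 e)

theorem sameColour_conj (g a c : G) : SameColour a c (g * a * g⁻¹) (g * c * g⁻¹) := ⟨g, rfl, rfl⟩

/-- A non-commuting pair is in the orbit of its reverse. -/
theorem sameColour_swap (hD : IsThreeTranspositionClass D) {a c : G} (ha : a ∈ D) (hc : c ∈ D)
    (h : ¬ Commute a c) : SameColour a c c a := by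
  refine ⟨a * c * a, ?_, ?_⟩
  · rw [mul_inv_rev, mul_inv_rev, tt_inv hD.1 ha, tt_inv hD.1 hc]
    calc a * c * a * a * (a * (c * a)) = a * c * (a * a) * (a * c) * a := by group
      _ = a * (c * a * c) * a := by rw [tt_mul_self hD.1 ha]; group
      _ = (a * a) * c * (a * a) := by rw [← tt_braid hD.1 ha hc h]; group
      _ = c := by rw [tt_mul_self hD.1 ha]; group
  · rw [mul_inv_rev, mul_inv_rev, tt_inv hD.1 ha, tt_inv hD.1 hc]
    calc a * c * a * c * (a * (c * a)) = (a * c * a) * (c * a * c) * a := by group
      _ = (c * a * c) * (c * a * c) * a := by rw [← tt_braid hD.1 ha hc h]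
      _ = c * a * (c * c) * a * c * a := by group
      _ = c * (a * a) * c * a := by rw [tt_mul_self hD.1 hc]; group
      _ = (c * c) * a := by rw [tt_mul_self hD.1 ha]; group
      _ = a := by rw [tt_mul_self hD.1 hc, one_mul]

/-- The key fact: two commuting members not commuting with `a` give the same colour at `a`. -/
theorem sameColour_of_commute (hD : IsThreeTranspositionClass D) {a c z : G} (ha : a ∈ D)
    (hc : c ∈ D) (hz : z ∈ D) (hac : ¬ Commute a c) (haz : ¬ Commute a z) (hcz : Commute c z) :
    SameColour a c a z := by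
  have aa := tt_mul_self hD.1 ha
  have cc := tt_mul_self hD.1 hc
  have zz := tt_mul_self hD.1 hz
  have bac := tt_braid hD.1 ha hc hac
  have baz := tt_braid hD.1 ha hz haz
  have hczc : c * z * c = z := by rw [hcz.eq, mul_assoc, cc, mul_one]
  have hzcz : z * c * z = c := by rw [← hcz.eq, mul_assoc, zz, mul_one]
  set e := c * z * a * z * c with he
  have einv : e⁻¹ = e := by
    rw [he]; simp only [mul_inv_rev, tt_inv hD.1 ha, tt_inv hD.1 hc, tt_inv hD.1 hz, mul_assoc]
  have hea : Commute e a := by
    have k1 : a * e = c * a * z * a * c * a := by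
      calc a * e = a * c * (z * a * z) * c := by rw [he]; group
        _ = a * c * (a * z * a) * c := by rw [baz]
        _ = (a * c * a) * z * a * c := by group
        _ = (c * a * c) * z * a * c := by rw [bac]
        _ = c * a * (c * z) * a * c := by group
        _ = c * a * (z * c) * a * c := by rw [hcz.eq]
        _ = c * a * z * (c * a * c) := by group
        _ = c * a * z * (a * c * a) := by rw [bac]
        _ = c * a * z * a * c * a := by group
    have k2 : e * a = c * a * z * a * c * a := by
      calc e * a = c * (z * a * z) * c * a := by rw [he]; group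
        _ = c * (a * z * a) * c * a := by rw [baz]
        _ = c * a * z * a * c * a := by group
    exact k2.trans k1.symm
  have hec : e * c * e = a * z * a := by
    calc e * c * e = c * z * a * z * (c * c) * c * z * a * z * c := by rw [he]; group
      _ = c * z * a * (z * c * z) * a * z * c := by rw [cc]; group
      _ = c * z * (a * c * a) * z * c := by rw [hzcz]; group
      _ = c * z * (c * a * c) * z * c := by rw [bac]
      _ = (c * z * c) * a * (c * z * c) := by group
      _ = z * a * z := by rw [hczc]
      _ = a * z * a := by rw [baz]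
  refine ⟨a * e, ?_, ?_⟩
  · rw [mul_inv_rev, einv, tt_inv hD.1 ha]
    calc a * e * a * (e * a) = a * (e * a) * e * a := by group
      _ = a * (a * e) * e * a := by rw [hea.eq]
      _ = (a * a) * (e * e) * a := by group
      _ = a := by
        rw [aa, one_mul, show e * e = 1 by rw [← einv]; simp [mul_eq_one_iff_eq_inv, einv], one_mul]
  · rw [mul_inv_rev, einv, tt_inv hD.1 ha]
    calc a * e * c * (e * a) = a * (e * c * e) * a := by group
      _ = (a * a) * z * (a * a) := by rw [hec]; group
      _ = z := by rw [aa]; group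

section

variable [Finite G] (hD : IsThreeTranspositionClass D) (hsimple : IsSimpleGroup (commutator G))
include hD hsimple

/-- A block system with a non-trivial block has one block. -/
theorem blocks_universal (S : TTBlocks D) {u v : G} (huv : S.r u v) (hne : u ≠ v) {x y : G}
    (hx : x ∈ D) (hy : y ∈ D) : S.r x y := by
  have hprod : ∀ {p q : G}, p ∈ D → q ∈ D → p * q ∈ commutator G := by
    intro p q hp hq
    obtain ⟨g, rfl⟩ := tt_class_conj hD hp hq
    have h : p * (g * p * g⁻¹) = ⁅p, g⁆ := by
      rw [commutatorElement_def, tt_inv hD.1 hp]; group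
    rw [h]
    exact Subgroup.commutator_mem_commutator (Subgroup.mem_top _) (Subgroup.mem_top _)
  haveI hkn : S.kernel.Normal := ⟨fun n hn g => S.kernel_conj hD g hn⟩
  have hle : commutator G ≤ S.kernel := by
    haveI := hsimple
    rcases (Subgroup.Normal.subgroupOf hkn (commutator G)).eq_bot_or_eq_top with h | h
    · exfalso
      have hm : (⟨u * v, hprod (S.mem huv).1 (S.mem huv).2⟩ : commutator G) ∈
          S.kernel.subgroupOf (commutator G) := S.mul_mem_kernel hD huv
      rw [h, Subgroup.mem_bot] at hm
      have huv1 : u * v = 1 := congrArg Subtype.val hm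
      exact hne (by rw [eq_inv_of_mul_eq_one_left huv1, tt_inv hD.1 (S.mem huv).2])
    · intro g hg
      have hm : (⟨g, hg⟩ : commutator G) ∈ S.kernel.subgroupOf (commutator G) := by
        rw [h]; exact Subgroup.mem_top _
      exact hm
  have hstep : ∀ p q, p ∈ D → q ∈ D → ¬ Commute p q → S.r p q := by
    intro p q hp hq hpq
    have h1 := S.conj p (hle (hprod hp hq) p hp)
    have e1 : p * p * p⁻¹ = p := by group
    have e2 : p * (p * q * p * (p * q)⁻¹) * p⁻¹ = q * p * q := by
      rw [mul_inv_rev, tt_inv hD.1 hp, tt_inv hD.1 hq]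
      calc p * (p * q * p * (q * p)) * p = (p * p) * q * p * q * (p * p) := by group
        _ = q * p * q := by rw [tt_mul_self hD.1 hp]; group
    rw [e1, e2, ← tt_braid hD.1 hp hq hpq] at h1
    have h2 := S.conj p h1
    have e3 : p * (p * q * p) * p⁻¹ = q := by
      rw [tt_inv hD.1 hp]
      calc p * (p * q * p) * p = (p * p) * q * (p * p) := by group
        _ = q := by rw [tt_mul_self hD.1 hp]; group
    rwa [e1, e3] at h2
  induction tt_noncommute_connected hD hx hy with
  | refl => exact S.refl hx
  | tail _ h ih => exact S.trans (ih h.1) (hstep _ _ h.1 h.2.1 h.2.2)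

end

/-- The members commuting with both. -/
def commonNbrs (D : Set G) (a c : G) : Set G := {z | z ∈ D ∧ Commute z a ∧ Commute z c}

theorem SameColour.ncard_commonNbrs [Finite G] (hD : IsThreeTranspositionClass D) {a c a' c' : G}
    (h : SameColour a c a' c') : (commonNbrs D a c).ncard = (commonNbrs D a' c').ncard := by
  have key : ∀ {a c a' c' : G}, SameColour a c a' c' →
      (commonNbrs D a c).ncard ≤ (commonNbrs D a' c').ncard := by
    rintro a c _ _ ⟨g, rfl, rfl⟩
    exact Set.ncard_le_ncard_of_injOn (fun z => g * z * g⁻¹)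
      (fun z hz => ⟨tt_invariant hD g hz.1, (commute_conj_iff g z a).2 hz.2.1,
        (commute_conj_iff g z c).2 hz.2.2⟩)
      (fun _ _ _ _ e => mul_left_cancel (mul_right_cancel e)) (Set.toFinite _)
  exact le_antisymm (key h) (key h.symm)

theorem commonNbrs_comm (a c : G) : commonNbrs D a c = commonNbrs D c a :=
  Set.ext fun _ => ⟨fun h => ⟨h.1, h.2.2, h.2.1⟩, fun h => ⟨h.1, h.2.2, h.2.1⟩⟩

/-- The block system of the connected components of a symmetric invariant relation `R` on `D`
such that commutation with an outsider is constant along `R`. -/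
def componentBlocks (hD : IsThreeTranspositionClass D) (R : G → G → Prop)
    (hmem : ∀ p q, R p q → p ∈ D ∧ q ∈ D) (hsymm : ∀ p q, R p q → R q p)
    (hconj : ∀ (g : G) p q, R p q → R (g * p * g⁻¹) (g * q * g⁻¹))
    (hconst : ∀ p q w, w ∈ D → R p q → Commute w p → ¬ Relation.ReflTransGen R q w → Commute w q) :
    TTBlocks D where
  r u v := u ∈ D ∧ v ∈ D ∧ Relation.ReflTransGen R u v
  refl h := ⟨h, h, Relation.ReflTransGen.refl⟩
  symm {u v} h := by
    refine ⟨h.2.1, h.1, ?_⟩
    have h' := h.2.2
    clear h
    induction h' with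
    | refl => exact Relation.ReflTransGen.refl
    | tail _ hs ih => exact Relation.ReflTransGen.head (hsymm _ _ hs) ih
  trans h h' := ⟨h.1, h'.2.1, h.2.2.trans h'.2.2⟩
  conj g {u v} h :=
    ⟨tt_invariant hD g h.1, tt_invariant hD g h.2.1,
      Relation.ReflTransGen.lift (fun q => g * q * g⁻¹) (hconj g) _ _ h.2.2⟩
  mem h := ⟨h.1, h.2.1⟩
  const {u v w} h hw hn := by
    have hu := h.1
    have h' := h.2.2
    clear h
    induction h' with
    | refl => exact Iff.rfl
    | @tail b c hub hbc ih =>
      refine ih.trans ⟨fun hb => hconst b c w hw hbc hb fun hh => hn ?_,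
        fun hc => hconst c b w hw (hsymm _ _ hbc) hc fun hh => hn ?_⟩
      · exact ⟨hu, hw, (hub.tail hbc).trans hh⟩
      · exact ⟨hu, hw, hub.trans hh⟩

section

variable [Finite G] (hD : IsThreeTranspositionClass D) (hsimple : IsSimpleGroup (commutator G))
include hD hsimple

theorem commute_connected {a b : G} (hb : b ∈ D) (hba : b ≠ a) (hab : Commute a b) (ha : a ∈ D)
    {x y : G} (hx : x ∈ D) (hy : y ∈ D) :
    Relation.ReflTransGen (fun p q => p ∈ D ∧ q ∈ D ∧ Commute p q) x y := by
  let S := componentBlocks hD (fun p q => p ∈ D ∧ q ∈ D ∧ Commute p q) (fun _ _ h => ⟨h.1, h.2.1⟩)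
    (fun _ _ h => ⟨h.2.1, h.1, h.2.2.symm⟩)
    (fun g p q h => ⟨tt_invariant hD g h.1, tt_invariant hD g h.2.1, (commute_conj_iff g p q).2 h.2.2⟩)
    (fun p q w hw h hwp hn => absurd
      ((Relation.ReflTransGen.single ⟨h.2.1, h.1, h.2.2.symm⟩).trans
        (Relation.ReflTransGen.single ⟨h.1, hw, hwp.symm⟩)) hn)
  exact (blocks_universal hD hsimple S
    (show S.r a b from ⟨ha, hb, Relation.ReflTransGen.single ⟨ha, hb, hab⟩⟩) hba.symm hx hy).2.2

/-- Non-commuting members have a common neighbour. -/
theorem commonNbrs_nonempty {a b : G} (ha : a ∈ D) (hb : b ∈ D) (hba : b ≠ a) (hab : Commute a b)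
    {c d : G} (hc : c ∈ D) (hd : d ∈ D) (hcd : ¬ Commute c d) :
    (commonNbrs D c d).Nonempty := by
  by_contra hne
  rw [Set.not_nonempty_iff_eq_empty] at hne
  have key : ∀ x, Relation.ReflTransGen (fun p q => p ∈ D ∧ q ∈ D ∧ Commute p q) c x →
      SameColour c d x d := by
    intro x hx
    induction hx with
    | refl => exact SameColour.refl _ _
    | @tail p q _ hpq ih =>
      have hpd := ih.not_commute hcd
      have hqd : ¬ Commute q d := by
        intro hqd
        have h0 : (commonNbrs D p d).ncard = 0 := by
          rw [← ih.ncard_commonNbrs hD, hne, Set.ncard_empty]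
        rw [Set.ncard_eq_zero (Set.toFinite _)] at h0
        exact Set.eq_empty_iff_forall_notMem.1 h0 q ⟨hpq.2.1, hpq.2.2.symm, hqd⟩
      have hdp : ¬ Commute d p := fun e => hpd e.symm
      have hdq : ¬ Commute d q := fun e => hqd e.symm
      have hnew : SameColour p d q d :=
        ((sameColour_swap hD hpq.1 hd hpd).trans
          (sameColour_of_commute hD hd hpq.1 hpq.2.1 hdp hdq hpq.2.2)).trans
          (sameColour_swap hD hpq.2.1 hd hqd).symm
      exact ih.trans hnew
  exact (key d (commute_connected hD hsimple hb hba hab ha hc hd)).not_commute hcd (Commute.refl d)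

/-- All non-commuting pairs have equally many common neighbours. -/
theorem ncard_commonNbrs_eq {a c x y : G} (ha : a ∈ D) (hc : c ∈ D) (hac : ¬ Commute a c)
    (hx : x ∈ D) (hy : y ∈ D) (hxy : ¬ Commute x y) :
    (commonNbrs D a c).ncard = (commonNbrs D x y).ncard := by
  obtain ⟨⟨l, m⟩, ⟨hl, hm, hlm⟩, hmin⟩ := Set.exists_min_image
    {q : G × G | q.1 ∈ D ∧ q.2 ∈ D ∧ ¬ Commute q.1 q.2} (fun q => (commonNbrs D q.1 q.2).ncard)
    (Set.toFinite _) ⟨(a, c), ha, hc, hac⟩
  suffices h : ∀ p q, p ∈ D → q ∈ D → ¬ Commute p q →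
      (commonNbrs D p q).ncard = (commonNbrs D l m).ncard from
    (h a c ha hc hac).trans (h x y hx hy hxy).symm
  intro p q hp hq hpq
  by_contra hne
  let μ := (commonNbrs D l m).ncard
  let R : G → G → Prop := fun u v => u ∈ D ∧ v ∈ D ∧ ¬ Commute u v ∧ (commonNbrs D u v).ncard ≠ μ
  let S := componentBlocks hD R (fun _ _ h => ⟨h.1, h.2.1⟩)
    (fun u v h => ⟨h.2.1, h.1, fun e => h.2.2.1 e.symm, by rw [commonNbrs_comm]; exact h.2.2.2⟩)
    (fun g u v h => ⟨tt_invariant hD g h.1, tt_invariant hD g h.2.1,
      fun e => h.2.2.1 ((commute_conj_iff g u v).1 e),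
      by rw [← (sameColour_conj g u v).ncard_commonNbrs hD]; exact h.2.2.2⟩)
    (fun u v w hw h hwu hn => by
      by_contra hwv
      apply hn
      refine Relation.ReflTransGen.single ⟨h.2.1, hw, fun e => hwv e.symm, ?_⟩
      rw [← (sameColour_of_commute hD h.2.1 h.1 hw (fun e => h.2.2.1 e.symm) (fun e => hwv e.symm)
        hwu.symm).ncard_commonNbrs hD, commonNbrs_comm]
      exact h.2.2.2)
  have hpq' : S.r p q :=
    ⟨hp, hq, Relation.ReflTransGen.single ⟨hp, hq, hpq, hne⟩⟩
  have hpne : p ≠ q := fun e => hpq (e ▸ Commute.refl p)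
  have hlink : Relation.ReflTransGen R l m := (blocks_universal hD hsimple S hpq' hpne hl hm).2.2
  have key : ∀ u, Relation.ReflTransGen R l u →
      u ∈ D ∧ ¬ Commute m u ∧ (commonNbrs D m u).ncard = μ := by
    intro u hu
    induction hu with
    | refl => exact ⟨hl, fun e => hlm e.symm, by rw [commonNbrs_comm]⟩
    | @tail u v _ huv ih =>
      obtain ⟨huD, hmu, hcard⟩ := ih
      obtain ⟨-, hvD, huv', hμ⟩ := huv
      have hum : ¬ Commute u m := fun e => hmu e.symm
      have hmv : ¬ Commute m v := by
        intro hmv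
        apply hμ
        rw [← (sameColour_of_commute hD huD hm hvD hum huv' hmv).ncard_commonNbrs hD, commonNbrs_comm]
        exact hcard
      refine ⟨hvD, hmv, le_antisymm ?_ (hmin (m, v) ⟨hm, hvD, hmv⟩)⟩
      rw [← hcard]
      refine Set.ncard_le_ncard (fun z hz => ⟨hz.1, hz.2.1, ?_⟩) (Set.toFinite _)
      by_contra hzu
      apply hμ
      have hz2 : SameColour u v u z :=
        sameColour_of_commute hD huD hvD hz.1 huv' (fun e => hzu e.symm) hz.2.2.symm
      have hz3 : SameColour u z u m :=
        sameColour_of_commute hD huD hz.1 hm (fun e => hzu e.symm) hum hz.2.1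
      rw [(hz2.trans hz3).ncard_commonNbrs hD, commonNbrs_comm]
      exact hcard
  exact (key m hlink).2.1 (Commute.refl m)

/-- Transitivity on the members not commuting with `a`. -/
theorem sameColour_of_noncommute {a b c c' : G} (ha : a ∈ D) (hb : b ∈ D) (hba : b ≠ a)
    (hab : Commute a b) (hc : c ∈ D) (hc' : c' ∈ D) (hac : ¬ Commute a c) (hac' : ¬ Commute a c') :
    SameColour a c a c' := by
  by_contra hne
  -- at every vertex two colours give equal sets of common neighbours
  have hdiff : ∀ u p q, u ∈ D → p ∈ D → q ∈ D → ¬ Commute u p → ¬ Commute u q →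
      ¬ SameColour u p u q → commonNbrs D u p = commonNbrs D u q := by
    intro u p q hu hp hq hup huq hnc
    have hpq : ¬ Commute p q := fun e => hnc (sameColour_of_commute hD hu hp hq hup huq e)
    have hsub : ∀ z ∈ commonNbrs D p q, Commute z u := by
      intro z hz
      by_contra hzu
      exact hnc ((sameColour_of_commute hD hu hp hz.1 hup (fun e => hzu e.symm) hz.2.1.symm).trans
        (sameColour_of_commute hD hu hz.1 hq (fun e => hzu e.symm) huq hz.2.2))
    have h1 : commonNbrs D p q = commonNbrs D u p :=
      Set.eq_of_subset_of_ncard_le (fun z hz => ⟨hz.1, hsub z hz, hz.2.1⟩)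
        (ncard_commonNbrs_eq hD hsimple hu hp hup hp hq hpq).le (Set.toFinite _)
    have h2 : commonNbrs D p q = commonNbrs D u q :=
      Set.eq_of_subset_of_ncard_le (fun z hz => ⟨hz.1, hsub z hz, hz.2.2⟩)
        (ncard_commonNbrs_eq hD hsimple hu hq huq hp hq hpq).le (Set.toFinite _)
    exact h1.symm.trans h2
  -- at every vertex all sets of common neighbours are equal
  have hall : ∀ u p q, u ∈ D → p ∈ D → q ∈ D → ¬ Commute u p → ¬ Commute u q →
      commonNbrs D u p = commonNbrs D u q := by
    intro u p q hu hp hq hup huq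
    by_cases hpq : SameColour u p u q
    · obtain ⟨g, hg⟩ := tt_class_conj hD ha hu
      have hs : ∃ r, r ∈ D ∧ ¬ Commute u r ∧ ¬ SameColour u p u r := by
        by_contra hnone
        push Not at hnone
        have k : ∀ x ∈ D, ¬ Commute a x → SameColour u p a x := by
          intro x hx hax
          have hgx : SameColour a x u (g * x * g⁻¹) := ⟨g, hg, rfl⟩
          exact (hnone _ (tt_invariant hD g hx) (hgx.not_commute hax)).trans hgx.symm
        exact hne ((k c hc hac).symm.trans (k c' hc' hac'))
      obtain ⟨r, hr, hur, hnr⟩ := hs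
      exact (hdiff u p r hu hp hr hup hur hnr).trans
        (hdiff u q r hu hq hr huq hur fun e => hnr (hpq.trans e)).symm
    · exact hdiff u p q hu hp hq hup huq hpq
  obtain ⟨s, hs⟩ := commonNbrs_nonempty hD hsimple ha hb hba hab ha hc hac
  -- non-commuting pairs never enter the set of common neighbours of `a` and `c`
  have key : ∀ x, Relation.ReflTransGen (fun p q => p ∈ D ∧ q ∈ D ∧ ¬ Commute p q) a x →
      x ∉ commonNbrs D a c := by
    intro x hx
    induction hx with
    | refl => exact fun h => hac h.2.2
    | @tail x y _ hxy ih =>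
      intro hy
      obtain ⟨hxD, -, hnc⟩ := hxy
      by_cases hax : Commute a x
      · have hxc : ¬ Commute x c := fun e => ih ⟨hxD, hax.symm, e⟩
        have hy' : y ∈ commonNbrs D c x := by
          rw [hall c x a hc hxD ha (fun e => hxc e.symm) (fun e => hac e.symm), commonNbrs_comm]
          exact hy
        exact hnc hy'.2.2.symm
      · have hy' : y ∈ commonNbrs D a x := by rw [hall a x c ha hxD hc hax hac]; exact hy
        exact hnc hy'.2.2.symm
  exact key s (tt_noncommute_connected hD ha hs.1) hs

end

end Cfsg.Agent.H29
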