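import Cfsg.Agent.H29.GolayExtCheck

/-!
The exhaustive search for hyperovals, one theorem per group of first points.
-/

set_option autoImplicit false
set_option Elab.async false

namespace Cfsg.Agent.H29

/-- The search below the first point `i` of the list. -/
def ovalBranch (i : ℕ) : Bool :=
  match planePts.drop i with
  | [] => true
  | p :: r => !planeOk (2 ^ p) || checkAll ovList r 5 (2 ^ p)

theorem ovalBranch_zero : ovalBranch 0 = true := by decide +kernel

theorem ovalBranch_one : ovalBranch 1 = true := by decide +kernel

theorem ovalBranch_two : ovalBranch 2 = true := by decide +kernel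

theorem ovalBranch_mid : ([3, 4].all ovalBranch) = true := by decide +kernel

theorem ovalBranch_rest : ((List.range' 5 16).all ovalBranch) = true := by decide +kernel

theorem planePts_length : planePts.length = 21 := by decide +kernel

theorem ovalBranch_all (i : ℕ) : ovalBranch i = true := by
  by_cases hi : i < 21
  · have h1 := List.all_eq_true.1 ovalBranch_mid
    have h2 := List.all_eq_true.1 ovalBranch_rest i
    rcases (show i = 0 ∨ i = 1 ∨ i = 2 ∨ i = 3 ∨ i = 4 ∨ 5 ≤ i by omega) with
      rfl | rfl | rfl | rfl | rfl | h
    · exact ovalBranch_zero
    · exact ovalBranch_one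
    · exact ovalBranch_two
    · exact h1 3 (by simp)
    · exact h1 4 (by simp)
    · exact h2 (List.mem_range'_1.2 ⟨h, by omega⟩)
  · unfold ovalBranch
    rw [List.drop_eq_nil_of_le (by rw [planePts_length]; omega)]

theorem checkAll_of_branches (target : List ℕ) (k cur : ℕ) :
    ∀ l : List ℕ,
      (∀ i p r, l.drop i = p :: r →
        (!planeOk (cur ||| 2 ^ p) || checkAll target r k (cur ||| 2 ^ p)) = true) →
      checkAll target l (k + 1) cur = true
  | [], _ => by simp [checkAll]
  | p :: r, h => by
    rw [checkAll, show (k + 1 == 0) = false by simp, cond_false, Bool.and_eq_true]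
    exact ⟨checkAll_of_branches target k cur r fun i q s e => h (i + 1) q s (by simpa using e),
      h 0 p r rfl⟩

theorem ovals_complete : checkAll ovList planePts 6 0 = true := by
  refine checkAll_of_branches ovList 5 0 planePts fun i p r e => ?_
  have h := ovalBranch_all i
  simp only [ovalBranch, e] at h
  rwa [Nat.zero_or]

end Cfsg.Agent.H29
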