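import Cfsg.Agent.H29.GolayExtCheck
import Cfsg.Agent.H29.GolayExtOvals

/-!
Kernel checks for the extension to S(4,7,23) and S(5,8,24).
-/

set_option autoImplicit false

set_option Elab.async false

namespace Cfsg.Agent.H29

open Golay

/-- Candidates for heptads through the point one. -/
def good22 : List ℕ := (ovList.map (· ||| 2 ^ 1)).filter hexCond

/-- The images of the candidates under one table are listed. -/
def goodImg (t : ℕ) : Bool := good22.all fun c => (heptA ++ heptB).contains (tblImg t c)

theorem good22_covered_one : (trans22.take 8).all goodImg = true := by decide +kernel

theorem good22_covered_two : ((trans22.drop 8).take 8).all goodImg = true := by decide +kernel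

theorem good22_covered_three : ((trans22.drop 8).drop 8).all goodImg = true := by decide +kernel

theorem good22_covered :
    (trans22.all fun t => good22.all fun c => (heptA ++ heptB).contains (tblImg t c)) = true := by
  show trans22.all goodImg = true
  rw [← List.take_append_drop 8 trans22, List.all_append, good22_covered_one,
    ← List.take_append_drop 8 (trans22.drop 8), List.all_append, good22_covered_two,
    good22_covered_three]
  rfl

theorem hept_cross : (heptA.all fun x => heptB.all fun y =>
    !(fastCnt (x &&& y) == 1 || fastCnt (x &&& y) == 3)) = true := by
  decide +kernel

theorem good24_covered : ((heptA ++ heptB).all fun c =>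
    !heptCond (c ||| 2 ^ 0) || octadList.contains (c ||| 2 ^ 0)) = true := by
  decide +kernel

end Cfsg.Agent.H29
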