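import Cfsg.Agent.H29.SteinerOn
import Cfsg.Agent.H29.GolayExtCheck2
import Cfsg.Agent.Golay.Transport
import Cfsg.Agent.S5626

/-!
Uniqueness of S(3,6,22), S(4,7,23) and S(5,8,24): every such system embeds in the 24 points as
the twice derived, once derived, or full system of octads.
-/

set_option autoImplicit false

namespace Cfsg.Agent.H29

open Finset Golay
open scoped Pointwise

/-- The sets given by a list of masks. -/
def mSet (L : List ℕ) : Set (Finset GolayPt) := {s | ∃ m ∈ L, ptSet m = s}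

/-- Image of a family of sets. -/
def mapSys {α β : Type*} (e : α ↪ β) (T : Set (Finset α)) : Set (Finset β) :=
  (fun b => b.map e) '' T

theorem mapSys_mapSys {α β γ : Type*} (e : α ↪ β) (f : β ↪ γ) (T : Set (Finset α)) :
    mapSys f (mapSys e T) = mapSys (e.trans f) T := by
  simp only [mapSys, Set.image_image, Finset.map_map]

theorem mem_mapSys {α β : Type*} {e : α ↪ β} {T : Set (Finset α)} {b : Finset α} :
    b.map e ∈ mapSys e T ↔ b ∈ T :=
  (Finset.map_injective e).mem_set_image

/-- Points other than the extra point. -/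
def X23 : Finset GolayPt := ptSet mask23

/-- Points other than the extra point and zero. -/
def X22 : Finset GolayPt := ptSet mask22

/-- Points other than the extra point, zero and one. -/
def X21 : Finset GolayPt := ptSet mask21

theorem X_erase : (Finset.univ : Finset GolayPt).erase (pt 23) = X23 ∧ X23.erase (pt 0) = X22 ∧
    X22.erase (pt 1) = X21 ∧ X23.card = 23 ∧ X22.card = 22 ∧ pt 0 ∈ X23 ∧ pt 1 ∈ X22 ∧
    pt 1 ∉ X21 := by
  decide +kernel

/-- The S(4,7,23). -/
def std23 : Set (Finset GolayPt) := mSet hept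

/-- The S(3,6,22). -/
def std22 : Set (Finset GolayPt) := mSet hex22

/-- The plane of order four. -/
def std21 : Set (Finset GolayPt) := mSet lines21

theorem derived_mSet {L : List ℕ} (hL : ∀ m ∈ L, m < 2 ^ 24) {i : ℕ} (hi : i < 24) :
    {s : Finset GolayPt | pt i ∉ s ∧ insert (pt i) s ∈ mSet L} =
      mSet ((L.filter fun o => o.testBit i).map (· ^^^ 2 ^ i)) := by
  have hxor : ∀ m : ℕ, m.testBit i = true → ptSet (m ^^^ 2 ^ i) = (ptSet m).erase (pt i) := by
    intro m hm
    ext p
    simp only [mem_ptSet, Nat.testBit_xor, Nat.testBit_two_pow, Finset.mem_erase]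
    by_cases h : idx p = i
    · rw [← h, pt_idx]; subst h; simp [hm]
    · have hne : p ≠ pt i := fun e => h (by rw [e, idx_pt i hi])
      simp [Ne.symm h, hne]
  ext s
  constructor
  · rintro ⟨h1, m, hm, he⟩
    have hbit : m.testBit i = true := by
      have : pt i ∈ ptSet m := by rw [he]; exact Finset.mem_insert_self _ _
      rwa [mem_ptSet, idx_pt i hi] at this
    refine ⟨_, List.mem_map.2 ⟨m, List.mem_filter.2 ⟨hm, hbit⟩, rfl⟩, ?_⟩
    rw [hxor m hbit, he, Finset.erase_insert h1]
  · rintro ⟨_, hm', rfl⟩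
    obtain ⟨m, hm, rfl⟩ := List.mem_map.1 hm'
    obtain ⟨hmL, hbit⟩ := List.mem_filter.1 hm
    rw [hxor m hbit]
    refine ⟨Finset.notMem_erase _ _, m, hmL, ?_⟩
    rw [Finset.insert_erase (by rw [mem_ptSet, idx_pt i hi]; exact hbit)]

theorem xor_lt {L : List ℕ} (hL : ∀ m ∈ L, m < 2 ^ 24) {i : ℕ} (hi : i < 24) :
    ∀ m ∈ (L.filter fun o => o.testBit i).map (· ^^^ 2 ^ i), m < 2 ^ 24 := by
  intro m hm
  obtain ⟨m', hm', rfl⟩ := List.mem_map.1 hm
  exact Nat.xor_lt_two_pow (hL m' (List.mem_filter.1 hm').1) (Nat.pow_lt_pow_right (by norm_num) hi)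

theorem hept_list : hept = (octadList.filter fun o => o.testBit 23).map (· ^^^ 2 ^ 23) :=
  eq_of_beq hept_eq

theorem hex22_list : hex22 = (hept.filter fun o => o.testBit 0).map (· ^^^ 2 ^ 0) :=
  eq_of_beq hex22_eq

theorem hept_lt : ∀ m ∈ hept, m < 2 ^ 24 := by
  rw [hept_list]; exact xor_lt (fun m hm => octadList_lt hm) (by norm_num)

theorem hex22_lt : ∀ m ∈ hex22, m < 2 ^ 24 := by
  rw [hex22_list]; exact xor_lt hept_lt (by norm_num)

theorem lines21_lt : ∀ m ∈ lines21, m < 2 ^ 24 := xor_lt hex22_lt (by norm_num)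

theorem octads_eq_mSet : Cfsg.octads = mSet octadList := by
  rw [octads_eq_image]; rfl

theorem std23_eq : {s : Finset GolayPt | pt 23 ∉ s ∧ insert (pt 23) s ∈ Cfsg.octads} = std23 := by
  rw [octads_eq_mSet, derived_mSet (fun m hm => octadList_lt hm) (by norm_num), std23, ← hept_list]

theorem std22_eq : {s : Finset GolayPt | pt 0 ∉ s ∧ insert (pt 0) s ∈ std23} = std22 := by
  rw [std23, derived_mSet hept_lt (by norm_num), std22, ← hex22_list]

theorem std21_eq : {s : Finset GolayPt | pt 1 ∉ s ∧ insert (pt 1) s ∈ std22} = std21 := by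
  rw [std22, derived_mSet hex22_lt (by norm_num)]; rfl

theorem sys24 : SysOn 5 8 Finset.univ Cfsg.octads := sysOn_univ octads_isSteinerSystem

theorem sys23 : SysOn 4 7 X23 std23 := by
  rw [← std23_eq, ← X_erase.1]; exact sys24.derive (Finset.mem_univ _)

theorem sys22 : SysOn 3 6 X22 std22 := by
  rw [← std22_eq, ← X_erase.2.1]; exact sys23.derive X_erase.2.2.2.2.2.1

theorem sys21 : SysOn 2 5 X21 std21 := by
  rw [← std21_eq, ← X_erase.2.2.1]; exact sys22.derive X_erase.2.2.2.2.2.2.1

/-- Members through `a` of two systems with a common derived system agree. -/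
theorem mem_of_pencil {t k : ℕ} {X : Finset GolayPt} {T S P : Set (Finset GolayPt)}
    (htk : t ≤ k) {a : GolayPt} (ha : a ∈ X) (hT : SysOn (t + 1) (k + 1) X T)
    (hP : SysOn t k (X.erase a) P) (hPT : ∀ l ∈ P, a ∉ l ∧ insert a l ∈ T)
    (hPS : ∀ l ∈ P, insert a l ∈ S) {b : Finset GolayPt} (hb : b ∈ T) (hab : a ∈ b) : b ∈ S := by
  have heq := SysOn.eq_of_subset htk hP (hT.derive ha) hPT
  have hm : b.erase a ∈ P := by
    rw [heq]
    exact ⟨Finset.notMem_erase _ _, by rwa [Finset.insert_erase hab]⟩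
  have := hPS _ hm
  rwa [Finset.insert_erase hab] at this

theorem fastCnt_inter (a b : ℕ) : fastCnt (a &&& b) = (ptSet a ∩ ptSet b).card := by
  rw [← card_ptSet_fast, ptSet_and]

theorem ptSet_maskOf' (b : Finset GolayPt) : ptSet (maskOf b) = b := ptSet_maskOf b

/-- Soundness of the exhaustive growth. -/
theorem checkAll_sound (target : List ℕ) (m : ℕ)
    (hok : ∀ c : ℕ, (∀ i, c.testBit i = true → m.testBit i = true) → planeOk c = true) :
    ∀ (l : List ℕ) (k cur : ℕ), checkAll target l k cur = true →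
      (∀ i, m.testBit i = true ↔ cur.testBit i = true ∨ (i ∈ l ∧ m.testBit i = true)) →
      l.countP (fun i => m.testBit i) = k → m ∈ target := by
  have hfin : ∀ (cur : ℕ) (l : List ℕ),
      (∀ i, m.testBit i = true ↔ cur.testBit i = true ∨ (i ∈ l ∧ m.testBit i = true)) →
      l.countP (fun i => m.testBit i) = 0 → m = cur := by
    intro cur l h hc
    apply Nat.eq_of_testBit_eq
    intro i
    rw [Bool.eq_iff_iff, h i]
    rw [List.countP_eq_zero] at hc
    exact ⟨fun h' => h'.elim id fun h'' => absurd h''.2 (hc i h''.1), Or.inl⟩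
  intro l
  induction l with
  | nil =>
    intro k cur hc h hk
    simp only [List.countP_nil] at hk
    subst hk
    simp only [checkAll, bne_self_eq_false, Bool.false_or, List.contains_iff_mem] at hc
    rwa [hfin cur [] h rfl]
  | cons p r ih =>
    intro k cur hc h hk
    rw [checkAll] at hc
    rcases Nat.eq_zero_or_pos k with hk0 | hk0
    · subst hk0
      simp only [BEq.rfl, cond_true, List.contains_iff_mem] at hc
      rwa [hfin cur _ h hk]
    · have hkb : (k == 0) = false := by simpa using hk0.ne'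
      rw [hkb, cond_false, Bool.and_eq_true] at hc
      by_cases hp : m.testBit p = true
      · have hok' := hok (cur ||| 2 ^ p) (fun i hi => by
          rw [Nat.testBit_or, Nat.testBit_two_pow, Bool.or_eq_true] at hi
          rcases hi with hi | hi
          · exact (h i).2 (Or.inl hi)
          · rw [decide_eq_true_eq] at hi; exact hi ▸ hp)
        rw [hok', Bool.not_true, Bool.false_or] at hc
        refine ih (k - 1) (cur ||| 2 ^ p) hc.2 (fun i => ?_) ?_
        · rw [Nat.testBit_or, Nat.testBit_two_pow, Bool.or_eq_true, decide_eq_true_eq]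
          constructor
          · intro hm
            rcases (h i).1 hm with h1 | ⟨h1, h2⟩
            · exact Or.inl (Or.inl h1)
            · rcases List.mem_cons.1 h1 with rfl | h1
              · exact Or.inl (Or.inr rfl)
              · exact Or.inr ⟨h1, h2⟩
          · rintro ((h1 | h1) | ⟨-, h2⟩)
            · exact (h i).2 (Or.inl h1)
            · exact h1 ▸ hp
            · exact h2
        · rw [List.countP_cons, if_pos hp] at hk
          omega
      · refine ih k cur hc.1 (fun i => ?_) (by rw [List.countP_cons, if_neg hp] at hk; simpa using hk)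
        constructor
        · intro hm
          rcases (h i).1 hm with h1 | ⟨h1, h2⟩
          · exact Or.inl h1
          · rcases List.mem_cons.1 h1 with rfl | h1
            · exact absurd h2 hp
            · exact Or.inr ⟨h1, h2⟩
        · rintro (h1 | ⟨-, h2⟩)
          · exact (h i).2 (Or.inl h1)
          · exact h2

theorem planePts_nodup : planePts.Nodup := List.nodup_range.filter _

theorem mem_planePts {i : ℕ} : i ∈ planePts ↔ i < 24 ∧ mask21.testBit i = true := by
  simp [planePts]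

/-- Six points of the plane, at most two on each line, form a listed hyperoval. -/
theorem oval_mem {b : Finset GolayPt} (hb : b ⊆ X21) (h6 : b.card = 6)
    (h : ∀ l ∈ std21, (l ∩ b).card ≤ 2) : maskOf b ∈ ovList := by
  refine checkAll_sound ovList (maskOf b) (fun c hc => ?_) planePts 6 0 ovals_complete ?_ ?_
  · rw [planeOk, List.all_eq_true]
    intro l hl
    rw [decide_eq_true_eq, fastCnt_inter, Finset.inter_comm]
    refine le_trans (Finset.card_le_card ?_) (h _ ⟨l, hl, rfl⟩)
    apply Finset.inter_subset_inter_left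
    intro p hp
    rw [← ptSet_maskOf' b, mem_ptSet]
    exact hc _ (mem_ptSet.1 hp)
  · intro i
    simp only [Nat.zero_testBit, Bool.false_eq_true, false_or]
    refine ⟨fun hi => ⟨?_, hi⟩, fun h => h.2⟩
    rw [mem_planePts]
    have hi24 : i < 24 := by
      by_contra hh
      rw [Nat.testBit_lt_two_pow (lt_of_lt_of_le (maskOf_lt b)
        (Nat.pow_le_pow_right (by norm_num) (by omega)))] at hi
      exact Bool.false_ne_true hi
    refine ⟨hi24, ?_⟩
    have hp : pt i ∈ b := by rw [← ptSet_maskOf' b, mem_ptSet, idx_pt i hi24]; exact hi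
    have := hb hp
    rwa [X21, mem_ptSet, idx_pt i hi24] at this
  · rw [List.countP_eq_length_filter, ← List.toFinset_card_of_nodup (planePts_nodup.filter _), ← h6]
    refine (Finset.card_bij (fun p _ => idx p) ?_ ?_ ?_).symm
    · intro p hp
      rw [List.mem_toFinset, List.mem_filter, mem_planePts]
      have := hb hp
      rw [X21, mem_ptSet] at this
      exact ⟨⟨idx_lt p, this⟩, by rw [← mem_ptSet, ptSet_maskOf']; exact hp⟩
    · exact fun p _ q _ e => idx_injective e
    · intro i hi
      rw [List.mem_toFinset, List.mem_filter, mem_planePts] at hi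
      exact ⟨pt i, by rw [← ptSet_maskOf' b, mem_ptSet, idx_pt i hi.1.1]; exact hi.2,
        idx_pt i hi.1.1⟩

theorem ptSet_tblImg_map {t : ℕ} (hv : validT t = true) (m : ℕ) :
    ptSet (tblImg t m) = (ptSet m).map (mkPerm t).toEmbedding := by
  rw [ptSet_tblImg hv, Finset.map_eq_image]; rfl

theorem mkPerm_pt_eq {t i j : ℕ} (hv : validT t = true) (hi : i < 24) (h : app t i = j) :
    mkPerm t (pt i) = pt j := by
  rw [mkPerm_pt hv hi, h]

theorem map_one_equiv (b : Finset GolayPt) : b.map (1 : Equiv.Perm GolayPt).toEmbedding = b := by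
  rw [Finset.map_eq_image]; exact Finset.image_id'

theorem map_univ_erase {σ : Equiv.Perm GolayPt} {X : Finset GolayPt} {a : GolayPt}
    (hX : X.map σ.toEmbedding = X) (ha : σ a = a) :
    (X.erase a).map σ.toEmbedding = X.erase a := by
  rw [Finset.map_erase, hX]
  exact congrArg _ ha

theorem fixing_maps {σ : Equiv.Perm GolayPt} (h23 : σ (pt 23) = pt 23) :
    X23.map σ.toEmbedding = X23 ∧ (σ (pt 0) = pt 0 → X22.map σ.toEmbedding = X22 ∧
      (σ (pt 1) = pt 1 → X21.map σ.toEmbedding = X21)) := by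
  have h1 : X23.map σ.toEmbedding = X23 := by
    rw [← X_erase.1]; exact map_univ_erase (Finset.map_univ_equiv σ) h23
  refine ⟨h1, fun h0 => ?_⟩
  have h2 : X22.map σ.toEmbedding = X22 := by
    rw [← X_erase.2.1]; exact map_univ_erase h1 h0
  exact ⟨h2, fun h1' => by rw [← X_erase.2.2.1]; exact map_univ_erase h2 h1'⟩

/-- Extensions of the plane of order four. -/
theorem ext22 {T : Set (Finset GolayPt)} (hT : SysOn 3 6 X22 T)
    (hp : ∀ l ∈ std21, pt 1 ∉ l ∧ insert (pt 1) l ∈ T) :
    ∃ σ : Equiv.Perm GolayPt, X22.map σ.toEmbedding = X22 ∧ T = mapSys σ.toEmbedding std22 := by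
  have key : ∀ σ : Equiv.Perm GolayPt, σ (pt 23) = pt 23 → σ (pt 0) = pt 0 → σ (pt 1) = pt 1 →
      (∀ l ∈ std21, l.map σ.toEmbedding ∈ std21) →
      (∀ b ∈ T, pt 1 ∉ b → b ∈ mapSys σ.toEmbedding std22) →
      X22.map σ.toEmbedding = X22 ∧ T = mapSys σ.toEmbedding std22 := by
    intro σ h23 h0 h1 hl hrest
    obtain ⟨hX, hX'⟩ := (fixing_maps h23).2 h0
    have hS : SysOn 3 6 X22 (mapSys σ.toEmbedding std22) := by
      have := sys22.map σ.toEmbedding
      rwa [hX] at this
    refine ⟨hX, SysOn.eq_of_subset (by norm_num) hT hS fun b hb => ?_⟩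
    by_cases hb1 : pt 1 ∈ b
    · refine mem_of_pencil (t := 2) (k := 5) (by norm_num) X_erase.2.2.2.2.2.2.1 hT
        (X_erase.2.2.1.symm ▸ sys21) hp (fun l hl' => ?_) hb hb1
      have himg : mapSys σ.toEmbedding std21 = std21 := by
        refine SysOn.eq_of_subset (by norm_num) ?_ sys21 ?_
        · have := sys21.map σ.toEmbedding
          rwa [hX' h1] at this
        · rintro _ ⟨l, hl', rfl⟩; exact hl l hl'
      rw [← himg] at hl'
      obtain ⟨l', hl'', rfl⟩ := hl'
      have hmem : insert (pt 1) l' ∈ std22 := by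
        have : l' ∈ {s : Finset GolayPt | pt 1 ∉ s ∧ insert (pt 1) s ∈ std22} := by
          rw [std21_eq]; exact hl''
        exact this.2
      refine ⟨_, hmem, ?_⟩
      show (insert (pt 1) l').map σ.toEmbedding = insert (pt 1) (l'.map σ.toEmbedding)
      rw [Finset.map_insert]
      exact congrArg (fun x => insert x _) h1
    · exact hrest b hb hb1
  have hcand : ∀ b ∈ T, pt 1 ∉ b → maskOf b ∈ ovList := by
    intro b hb hb1
    have hsub : b ⊆ X21 := by
      rw [← X_erase.2.2.1]
      exact fun x hx => Finset.mem_erase.2 ⟨fun e => hb1 (e ▸ hx), (hT.1 b hb).2 hx⟩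
    refine oval_mem hsub (hT.1 b hb).1 fun l hl => ?_
    have hne : insert (pt 1) l ≠ b := fun e => hb1 (e ▸ Finset.mem_insert_self _ _)
    have hlt := hT.card_inter_lt (hp l hl).2 hb hne
    have := Finset.card_le_card
      (Finset.inter_subset_inter_right (u := b) (Finset.subset_insert (pt 1) l))
    omega
  have heven : ∀ b ∈ T, ∀ b' ∈ T, fastCnt (maskOf b &&& maskOf b') % 2 = 0 := by
    intro b hb b' hb'
    rw [fastCnt_inter, ptSet_maskOf', ptSet_maskOf']
    by_cases he : b = b'
    · rw [he, Finset.inter_self, (hT.1 b' hb').1]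
    · rcases hT.inter22 X_erase.2.2.2.2.1 hb' hb he with h | h <;> rw [h]
  have hcr := ovals_cross
  simp only [Bool.and_eq_true, List.all_eq_true, beq_iff_eq, List.mem_append, decide_eq_true_eq] at hcr
  have mem_class : ∀ (h : List ℕ), ∀ m ∈ ovClass h, m ∈ h := fun h m hm => (List.mem_filter.1 hm).1
  have htab := plane_tables
  simp only [List.all_cons, List.all_nil, Bool.and_true, Bool.and_eq_true, beq_iff_eq,
    List.all_eq_true, List.contains_iff_mem] at htab
  obtain ⟨⟨⟨⟨⟨vB, b23⟩, b0⟩, b1⟩, bL⟩, ⟨⟨⟨vC, c23⟩, c0⟩, c1⟩, cL⟩ := htab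
  have tbl_case : ∀ t : ℕ, validT t = true → app t 23 = 23 → app t 0 = 0 → app t 1 = 1 →
      (∀ l ∈ lines21, tblImg t l ∈ lines21) →
      (∀ b ∈ T, pt 1 ∉ b → maskOf b ∈ hex22.map (tblImg t)) →
      ∃ σ : Equiv.Perm GolayPt, X22.map σ.toEmbedding = X22 ∧ T = mapSys σ.toEmbedding std22 := by
    intro t hv h23 h0 h1 hl hrest
    refine ⟨mkPerm t, key _ (mkPerm_pt_eq hv (by norm_num) h23) (mkPerm_pt_eq hv (by norm_num) h0)
      (mkPerm_pt_eq hv (by norm_num) h1) ?_ ?_⟩
    · rintro _ ⟨l, hlm, rfl⟩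
      exact ⟨_, hl l hlm, ptSet_tblImg_map hv l⟩
    · intro b hb hb1
      obtain ⟨m, hm, hme⟩ := List.mem_map.1 (hrest b hb hb1)
      refine ⟨ptSet m, ⟨m, hm, rfl⟩, ?_⟩
      show (ptSet m).map (mkPerm t).toEmbedding = b
      rw [← ptSet_tblImg_map hv, hme, ptSet_maskOf']
  by_cases hA : ∃ b ∈ T, maskOf b ∈ ovClass hex22
  · obtain ⟨b₀, hb₀, hm₀⟩ := hA
    refine ⟨1, key 1 rfl rfl rfl (fun l hl => ?_) fun b hb hb1 => ?_⟩
    · rwa [map_one_equiv]
    · have hm := hcand b hb hb1
      simp only [ovList, List.mem_append] at hm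
      have hin : maskOf b ∈ hex22 := by
        rcases hm with (hm | hm) | hm
        · exact mem_class _ _ hm
        · have h1 := hcr.1 _ hm₀ _ (Or.inl hm); have h2 := heven b₀ hb₀ b hb; omega
        · have h1 := hcr.1 _ hm₀ _ (Or.inr hm); have h2 := heven b₀ hb₀ b hb; omega
      exact ⟨b, ⟨_, hin, ptSet_maskOf' b⟩, map_one_equiv b⟩
  · by_cases hB : ∃ b ∈ T, maskOf b ∈ ovClass hexB
    · obtain ⟨b₀, hb₀, hm₀⟩ := hB
      refine tbl_case planeB vB b23 b0 b1 bL fun b hb hb1 => ?_
      have hm := hcand b hb hb1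
      simp only [ovList, List.mem_append] at hm
      rcases hm with (hm | hm) | hm
      · exact absurd ⟨b, hb, hm⟩ hA
      · exact mem_class _ _ hm
      · have h1 := hcr.2 _ hm₀ _ hm; have h2 := heven b₀ hb₀ b hb; omega
    · refine tbl_case planeC vC c23 c0 c1 cL fun b hb hb1 => ?_
      have hm := hcand b hb hb1
      simp only [ovList, List.mem_append] at hm
      rcases hm with (hm | hm) | hm
      · exact absurd ⟨b, hb, hm⟩ hA
      · exact absurd ⟨b, hb, hm⟩ hB
      · exact mem_class _ _ hm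

/-- An element of the checked transversal of the point one. -/
theorem exists_trans22 {x : GolayPt} (hx : x ∈ X22) : ∃ t ∈ trans22, validT t = true ∧
    app t 23 = 23 ∧ app t 0 = 0 ∧ (∀ h ∈ hex22, tblImg t h ∈ hex22) ∧ mkPerm t (pt 1) = x := by
  have h2 := trans22_ok.2
  simp only [List.all_eq_true, Bool.or_eq_true, Bool.not_eq_true', List.any_eq_true, beq_iff_eq,
    List.mem_range] at h2
  rw [X22, mem_ptSet] at hx
  rcases h2 (idx x) (idx_lt x) with h | ⟨t, ht, hti⟩
  · rw [hx] at h; exact absurd h (by simp)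
  have h1 := trans22_ok.1
  simp only [List.all_eq_true, Bool.and_eq_true, beq_iff_eq, List.contains_iff_mem] at h1
  obtain ⟨⟨⟨hv, a⟩, b⟩, c⟩ := h1 t ht
  exact ⟨t, ht, hv, a, b, c, by rw [mkPerm_pt_eq hv (by norm_num) hti, pt_idx]⟩

/-- An element of the checked transversal of the point zero. -/
theorem exists_trans23 {x : GolayPt} (hx : x ∈ X23) : ∃ t ∈ trans23, inM24 t = true ∧
    app t 23 = 23 ∧ mkPerm t (pt 0) = x := by
  have h2 := trans23_ok.2
  simp only [List.all_eq_true, Bool.or_eq_true, Bool.not_eq_true', List.any_eq_true, beq_iff_eq,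
    List.mem_range] at h2
  rw [X23, mem_ptSet] at hx
  rcases h2 (idx x) (idx_lt x) with h | ⟨t, ht, hti⟩
  · rw [hx] at h; exact absurd h (by simp)
  have h1 := trans23_ok.1
  simp only [List.all_eq_true, Bool.and_eq_true, beq_iff_eq] at h1
  obtain ⟨hv, a⟩ := h1 t ht
  exact ⟨t, ht, hv, a, by rw [mkPerm_pt_eq (validT_of_inM24 hv) (by norm_num) hti, pt_idx]⟩

theorem heptAB_disjoint : ∀ x ∈ heptA, ¬ x ∈ heptB := by
  have h : (heptA.all fun x => !heptB.contains x) = true := by decide +kernel
  intro x hx hx'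
  simp only [List.all_eq_true, Bool.not_eq_true'] at h
  have := h x hx
  simp [hx'] at this

/-- Seven points meeting every hexad in one or three points form a heptad of one of two kinds. -/
theorem heptad_mem {b : Finset GolayPt} (hsub : b ⊆ X22) (h7 : b.card = 7)
    (h : ∀ g ∈ std22, (g ∩ b).card = 1 ∨ (g ∩ b).card = 3) : maskOf b ∈ heptA ++ heptB := by
  obtain ⟨x, hx⟩ : b.Nonempty := Finset.card_pos.1 (by omega)
  obtain ⟨t, ht, hv, t23, t0, thex, t1⟩ := exists_trans22 (hsub hx)
  set σ := mkPerm t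
  set b' := b.map σ.symm.toEmbedding with hb'
  have hb : b'.map σ.toEmbedding = b := by
    ext p; simp [hb']
  obtain ⟨hX, -⟩ := (fixing_maps (mkPerm_pt_eq hv (by norm_num) t23)).2
    (mkPerm_pt_eq hv (by norm_num) t0)
  have h1b : pt 1 ∈ b' := by
    rw [hb', Finset.mem_map_equiv, Equiv.symm_symm, t1]; exact hx
  have hb'sub : b' ⊆ X22 := by
    rw [← Finset.map_subset_map (f := σ.toEmbedding), hb, hX]; exact hsub
  have hcond : ∀ g ∈ std22, (g ∩ b').card = 1 ∨ (g ∩ b').card = 3 := by
    rintro _ ⟨m, hm, rfl⟩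
    have := h _ ⟨_, thex m hm, ptSet_tblImg_map hv m⟩
    rwa [← hb, ← Finset.map_inter, Finset.card_map] at this
  have ho : maskOf (b'.erase (pt 1)) ∈ ovList := by
    refine oval_mem ?_ ?_ fun l hl => ?_
    · rw [← X_erase.2.2.1]; exact Finset.erase_subset_erase _ hb'sub
    · rw [Finset.card_erase_of_mem h1b, hb', Finset.card_map, h7]
    · have hl' : l ∈ {s : Finset GolayPt | pt 1 ∉ s ∧ insert (pt 1) s ∈ std22} := by
        rw [std21_eq]; exact hl
      have hss : insert (pt 1) (l ∩ b'.erase (pt 1)) ⊆ insert (pt 1) l ∩ b' := by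
        refine Finset.insert_subset (Finset.mem_inter.2 ⟨Finset.mem_insert_self _ _, h1b⟩) ?_
        exact Finset.inter_subset_inter (Finset.subset_insert _ _) (Finset.erase_subset _ _)
      have hc := Finset.card_le_card hss
      rw [Finset.card_insert_of_notMem (fun hh => hl'.1 (Finset.mem_inter.1 hh).1)] at hc
      rcases hcond _ hl'.2 with h3 | h3 <;> omega
  have hm : maskOf b' = maskOf (b'.erase (pt 1)) ||| 2 ^ 1 := by
    apply ptSet_injOn (maskOf_lt _) (Nat.or_lt_two_pow (maskOf_lt _) (by norm_num))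
    rw [ptSet_maskOf', ptSet_or, ptSet_maskOf', ptSet_two_pow (by norm_num), Finset.union_comm,
      ← Finset.insert_eq, Finset.insert_erase h1b]
  have hgood : maskOf b' ∈ good22 := by
    refine List.mem_filter.2 ⟨List.mem_map.2 ⟨_, ho, hm.symm⟩, ?_⟩
    rw [hexCond, List.all_eq_true]
    intro g hg
    simp only [Bool.or_eq_true, beq_iff_eq, fastCnt_inter, ptSet_maskOf', Finset.inter_comm b']
    exact hcond _ ⟨g, hg, rfl⟩
  have hc := good22_covered
  simp only [List.all_eq_true, List.contains_iff_mem] at hc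
  have hf := hc t ht _ hgood
  have : tblImg t (maskOf b') = maskOf b := by
    apply ptSet_injOn (tblImg_lt hv _) (maskOf_lt _)
    rw [ptSet_tblImg_map hv, ptSet_maskOf', ptSet_maskOf', hb]
  rwa [this] at hf

/-- Extensions of the S(3,6,22). -/
theorem ext23 {T : Set (Finset GolayPt)} (hT : SysOn 4 7 X23 T)
    (hp : ∀ l ∈ std22, pt 0 ∉ l ∧ insert (pt 0) l ∈ T) :
    ∃ σ : Equiv.Perm GolayPt, (σ = 1 ∨ σ = mkPerm outer22) ∧
      X23.map σ.toEmbedding = X23 ∧ T = mapSys σ.toEmbedding std23 := by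
  have hot := outer_table
  simp only [Bool.and_eq_true, beq_iff_eq, List.all_eq_true, List.contains_iff_mem] at hot
  obtain ⟨⟨⟨hv, o23⟩, o0⟩, ohex⟩ := hot
  have key : ∀ σ : Equiv.Perm GolayPt, σ (pt 23) = pt 23 → σ (pt 0) = pt 0 →
      (∀ l ∈ std22, l.map σ.toEmbedding ∈ std22) →
      (∀ b ∈ T, pt 0 ∉ b → b ∈ mapSys σ.toEmbedding std23) →
      X23.map σ.toEmbedding = X23 ∧ T = mapSys σ.toEmbedding std23 := by
    intro σ h23 h0 hl hrest
    obtain ⟨hX, hX'⟩ := fixing_maps h23
    have hS : SysOn 4 7 X23 (mapSys σ.toEmbedding std23) := by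
      have := sys23.map σ.toEmbedding
      rwa [hX] at this
    refine ⟨hX, SysOn.eq_of_subset (by norm_num) hT hS fun b hb => ?_⟩
    by_cases hb0 : pt 0 ∈ b
    · refine mem_of_pencil (t := 3) (k := 6) (by norm_num) X_erase.2.2.2.2.2.1 hT
        (X_erase.2.1.symm ▸ sys22) hp (fun l hl' => ?_) hb hb0
      have himg : mapSys σ.toEmbedding std22 = std22 := by
        refine SysOn.eq_of_subset (by norm_num) ?_ sys22 ?_
        · have := sys22.map σ.toEmbedding
          rwa [(hX' h0).1] at this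
        · rintro _ ⟨l, hl', rfl⟩; exact hl l hl'
      rw [← himg] at hl'
      obtain ⟨l', hl'', rfl⟩ := hl'
      have hmem : l' ∈ {s : Finset GolayPt | pt 0 ∉ s ∧ insert (pt 0) s ∈ std23} := by
        rw [std22_eq]; exact hl''
      refine ⟨_, hmem.2, ?_⟩
      show (insert (pt 0) l').map σ.toEmbedding = insert (pt 0) (l'.map σ.toEmbedding)
      rw [Finset.map_insert]
      exact congrArg (fun x => insert x _) h0
    · exact hrest b hb hb0
  have hcand : ∀ b ∈ T, pt 0 ∉ b → maskOf b ∈ heptA ++ heptB := by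
    intro b hb hb0
    refine heptad_mem ?_ (hT.1 b hb).1 fun g hg => ?_
    · rw [← X_erase.2.1]
      exact fun x hx => Finset.mem_erase.2 ⟨fun e => hb0 (e ▸ hx), (hT.1 b hb).2 hx⟩
    · have hne : insert (pt 0) g ≠ b := fun e => hb0 (e ▸ Finset.mem_insert_self _ _)
      have heq : insert (pt 0) g ∩ b = g ∩ b := Finset.insert_inter_of_notMem hb0
      rw [← heq]
      exact hT.inter23 X_erase.2.2.2.1 hb (hp g hg).2 hne
  by_cases hA : ∃ b ∈ T, maskOf b ∈ heptA
  · obtain ⟨b₀, hb₀, hm₀⟩ := hA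
    refine ⟨1, Or.inl rfl, key 1 rfl rfl (fun l hl => by rwa [map_one_equiv]) fun b hb hb0 => ?_⟩
    have hin : maskOf b ∈ hept := by
      rcases List.mem_append.1 (hcand b hb hb0) with hm | hm
      · exact (List.mem_filter.1 hm).1
      · exfalso
        have hc := hept_cross
        simp only [List.all_eq_true, Bool.not_eq_true', Bool.or_eq_false_iff, beq_eq_false_iff_ne,
          fastCnt_inter] at hc
        have h1 := hc _ hm₀ _ hm
        rw [ptSet_maskOf', ptSet_maskOf'] at h1
        by_cases he : b₀ = b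
        · subst he; exact heptAB_disjoint _ hm₀ hm
        · rcases hT.inter23 X_erase.2.2.2.1 hb hb₀ he with h | h
          · exact h1.1 h
          · exact h1.2 h
    exact ⟨b, ⟨_, hin, ptSet_maskOf' b⟩, map_one_equiv b⟩
  · refine ⟨mkPerm outer22, Or.inr rfl, key _ (mkPerm_pt_eq hv (by norm_num) o23)
      (mkPerm_pt_eq hv (by norm_num) o0) ?_ fun b hb hb0 => ?_⟩
    · rintro _ ⟨l, hl, rfl⟩
      exact ⟨_, ohex l hl, ptSet_tblImg_map hv l⟩
    · rcases List.mem_append.1 (hcand b hb hb0) with hm | hm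
      · exact absurd ⟨b, hb, hm⟩ hA
      · obtain ⟨m, hm', hme⟩ := List.mem_map.1 hm
        refine ⟨ptSet m, ⟨m, (List.mem_filter.1 hm').1, rfl⟩, ?_⟩
        show (ptSet m).map (mkPerm outer22).toEmbedding = b
        rw [← ptSet_tblImg_map hv, hme, ptSet_maskOf']

/-- The extension of the S(4,7,23). -/
theorem ext24 {T : Set (Finset GolayPt)} (hT : SysOn 5 8 Finset.univ T)
    (hp : ∀ l ∈ std23, pt 23 ∉ l ∧ insert (pt 23) l ∈ T) : T = Cfsg.octads := by
  refine SysOn.eq_of_subset (by norm_num) hT sys24 fun b hb => ?_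
  by_cases hb23 : pt 23 ∈ b
  · refine mem_of_pencil (t := 4) (k := 7) (by norm_num) (Finset.mem_univ _) hT
      (X_erase.1.symm ▸ sys23) hp (fun l hl => ?_) hb hb23
    have : l ∈ {s : Finset GolayPt | pt 23 ∉ s ∧ insert (pt 23) s ∈ Cfsg.octads} := by
      rw [std23_eq]; exact hl
    exact this.2
  have hsub : b ⊆ X23 := by
    rw [← X_erase.1]
    exact fun x hx => Finset.mem_erase.2 ⟨fun e => hb23 (e ▸ hx), Finset.mem_univ _⟩
  have hcond : ∀ g ∈ std23, (g ∩ b).card = 0 ∨ (g ∩ b).card = 2 ∨ (g ∩ b).card = 4 := by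
    intro g hg
    have hne : insert (pt 23) g ≠ b := fun e => hb23 (e ▸ Finset.mem_insert_self _ _)
    have heq : insert (pt 23) g ∩ b = g ∩ b := Finset.insert_inter_of_notMem hb23
    rw [← heq]
    exact hT.inter24 (by decide +kernel) hb (hp g hg).2 hne
  obtain ⟨x, hx⟩ : b.Nonempty := Finset.card_pos.1 (by rw [(hT.1 b hb).1]; norm_num)
  obtain ⟨t, -, ht, t23, t0⟩ := exists_trans23 (hsub hx)
  set σ := mkPerm t
  have hv := validT_of_inM24 ht
  have hσ : σ ∈ Cfsg.M24 := mem_M24_of_inM24 ht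
  set b' := b.map σ.symm.toEmbedding with hb'
  have hback : b'.map σ.toEmbedding = b := by ext p; simp [hb']
  have h23 : σ (pt 23) = pt 23 := mkPerm_pt_eq hv (by norm_num) t23
  have h0b : pt 0 ∈ b' := by
    rw [hb', Finset.mem_map_equiv, Equiv.symm_symm, t0]; exact hx
  have hb'sub : b' ⊆ X23 := by
    rw [← Finset.map_subset_map (f := σ.toEmbedding), hback, (fixing_maps h23).1]; exact hsub
  have hsmul : ∀ s : Finset GolayPt, σ • s = s.map σ.toEmbedding := fun s => by
    rw [Finset.map_eq_image]; rfl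
  have hcond' : ∀ g ∈ std23, (g ∩ b').card = 0 ∨ (g ∩ b').card = 2 ∨ (g ∩ b').card = 4 := by
    intro g hg
    have hg' : g.map σ.toEmbedding ∈ std23 := by
      rw [← std23_eq] at hg ⊢
      refine ⟨?_, ?_⟩
      · rw [← h23]; exact fun hh => hg.1 (by simpa using hh)
      · have := smul_mem_octads hσ hg.2
        rw [hsmul, Finset.map_insert] at this
        rwa [show σ.toEmbedding (pt 23) = pt 23 from h23] at this
    have := hcond _ hg'
    rwa [← hback, ← Finset.map_inter, Finset.card_map] at this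
  have hm : maskOf (b'.erase (pt 0)) ∈ heptA ++ heptB := by
    refine heptad_mem ?_ ?_ fun g hg => ?_
    · rw [← X_erase.2.1]; exact Finset.erase_subset_erase _ hb'sub
    · rw [Finset.card_erase_of_mem h0b, hb', Finset.card_map, (hT.1 b hb).1]
    · have hg' : g ∈ {s : Finset GolayPt | pt 0 ∉ s ∧ insert (pt 0) s ∈ std23} := by
        rw [std22_eq]; exact hg
      have heq : insert (pt 0) g ∩ b' = insert (pt 0) (g ∩ b'.erase (pt 0)) := by
        ext p
        by_cases hp0 : p = pt 0
        · subst hp0; simp [h0b]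
        · simp [hp0]
      have := hcond' _ hg'.2
      rw [heq, Finset.card_insert_of_notMem (fun hh => hg'.1 (Finset.mem_inter.1 hh).1)] at this
      omega
  have hm8 : maskOf b' = maskOf (b'.erase (pt 0)) ||| 2 ^ 0 := by
    apply ptSet_injOn (maskOf_lt _) (Nat.or_lt_two_pow (maskOf_lt _) (by norm_num))
    rw [ptSet_maskOf', ptSet_or, ptSet_maskOf', ptSet_two_pow (by norm_num), Finset.union_comm,
      ← Finset.insert_eq, Finset.insert_erase h0b]
  have hhc : heptCond (maskOf b') = true := by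
    rw [heptCond, List.all_eq_true]
    intro g hg
    simp only [Bool.or_eq_true, beq_iff_eq, fastCnt_inter, ptSet_maskOf', Finset.inter_comm b',
      or_assoc]
    exact hcond' _ ⟨g, hg, rfl⟩
  have hgc := good24_covered
  simp only [List.all_eq_true, Bool.or_eq_true, Bool.not_eq_true', List.contains_iff_mem] at hgc
  have h8 := hgc _ hm
  rw [← hm8, hhc] at h8
  have ho : b' ∈ Cfsg.octads := by
    rw [octads_eq_mSet]
    exact ⟨_, h8.resolve_left (by simp), ptSet_maskOf' b'⟩
  rw [← hback, ← hsmul]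
  exact smul_mem_octads hσ ho

/-- Extend an embedding of the points other than `q`. -/
theorem exists_extend {α : Type*} [Fintype α] [DecidableEq α] {B : Set (Finset α)} (q : α)
    {X : Finset GolayPt} {a : GolayPt} (ha : a ∈ X) (f : {x : α // x ≠ q} ↪ GolayPt)
    (hf : Finset.univ.map f = X.erase a) :
    ∃ e : α ↪ GolayPt, Finset.univ.map e = X ∧
      ∀ l ∈ mapSys f (derived q B), a ∉ l ∧ insert a l ∈ mapSys e B := by
  have hfa : ∀ y, f y ≠ a := fun y h => by
    have : f y ∈ X.erase a := by rw [← hf]; exact Finset.mem_map_of_mem f (Finset.mem_univ y)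
    exact (Finset.mem_erase.1 this).1 h
  let e : α ↪ GolayPt := ⟨fun x => if h : x = q then a else f ⟨x, h⟩, fun x y hxy => by
    simp only at hxy
    by_cases hx : x = q <;> by_cases hy : y = q
    · rw [hx, hy]
    · rw [dif_pos hx, dif_neg hy] at hxy; exact absurd hxy.symm (hfa _)
    · rw [dif_neg hx, dif_pos hy] at hxy; exact absurd hxy (hfa _)
    · rw [dif_neg hx, dif_neg hy] at hxy; exact congrArg Subtype.val (f.injective hxy)⟩
  have heq : e q = a := dif_pos rfl
  have hev : ∀ y : {x : α // x ≠ q}, e y = f y := fun y => dif_neg y.2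
  refine ⟨e, ?_, ?_⟩
  · ext p
    rw [Finset.mem_map, ← Finset.insert_erase ha, Finset.mem_insert, ← hf, Finset.mem_map]
    constructor
    · rintro ⟨x, -, rfl⟩
      by_cases hx : x = q
      · exact Or.inl (hx ▸ heq)
      · exact Or.inr ⟨⟨x, hx⟩, Finset.mem_univ _, (hev ⟨x, hx⟩).symm⟩
    · rintro (rfl | ⟨y, -, rfl⟩)
      · exact ⟨q, Finset.mem_univ _, heq⟩
      · exact ⟨y, Finset.mem_univ _, hev y⟩
  · rintro _ ⟨s, hs, rfl⟩
    refine ⟨fun hh => ?_, _, hs, ?_⟩
    · obtain ⟨y, -, hy⟩ := Finset.mem_map.1 hh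
      exact hfa y hy
    · show (Finset.cons q (s.map (Function.Embedding.subtype _)) _).map e = insert a (s.map f)
      rw [Finset.map_cons, Finset.cons_eq_insert, heq, Finset.map_map]
      exact congrArg (fun x => insert a (Finset.map x s)) (Function.Embedding.ext hev)

theorem exists_embed22 {α : Type*} [Fintype α] [DecidableEq α] (hα : Fintype.card α = 22)
    {B : Set (Finset α)} (hB : Cfsg.IsSteinerSystem 3 6 B) :
    ∃ e : α ↪ GolayPt, Finset.univ.map e = X22 ∧ mapSys e B = std22 := by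
  obtain ⟨q⟩ : Nonempty α := Fintype.card_pos_iff.1 (by omega)
  let emb : {p : GolayPt // p ∈ X21} ↪ GolayPt := Function.Embedding.subtype _
  let L0 : Set (Finset {p : GolayPt // p ∈ X21}) := {s | s.map emb ∈ std21}
  have huniv : (Finset.univ : Finset {p : GolayPt // p ∈ X21}).map emb = X21 := by
    ext p; simp [emb]
  have hlift : ∀ l ⊆ X21, (l.subtype fun p => p ∈ X21).map emb = l := fun l hl =>
    Finset.subtype_map_of_mem fun x hx => hl hx
  have hL0 : Cfsg.IsSteinerSystem 2 5 L0 := by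
    refine ⟨fun b hb => by rw [← Finset.card_map emb]; exact (sys21.1 _ hb).1, fun s hs => ?_⟩
    have hsX : s.map emb ⊆ X21 := by
      intro p hp
      rw [← huniv]
      exact Finset.map_subset_map.2 (Finset.subset_univ s) hp
    obtain ⟨b, ⟨hb, hsb⟩, hu⟩ := sys21.2 (s.map emb) hsX (by rw [Finset.card_map, hs])
    refine ⟨b.subtype _, ⟨?_, ?_⟩, ?_⟩
    · show (b.subtype _).map emb ∈ std21
      rw [hlift b (sys21.1 b hb).2]; exact hb
    · rw [← Finset.map_subset_map (f := emb), hlift b (sys21.1 b hb).2]; exact hsb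
    · rintro c ⟨hc, hsc⟩
      apply Finset.map_injective emb
      rw [hlift b (sys21.1 b hb).2]
      exact hu _ ⟨hc, Finset.map_subset_map.2 hsc⟩
  obtain ⟨g, hg⟩ := S5626.result (α := {x : α // x ≠ q}) (β := {p : GolayPt // p ∈ X21})
    (by rw [Fintype.card_subtype_compl, Fintype.card_subtype_eq, hα]) (by decide +kernel)
    (derived_steiner hB q) hL0
  let f : {x : α // x ≠ q} ↪ GolayPt := g.toEmbedding.trans emb
  have hf : Finset.univ.map f = X22.erase (pt 1) := by
    rw [← Finset.map_map, Finset.map_univ_equiv, huniv, X_erase.2.2.1]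
  obtain ⟨e, heX, he⟩ := exists_extend (B := B) q X_erase.2.2.2.2.2.2.1 f hf
  have hder : mapSys f (derived q B) = std21 := by
    have hg' : mapSys g.toEmbedding (derived q B) = L0 := by
      rw [← hg]; simp only [mapSys, Finset.map_eq_image]; rfl
    rw [← mapSys_mapSys, hg']
    ext l
    constructor
    · rintro ⟨s, hs, rfl⟩; exact hs
    · intro hl
      refine ⟨l.subtype _, ?_, hlift l (sys21.1 l hl).2⟩
      show (l.subtype _).map emb ∈ std21
      rw [hlift l (sys21.1 l hl).2]; exact hl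
  have hT : SysOn 3 6 X22 (mapSys e B) := heX ▸ (sysOn_univ hB).map e
  obtain ⟨σ, hσX, hσ⟩ := ext22 hT (hder ▸ he)
  refine ⟨e.trans σ.symm.toEmbedding, ?_, ?_⟩
  · rw [← Finset.map_map, heX]
    conv_lhs => rw [← hσX, Finset.map_map]
    ext p; simp
  · rw [← mapSys_mapSys, hσ, mapSys_mapSys]
    ext b
    simp [mapSys, Finset.map_map]

theorem exists_embed23 {α : Type*} [Fintype α] [DecidableEq α] (hα : Fintype.card α = 23)
    {B : Set (Finset α)} (hB : Cfsg.IsSteinerSystem 4 7 B) :
    ∃ e : α ↪ GolayPt, Finset.univ.map e = X23 ∧ mapSys e B = std23 := by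
  obtain ⟨q⟩ : Nonempty α := Fintype.card_pos_iff.1 (by omega)
  obtain ⟨f, hf, hfd⟩ := exists_embed22 (α := {x : α // x ≠ q})
    (by rw [Fintype.card_subtype_compl, Fintype.card_subtype_eq, hα]) (derived_steiner hB q)
  obtain ⟨e, heX, he⟩ := exists_extend (B := B) q X_erase.2.2.2.2.2.1 f
    (by rw [hf, X_erase.2.1])
  have hT : SysOn 4 7 X23 (mapSys e B) := heX ▸ (sysOn_univ hB).map e
  obtain ⟨σ, -, hσX, hσ⟩ := ext23 hT (hfd ▸ he)
  refine ⟨e.trans σ.symm.toEmbedding, ?_, ?_⟩
  · rw [← Finset.map_map, heX]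
    conv_lhs => rw [← hσX, Finset.map_map]
    ext p; simp
  · rw [← mapSys_mapSys, hσ, mapSys_mapSys]
    ext b
    simp [mapSys, Finset.map_map]

theorem exists_embed24 {α : Type*} [Fintype α] [DecidableEq α] (hα : Fintype.card α = 24)
    {B : Set (Finset α)} (hB : Cfsg.IsSteinerSystem 5 8 B) :
    ∃ e : α ↪ GolayPt, Finset.univ.map e = Finset.univ ∧ mapSys e B = Cfsg.octads := by
  obtain ⟨q⟩ : Nonempty α := Fintype.card_pos_iff.1 (by omega)
  obtain ⟨f, hf, hfd⟩ := exists_embed23 (α := {x : α // x ≠ q})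
    (by rw [Fintype.card_subtype_compl, Fintype.card_subtype_eq, hα]) (derived_steiner hB q)
  obtain ⟨e, heX, he⟩ := exists_extend (B := B) q (Finset.mem_univ (pt 23)) f
    (by rw [hf, X_erase.1])
  exact ⟨e, heX, ext24 (heX ▸ (sysOn_univ hB).map e) (hfd ▸ he)⟩

/-- Two systems embedded onto the same system are isomorphic. -/
theorem iso_of_embeddings {α β γ : Type*} [Fintype α] [Fintype β] [DecidableEq β]
    {B : Set (Finset α)} {B' : Set (Finset β)} (e : α ↪ γ) (f : β ↪ γ)
    (hX : Finset.univ.map e = Finset.univ.map f) (h : mapSys e B = mapSys f B') :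
    Cfsg.SetSystemIso B B' := by
  classical
  have hex : ∀ x, ∃ y, f y = e x := by
    intro x
    have : e x ∈ Finset.univ.map f := hX ▸ Finset.mem_map_of_mem e (Finset.mem_univ x)
    obtain ⟨y, -, hy⟩ := Finset.mem_map.1 this
    exact ⟨y, hy⟩
  choose g hg using hex
  have hbij : Function.Bijective g := by
    refine ⟨fun x y hxy => e.injective (by rw [← hg, ← hg, hxy]), fun y => ?_⟩
    have : f y ∈ Finset.univ.map e := hX ▸ Finset.mem_map_of_mem f (Finset.mem_univ y)
    obtain ⟨x, -, hx⟩ := Finset.mem_map.1 this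
    exact ⟨x, f.injective (by rw [hg, hx])⟩
  refine ⟨Equiv.ofBijective g hbij, ?_⟩
  have key : ∀ b : Finset α, (b.image (Equiv.ofBijective g hbij)).map f = b.map e := by
    intro b
    rw [Finset.map_eq_image, Finset.image_image, Finset.map_eq_image]
    exact Finset.image_congr fun x _ => hg x
  ext c
  constructor
  · rintro ⟨b, hb, rfl⟩
    rw [← mem_mapSys (e := f), ← h, key]
    exact mem_mapSys.2 hb
  · intro hc
    have : c.map f ∈ mapSys e B := by rw [h]; exact mem_mapSys.2 hc
    obtain ⟨b, hb, hbc⟩ := this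
    exact ⟨b, hb, Finset.map_injective f (by rw [key]; exact hbc)⟩

end Cfsg.Agent.H29
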