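import Cfsg.Agent.H29.GolayExtData
import Cfsg.Agent.H29.FastCount
import Cfsg.Agent.Golay.OctadList
import Cfsg.Agent.Golay.Mathieu

/-!
Kernel checks for the extension argument.
-/

set_option autoImplicit false

namespace Cfsg.Agent.H29

open Golay

/-- Mask of the 23 points other than the extra point. -/
def mask23 : ℕ := fullMask ^^^ 2 ^ 23

/-- Mask of the 22 points other than the extra point and zero. -/
def mask22 : ℕ := mask23 ^^^ 2 ^ 0

/-- Mask of the 21 points of the plane. -/
def mask21 : ℕ := mask22 ^^^ 2 ^ 1

/-- At most two points on every line. -/
def planeOk (c : ℕ) : Bool := lines21.all fun l => decide (fastCnt (c &&& l) ≤ 2)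

/-- Exhaustive growth: every good set with `k` further points lies in the target. -/
def checkAll (target : List ℕ) : List ℕ → ℕ → ℕ → Bool
  | [], k, cur => k != 0 || target.contains cur
  | p :: r, k, cur =>
    bif k == 0 then target.contains cur
    else checkAll target r k cur &&
      (!planeOk (cur ||| 2 ^ p) || checkAll target r (k - 1) (cur ||| 2 ^ p))

/-- The points of the plane. -/
def planePts : List ℕ := (List.range 24).filter fun i => mask21.testBit i

/-- Intersection condition with all hexads. -/
def hexCond (o : ℕ) : Bool := hex22.all fun h => fastCnt (o &&& h) == 1 || fastCnt (o &&& h) == 3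

/-- Intersection condition with all heptads. -/
def heptCond (o : ℕ) : Bool :=
  hept.all fun h => fastCnt (o &&& h) == 0 || fastCnt (o &&& h) == 2 || fastCnt (o &&& h) == 4

/-- Transversal of the point one fixing the extra point and zero. -/
def trans22 : List ℕ := lvlTrans m24Chain 2

/-- Transversal of the point zero fixing the extra point. -/
def trans23 : List ℕ := lvlTrans m24Chain 1

set_option Elab.async false

theorem hept_eq : (hept == (octadList.filter fun o => o.testBit 23).map (· ^^^ 2 ^ 23)) = true := by
  decide +kernel

theorem hex22_eq : (hex22 == (hept.filter fun o => o.testBit 0).map (· ^^^ 2 ^ 0)) = true := by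
  decide +kernel


theorem ovals_cross :
    ((ovClass hex22).all fun x => (ovClass hexB ++ ovClass hexC).all fun y => fastCnt (x &&& y) % 2 == 1) &&
      ((ovClass hexB).all fun x => (ovClass hexC).all fun y => fastCnt (x &&& y) % 2 == 1) = true := by
  decide +kernel

theorem plane_tables :
    ([planeB, planeC].all fun t => validT t && app t 23 == 23 && app t 0 == 0 && app t 1 == 1 &&
      (lines21.all fun l => lines21.contains (tblImg t l))) = true := by
  decide +kernel

theorem outer_table : (validT outer22 && app outer22 23 == 23 && app outer22 0 == 0 &&
    (hex22.all fun h => hex22.contains (tblImg outer22 h))) = true := by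
  decide +kernel

theorem trans22_ok : (trans22.all fun t => validT t && app t 23 == 23 && app t 0 == 0 &&
      (hex22.all fun h => hex22.contains (tblImg t h))) = true ∧
    ((List.range 24).all fun i => !mask22.testBit i || trans22.any fun t => app t 1 == i) = true := by
  decide +kernel

theorem trans23_ok : (trans23.all fun t => inM24 t && app t 23 == 23) = true ∧
    ((List.range 24).all fun i => !mask23.testBit i || trans23.any fun t => app t 0 == i) = true := by
  decide +kernel

end Cfsg.Agent.H29
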