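import Cfsg.Agent.H29.GolayExtCheck

/-!
Kernel checks for the two graphs of an S(3,6,22).
-/

set_option autoImplicit false

set_option Elab.async false

namespace Cfsg.Agent.H29

open Golay

/-- The regularity conditions of a graph given by a list and a relation. -/
def srgCheck (L : List ℕ) (R : ℕ → ℕ → Bool) (k l m : ℕ) : Bool :=
  L.all fun a => L.countP (R a) == k && L.all fun b => a == b ||
    L.countP (fun c => R a c && R b c) == bif R a b then l else m

/-- Adjacency of blocks. -/
def bRel (a b : ℕ) : Bool := a != b && a &&& b == 0

/-- The code of the point with index `i`. -/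
def pCode (i : ℕ) : ℕ := 2 ^ 24 + i

/-- Codes of the hundred vertices. -/
def hsList : List ℕ := 0 :: (((List.range 24).filter fun i => mask22.testBit i).map pCode ++ hex22)

/-- Adjacency of the hundred codes. -/
def pbRel (a b : ℕ) : Bool :=
  bif a < 2 ^ 24 then
    (bif a == 0 then decide (2 ^ 24 ≤ b) else
      bif b < 2 ^ 24 then b != 0 && bRel a b else a.testBit (b - 2 ^ 24))
  else
    bif b < 2 ^ 24 then b == 0 || b.testBit (a - 2 ^ 24) else false

/-- The same conditions computed through the neighbour lists. -/
def srgFast (L : List ℕ) (R : ℕ → ℕ → Bool) (k l m : ℕ) : Bool :=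
  L.all fun a => (fun N => N.length == k && L.all fun b => a == b ||
    List.countP (R b) N == bif R a b then l else m) (L.filter (R a))

theorem srgFast_eq (L : List ℕ) (R : ℕ → ℕ → Bool) (k l m : ℕ) :
    srgFast L R k l m = srgCheck L R k l m := by
  simp only [srgFast, srgCheck, List.countP_filter, ← List.countP_eq_length_filter, Bool.and_comm]

theorem hex22_check : srgCheck hex22 bRel 16 0 4 = true := by
  rw [← srgFast_eq]; decide +kernel

theorem hsList_check : srgCheck hsList pbRel 22 0 6 = true := by
  rw [← srgFast_eq]; decide +kernel

theorem hex22_facts : hex22.length = 77 ∧ hex22.Nodup ∧ hsList.length = 100 ∧ hsList.Nodup := by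
  decide +kernel

end Cfsg.Agent.H29
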