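import Cfsg.Agent.H29.GolayExt
import Cfsg.Agent.H29.SrgCheck

/-!
The block graph and the point-block graph of an S(3,6,22) are strongly regular.
-/

set_option autoImplicit false

namespace Cfsg.Agent.H29

open Finset Golay

theorem isSRG_of_check {V : Type*} [Fintype V] {G : SimpleGraph V} [DecidableRel G.Adj]
    (L : List ℕ) (hL : L.Nodup) (R : ℕ → ℕ → Bool) (F : V → ℕ) (hF : Function.Injective F)
    (hmem : ∀ n, n ∈ L ↔ ∃ a, F a = n) (hadj : ∀ a b, G.Adj a b ↔ R (F a) (F b) = true)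
    {k l m : ℕ} (hc : srgCheck L R k l m = true) : G.IsSRGWith L.length k l m := by
  classical
  have himg : ∀ (P : ℕ → Bool), (univ.filter fun a => P (F a) = true).card = L.countP P := by
    intro P
    rw [List.countP_eq_length_filter, ← List.toFinset_card_of_nodup (hL.filter _),
      ← card_image_of_injective _ hF]
    congr 1
    ext n
    simp only [mem_image, mem_filter, mem_univ, true_and, List.mem_toFinset, List.mem_filter, hmem]
    constructor
    · rintro ⟨a, ha, rfl⟩; exact ⟨⟨a, rfl⟩, ha⟩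
    · rintro ⟨⟨a, rfl⟩, ha⟩; exact ⟨a, ha, rfl⟩
  simp only [srgCheck, List.all_eq_true, Bool.and_eq_true, Bool.or_eq_true, beq_iff_eq] at hc
  refine ⟨?_, fun v => ?_, fun v w h => ?_, fun v w hne h => ?_⟩
  · have := himg fun _ => true
    simpa [List.countP_eq_length.2] using this
  · rw [← (hc (F v) ((hmem _).2 ⟨v, rfl⟩)).1, ← himg, ← G.card_neighborFinset_eq_degree]
    congr 1
    ext a
    simp [hadj]
  · have h2 := ((hc (F v) ((hmem _).2 ⟨v, rfl⟩)).2 (F w) ((hmem _).2 ⟨w, rfl⟩)).resolve_left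
      fun e => h.ne (hF e)
    rw [(hadj v w).1 h, cond_true, ← himg] at h2
    rw [← h2, ← Set.toFinset_card]
    congr 1
    ext a
    simp [SimpleGraph.mem_commonNeighbors, hadj]
  · have h2 := ((hc (F v) ((hmem _).2 ⟨v, rfl⟩)).2 (F w) ((hmem _).2 ⟨w, rfl⟩)).resolve_left
      fun e => hne (hF e)
    rw [Bool.eq_false_iff.2 fun e => h ((hadj v w).2 e), cond_false, ← himg] at h2
    rw [← h2, ← Set.toFinset_card]
    congr 1
    ext a
    simp [SimpleGraph.mem_commonNeighbors, hadj]

theorem maskOf_and_eq_zero {a b : Finset GolayPt} :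
    (maskOf a &&& maskOf b == 0) = decide (Disjoint a b) := by
  have key : maskOf a &&& maskOf b = 0 ↔ Disjoint a b := by
    rw [disjoint_iff_inter_eq_empty]
    conv_rhs => rw [← ptSet_maskOf a, ← ptSet_maskOf b, ← ptSet_and]
    constructor
    · intro h; rw [h]; ext p; simp [mem_ptSet]
    · intro h
      apply ptSet_injOn (Nat.and_lt_two_pow _ (maskOf_lt _)) (by norm_num : (0 : ℕ) < 2 ^ 24)
      rw [h]; ext p; simp [mem_ptSet]
  rw [Bool.eq_iff_iff, beq_iff_eq, decide_eq_true_eq, key]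

theorem mem_hex22_iff {e : Finset GolayPt} : maskOf e ∈ hex22 ↔ e ∈ std22 := by
  constructor
  · exact fun h => ⟨_, h, ptSet_maskOf e⟩
  · rintro ⟨m, hm, rfl⟩
    rwa [ptSet_injOn (maskOf_lt _) (hex22_lt m hm) (ptSet_maskOf (ptSet m))]

theorem maskOf_injective : Function.Injective maskOf := fun a b h => by
  rw [← ptSet_maskOf a, h, ptSet_maskOf]

theorem blockGraph_srg {α : Type*} [Fintype α] (hα : Fintype.card α = 22) {B : Set (Finset α)}
    (hB : Cfsg.IsSteinerSystem 3 6 B) [Fintype B] [DecidableRel (Cfsg.blockGraph B).Adj] :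
    (Cfsg.blockGraph B).IsSRGWith 77 16 0 4 := by
  classical
  obtain ⟨e, -, he⟩ := exists_embed22 hα hB
  rw [← hex22_facts.1]
  refine isSRG_of_check hex22 hex22_facts.2.1 bRel (fun b => maskOf (b.1.map e)) ?_ ?_ ?_ hex22_check
  · intro a b h
    exact Subtype.ext (Finset.map_injective e (maskOf_injective h))
  · intro n
    constructor
    · intro hn
      have : ptSet n ∈ mapSys e B := he ▸ ⟨n, hn, rfl⟩
      obtain ⟨b, hb, hbe⟩ := this
      refine ⟨⟨b, hb⟩, ?_⟩
      show maskOf (b.map e) = n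
      rw [show b.map e = ptSet n from hbe]
      exact ptSet_injOn (maskOf_lt _) (hex22_lt n hn) (ptSet_maskOf _)
    · rintro ⟨b, rfl⟩
      rw [mem_hex22_iff, ← he]
      exact mem_mapSys.2 b.2
  · intro a b
    simp only [bRel, Bool.and_eq_true, bne_iff_ne, maskOf_and_eq_zero, decide_eq_true_eq,
      Finset.disjoint_map, ne_eq, maskOf_injective.eq_iff, Finset.map_inj, Subtype.coe_inj,
      Cfsg.blockGraph, SimpleGraph.fromRel_adj, disjoint_comm (a := (b : Finset α)), or_self]

/-- The adjacency of codes with the threshold as a variable. -/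
def pbRelN (N a b : ℕ) : Bool :=
  bif a < N then
    (bif a == 0 then decide (N ≤ b) else
      bif b < N then b != 0 && bRel a b else a.testBit (b - N))
  else
    bif b < N then b == 0 || b.testBit (a - N) else false

theorem pbRel_eq (a b : ℕ) : pbRel a b = pbRelN (2 ^ 24) a b := rfl

theorem pbRelN_facts (N : ℕ) (hN : 0 < N) :
    pbRelN N 0 0 = false ∧ (∀ i, pbRelN N 0 (N + i) = true) ∧ (∀ i, pbRelN N (N + i) 0 = true) ∧
    (∀ b, b < N → pbRelN N 0 b = false) ∧ (∀ b, b < N → b ≠ 0 → pbRelN N b 0 = false) ∧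
    (∀ i j, pbRelN N (N + i) (N + j) = false) ∧
    (∀ i b, b < N → b ≠ 0 → pbRelN N (N + i) b = b.testBit i) ∧
    (∀ i b, b < N → b ≠ 0 → pbRelN N b (N + i) = b.testBit i) ∧
    ∀ a b, a < N → a ≠ 0 → b < N → b ≠ 0 → pbRelN N a b = bRel a b := by
  refine ⟨?_, fun i => ?_, fun i => ?_, fun b h => ?_, fun b h h' => ?_, fun i j => ?_,
    fun i b h h' => ?_, fun i b h h' => ?_, fun a b h1 h2 h3 h4 => ?_⟩
  · simp [pbRelN, hN, hN.ne']
  · simp [pbRelN, hN]
  · simp [pbRelN, hN, hN.ne']
  · simp [pbRelN, hN, not_le.2 h]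
  · simp [pbRelN, hN, h, h']
  · simp [pbRelN]
  · simp [pbRelN, h, h']
  · simp [pbRelN, h, h']
  · simp [pbRelN, h1, h3, h4, beq_eq_false_iff_ne.2 h2]

theorem pointBlockGraph_srg {α : Type*} [Fintype α] (hα : Fintype.card α = 22)
    {B : Set (Finset α)} (hB : Cfsg.IsSteinerSystem 3 6 B) [Fintype B]
    [DecidableRel (Cfsg.pointBlockGraph B).Adj] :
    (Cfsg.pointBlockGraph B).IsSRGWith 100 22 0 6 := by
  classical
  obtain ⟨e, heX, he⟩ := exists_embed22 hα hB
  let F : Option (α ⊕ B) → ℕ := fun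
    | none => 0
    | some (Sum.inl a) => pCode (idx (e a))
    | some (Sum.inr b) => maskOf (b.1.map e)
  have hblock : ∀ b : B, maskOf (b.1.map e) < 2 ^ 24 ∧ maskOf (b.1.map e) ≠ 0 := by
    intro b
    refine ⟨maskOf_lt _, fun h => ?_⟩
    have h1 : (b.1.map e) = ∅ := by
      rw [← ptSet_maskOf (b.1.map e), h]; ext p; simp [mem_ptSet]
    have h2 := hB.1 _ b.2
    rw [Finset.map_eq_empty] at h1
    rw [h1] at h2
    simp at h2
  have hpt : ∀ a : α, 2 ^ 24 ≤ pCode (idx (e a)) := fun a => by simp [pCode]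
  have hp0 : ∀ a : α, pCode (idx (e a)) ≠ 0 := fun a => by have := hpt a; omega
  rw [← hex22_facts.2.2.1]
  refine isSRG_of_check hsList hex22_facts.2.2.2 pbRel F ?_ ?_ ?_ hsList_check
  · rintro (_ | a | b) (_ | a' | b') h <;> simp only [F] at h
    · rfl
    · exact absurd h.symm (hp0 a')
    · exact absurd h.symm (hblock b').2
    · exact absurd h (hp0 a)
    · rw [pCode, pCode, Nat.add_left_cancel_iff] at h
      rw [e.injective (idx_injective h)]
    · have := hpt a; have := (hblock b').1; omega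
    · exact absurd h (hblock b).2
    · have := hpt a'; have := (hblock b).1; omega
    · rw [Subtype.ext (Finset.map_injective e (maskOf_injective h))]
  · intro n
    simp only [hsList, List.mem_cons, List.mem_append, List.mem_map, List.mem_filter, List.mem_range]
    constructor
    · rintro (rfl | ⟨i, ⟨hi, hib⟩, rfl⟩ | hn)
      · exact ⟨none, rfl⟩
      · have : pt i ∈ Finset.univ.map e := by
          rw [heX, X22, mem_ptSet, idx_pt i hi]; exact hib
        obtain ⟨a, -, ha⟩ := Finset.mem_map.1 this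
        exact ⟨some (Sum.inl a), by simp only [F]; rw [ha, idx_pt i hi]⟩
      · have : ptSet n ∈ mapSys e B := he ▸ ⟨n, hn, rfl⟩
        obtain ⟨b, hb, hbe⟩ := this
        refine ⟨some (Sum.inr ⟨b, hb⟩), ?_⟩
        show maskOf (b.map e) = n
        rw [show b.map e = ptSet n from hbe]
        exact ptSet_injOn (maskOf_lt _) (hex22_lt n hn) (ptSet_maskOf _)
    · rintro ⟨(_ | a | b), rfl⟩
      · exact Or.inl rfl
      · refine Or.inr (Or.inl ⟨idx (e a), ⟨idx_lt _, ?_⟩, rfl⟩)
        have : e a ∈ X22 := heX ▸ Finset.mem_map_of_mem e (Finset.mem_univ a)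
        rwa [X22, mem_ptSet] at this
      · refine Or.inr (Or.inr ?_)
        rw [mem_hex22_iff, ← he]
        exact mem_mapSys.2 b.2
  · have hbit : ∀ (b : B) (a : α),
        (maskOf (b.1.map e)).testBit (idx (e a)) = true ↔ a ∈ b.1 := by
      intro b a
      rw [← mem_ptSet, ptSet_maskOf, Finset.mem_map' e]
    have hadjB : ∀ b b' : B, bRel (maskOf (b.1.map e)) (maskOf (b'.1.map e)) = true ↔
        b ≠ b' ∧ Disjoint b.1 b'.1 := by
      intro b b'
      rw [bRel, Bool.and_eq_true, bne_iff_ne, maskOf_and_eq_zero, decide_eq_true_eq,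
        Finset.disjoint_map, maskOf_injective.ne_iff, (Finset.map_injective e).ne_iff,
        Subtype.coe_ne_coe]
    obtain ⟨r00, r0p, rp0, r0b, rb0, rpp, rpb, rbp, rbb⟩ := pbRelN_facts (2 ^ 24) (Nat.two_pow_pos 24)
    rintro (_ | a | b) (_ | a' | b') <;> simp only [F, pCode, pbRel_eq]
    · rw [r00]; simp [Cfsg.pointBlockGraph]
    · rw [r0p]; simp [Cfsg.pointBlockGraph, Cfsg.pointBlockRel]
    · rw [r0b _ (hblock b').1]; simp [Cfsg.pointBlockGraph, Cfsg.pointBlockRel]
    · rw [rp0]; simp [Cfsg.pointBlockGraph, Cfsg.pointBlockRel]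
    · rw [rpp]; simp [Cfsg.pointBlockGraph, Cfsg.pointBlockRel]
    · rw [rpb _ _ (hblock b').1 (hblock b').2, hbit]
      simp [Cfsg.pointBlockGraph, Cfsg.pointBlockRel]
    · rw [rb0 _ (hblock b).1 (hblock b).2]; simp [Cfsg.pointBlockGraph, Cfsg.pointBlockRel]
    · rw [rbp _ _ (hblock b).1 (hblock b).2, hbit]
      simp [Cfsg.pointBlockGraph, Cfsg.pointBlockRel]
    · rw [rbb _ _ (hblock b).1 (hblock b).2 (hblock b').1 (hblock b').2, hadjB]
      simp [Cfsg.pointBlockGraph, Cfsg.pointBlockRel, disjoint_comm (a := (b' : Finset α))]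

end Cfsg.Agent.H29
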