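import Cfsg.Agent.H29.SteinerAut
import Cfsg.Agent.H29.HigmanSimsGraph
import Cfsg.Agent.H29.SrgModel
import Cfsg.Agent.Golay.Simple

/-!
The automorphism group of the point-block graph of an S(3,6,22) has a simple subgroup of index two
and order 44352000: uniqueness of the graph gives transitivity, the stabiliser of the extra vertex
is the automorphism group of the design, and the sign on the hundred vertices separates its halves.
-/

set_option autoImplicit false

namespace Cfsg.Agent.H29

open Finset Golay
open scoped Pointwise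

variable {α : Type*} [Fintype α] [DecidableEq α] {B : Set (Finset α)}

/-- An automorphism of the design on its blocks. -/
noncomputable def blockPerm (g : Cfsg.setSystemAut B) : Equiv.Perm B :=
  Equiv.subtypeEquiv (Equiv.finsetCongr g.1) fun b => (mem_setSystemAut.1 g.2 b).symm

theorem blockPerm_coe (g : Cfsg.setSystemAut B) (b : B) :
    (blockPerm g b : Finset α) = b.1.map g.1.toEmbedding := rfl

/-- An automorphism of the design on the vertices of the point-block graph. -/
noncomputable def vertexPerm (g : Cfsg.setSystemAut B) : Equiv.Perm (Option (α ⊕ B)) :=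
  Equiv.optionCongr (Equiv.sumCongr g.1 (blockPerm g))

theorem vertexPerm_rel (g : Cfsg.setSystemAut B) (x y : Option (α ⊕ B)) :
    Cfsg.pointBlockRel B (vertexPerm g x) (vertexPerm g y) ↔ Cfsg.pointBlockRel B x y := by
  rcases x with _ | a | b <;> rcases y with _ | a' | b' <;>
    simp [vertexPerm, Cfsg.pointBlockRel, blockPerm_coe]

/-- The automorphism of the graph given by an automorphism of the design. -/
noncomputable def graphLift :
    Cfsg.setSystemAut B →* (Cfsg.pointBlockGraph B ≃g Cfsg.pointBlockGraph B) where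
  toFun g := ⟨vertexPerm g, by
    intro x y
    simp [Cfsg.pointBlockGraph, vertexPerm_rel]⟩
  map_one' := by
    apply RelIso.ext
    rintro (_ | a | b)
    · rfl
    · rfl
    · show some (Sum.inr (blockPerm (1 : Cfsg.setSystemAut B) b)) = some (Sum.inr b)
      exact congrArg _ (congrArg _ (Subtype.ext (by simp [blockPerm_coe, Equiv.Perm.one_def])))
  map_mul' g h := by
    apply RelIso.ext
    rintro (_ | a | b)
    · rfl
    · rfl
    · show some (Sum.inr (blockPerm (g * h) b)) = some (Sum.inr (blockPerm g (blockPerm h b)))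
      refine congrArg _ (congrArg _ (Subtype.ext ?_))
      rw [blockPerm_coe, blockPerm_coe, blockPerm_coe, Finset.map_map]
      rfl

theorem graphLift_injective : Function.Injective (graphLift (B := B)) := by
  intro g h e
  refine Subtype.ext (Equiv.ext fun a => ?_)
  have := DFunLike.congr_fun e (some (Sum.inl a))
  exact Sum.inl_injective (Option.some_injective _ this)

theorem exists_graphLift (hB : Cfsg.IsSteinerSystem 3 6 B)
    (f : Cfsg.pointBlockGraph B ≃g Cfsg.pointBlockGraph B) (hf : f none = none) :
    ∃ g : Cfsg.setSystemAut B, graphLift g = f := by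
  classical
  let E := Cfsg.pointBlockGraph B
  have hadjn : ∀ y, E.Adj none y ↔ ∃ a, y = some (Sum.inl a) := by
    rintro (_ | a | b) <;> simp [E, Cfsg.pointBlockGraph, Cfsg.pointBlockRel]
  have hadjp : ∀ a b, E.Adj (some (Sum.inl a)) (some (Sum.inr b)) ↔ a ∈ b.1 := by
    intro a b; simp [E, Cfsg.pointBlockGraph, Cfsg.pointBlockRel]
  have hpts : ∀ a, ∃ a', f (some (Sum.inl a)) = some (Sum.inl a') := by
    intro a
    have h : E.Adj none (f (some (Sum.inl a))) := by
      rw [← hf]; exact f.map_rel_iff.2 ((hadjn _).2 ⟨a, rfl⟩)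
    exact (hadjn _).1 h
  choose q hq using hpts
  have hq' : Function.Injective q := fun a a' e => Sum.inl_injective (Option.some_injective _
    (f.injective (by rw [hq, hq, e])))
  let g : Equiv.Perm α := Equiv.ofBijective q (Finite.injective_iff_bijective.1 hq')
  have hblk : ∀ b : B, ∃ b' : B, f (some (Sum.inr b)) = some (Sum.inr b') := by
    intro b
    have h1 : ¬ E.Adj none (f (some (Sum.inr b))) := by
      rw [← hf]; exact fun h => by
        obtain ⟨a, ha⟩ := (hadjn _).1 (f.map_rel_iff.1 h)
        simp at ha
    rcases hc : f (some (Sum.inr b)) with _ | a | b'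
    · exact absurd (f.injective (hc.trans hf.symm)) (by simp)
    · exact absurd ((hadjn _).2 ⟨a, hc⟩) h1
    · exact ⟨b', rfl⟩
  choose r hr using hblk
  have himg : ∀ b : B, b.1.map g.toEmbedding = (r b).1 := by
    intro b
    ext y
    obtain ⟨a, rfl⟩ := g.surjective y
    rw [Finset.mem_map_equiv, Equiv.symm_apply_apply, ← hadjp, ← hadjp, ← hr b]
    show _ ↔ E.Adj (some (Sum.inl (q a))) _
    rw [← hq a]
    exact f.map_rel_iff.symm
  have hg : g ∈ Cfsg.setSystemAut B := by
    rw [mem_setSystemAut]
    intro b
    refine ⟨fun hb => ?_, fun hb => himg ⟨b, hb⟩ ▸ (r ⟨b, hb⟩).2⟩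
    have hinj : Function.Injective r := fun c c' e => Sum.inr_injective (Option.some_injective _
      (f.injective (by rw [hr, hr, e])))
    haveI : Finite B := Subtype.finite
    obtain ⟨c, hc⟩ := (Finite.injective_iff_surjective.1 hinj) ⟨_, hb⟩
    have e := (himg c).trans (congrArg Subtype.val hc)
    exact Finset.map_injective _ e ▸ c.2
  refine ⟨⟨g, hg⟩, RelIso.ext ?_⟩
  rintro (_ | a | b)
  · exact hf.symm
  · exact (hq a).symm
  · rw [hr]
    exact congrArg (fun c => some (Sum.inr c)) (Subtype.ext (himg b))

theorem graph_transitive (hα : Fintype.card α = 22) (hB : Cfsg.IsSteinerSystem 3 6 B)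
    (v : Option (α ⊕ B)) :
    ∃ f : Cfsg.pointBlockGraph B ≃g Cfsg.pointBlockGraph B, f none = v := by
  classical
  haveI : Fintype B := Fintype.ofFinite B
  have hG := pointBlockGraph_srg hα hB
  -- coordinates based at `v` and at the extra vertex have the same image
  obtain ⟨F, hF, hFr, hFa, hF0⟩ := exists_hs_coords_at hG none
  obtain ⟨F', hF', hFr', hFa', hF0'⟩ := exists_hs_coords_at hG v
  let φ : Option (α ⊕ B) ≃ Option (α ⊕ B) := (Equiv.ofInjective F hF).trans
    ((Equiv.setCongr (hFr.trans hFr'.symm)).trans (Equiv.ofInjective F' hF').symm)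
  have hφ : ∀ a, F' (φ a) = F a := fun a => Equiv.apply_ofInjective_symm hF' _
  exact ⟨⟨φ, fun {a b} => by rw [hFa', hFa, hφ, hφ]⟩, hF' ((hφ none).trans (hF0.trans hF0'.symm))⟩

theorem sign_of_fixed {V : Type*} [Fintype V] [DecidableEq V] (hV : Fintype.card V = 100)
    {σ : Equiv.Perm V} (h2 : σ * σ = 1) (hfix : (univ.filter fun x => σ x = x).card = 6) :
    Equiv.Perm.sign σ = -1 := by
  have hne : σ ≠ 1 := fun e => by simp [e, hV] at hfix
  have ho : orderOf σ = 2 := orderOf_eq_prime (by rw [pow_two, h2]) hne
  obtain ⟨k, hk⟩ := Equiv.Perm.cycleType_prime_order (ho.symm ▸ Nat.prime_two)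
  rw [ho] at hk
  have hsup : σ.support.card = 94 := by
    have h := Finset.card_filter_add_card_filter_not (s := (univ : Finset V)) (fun x => σ x = x)
    rw [hfix, card_univ, hV] at h
    have : σ.support = univ.filter fun x => ¬ σ x = x := by ext x; simp
    rw [this]; omega
  have hsum := Equiv.Perm.sum_cycleType σ
  rw [hk, Multiset.sum_replicate, smul_eq_mul, hsup] at hsum
  rw [Equiv.Perm.sign_of_cycleType, hk, Multiset.sum_replicate, Multiset.card_replicate,
    show k + 1 = 47 by omega]
  decide

theorem outer_sq : mkPerm outer22 * mkPerm outer22 = 1 := by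
  have hot := outer_table
  simp only [Bool.and_eq_true, beq_iff_eq] at hot
  obtain ⟨⟨⟨hv, -⟩, -⟩, -⟩ := hot
  have h : ((List.range 24).all fun i => decide (app outer22 i < 24) &&
      app outer22 (app outer22 i) == i) = true := by decide +kernel
  simp only [List.all_eq_true, List.mem_range, Bool.and_eq_true, decide_eq_true_eq,
    beq_iff_eq] at h
  ext1 p
  rw [Equiv.Perm.mul_apply, Equiv.Perm.one_apply, ← pt_idx p]
  obtain ⟨h1, h2⟩ := h (idx p) (idx_lt p)
  rw [mkPerm_pt hv (idx_lt p), mkPerm_pt hv h1, h2]

theorem outer_free : ∀ i, i < 24 → mask22.testBit i = true → app outer22 i ≠ i := by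
  have h : ((List.range 24).all fun i => !mask22.testBit i || app outer22 i != i) = true := by
    decide +kernel
  intro i hi hb e
  simp only [List.all_eq_true, List.mem_range] at h
  have := h i hi
  simp [hb, e] at this

theorem outer_fixed_hexads :
    ((hex22.filter fun m => tblImg outer22 m == m).toFinset).card = 5 := by decide +kernel

theorem exists_odd (hα : Fintype.card α = 22) (hB : Cfsg.IsSteinerSystem 3 6 B)
    [Fintype B] : ∃ g : Cfsg.setSystemAut B,
      Equiv.Perm.sign (vertexPerm g) = -1 := by
  classical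
  obtain ⟨e, heX, he⟩ := exists_embed22 hα hB
  have hot := outer_table
  simp only [Bool.and_eq_true, beq_iff_eq] at hot
  obtain ⟨⟨⟨hv, -⟩, -⟩, -⟩ := hot
  have hmem : mkPerm outer22 ∈ (Cfsg.setSystemAut B).map (Equiv.Perm.viaEmbeddingHom e) := by
    rw [aut_map_viaEmbedding e he, heX]
    refine ⟨fun p hp => ?_, outer_facts.2.2⟩
    rcases notMem_X22.1 hp with rfl | rfl
    · exact outer_facts.1
    · exact outer_facts.2.1
  obtain ⟨g, hg, hgo⟩ := hmem
  have hge : ∀ x, mkPerm outer22 (e x) = e (g x) := fun x => by
    rw [← hgo]; exact Equiv.Perm.viaEmbedding_apply g e x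
  refine ⟨⟨g, hg⟩, sign_of_fixed ((pointBlockGraph_srg hα hB).card) ?_ ?_⟩
  · have hg2 : (⟨g, hg⟩ : Cfsg.setSystemAut B) * ⟨g, hg⟩ = 1 := by
      refine Subtype.ext (Equiv.Perm.viaEmbeddingHom_injective e ?_)
      simp only [Subgroup.coe_mul, map_mul, hgo, outer_sq, OneMemClass.coe_one, map_one]
    exact congrArg RelIso.toEquiv ((map_mul graphLift _ _).symm.trans
      ((congrArg graphLift hg2).trans (map_one _)))
  · have hpt : ∀ a, g a ≠ a := fun a h => by
      have ha : e a ∈ X22 := heX ▸ Finset.mem_map_of_mem e (Finset.mem_univ a)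
      rw [X22, mem_ptSet] at ha
      have h1 := hge a
      rw [h] at h1
      conv_lhs at h1 => rw [← pt_idx (e a), mkPerm_pt hv (idx_lt _)]
      have hlt : app outer22 (idx (e a)) < 24 := ((validT_bijective hv).2 _ (idx_lt _))
      exact outer_free _ (idx_lt _) ha (by rw [← idx_pt _ hlt, h1])
    have hset : (univ.filter fun x => vertexPerm (B := B) ⟨g, hg⟩ x = x) =
        insert none ((univ.filter fun b : B => blockPerm ⟨g, hg⟩ b = b).image
          fun b => some (Sum.inr b)) := by
      ext x
      rcases x with _ | a | b <;> simp [vertexPerm, hpt]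
    have hcard : (univ.filter fun b : B => blockPerm ⟨g, hg⟩ b = b).card = 5 := by
      rw [← outer_fixed_hexads]
      have hiff : ∀ b : B, blockPerm ⟨g, hg⟩ b = b ↔
          tblImg outer22 (maskOf (b.1.map e)) = maskOf (b.1.map e) := by
        intro b
        have hkey : ptSet (tblImg outer22 (maskOf (b.1.map e))) =
            (b.1.map g.toEmbedding).map e := by
          rw [ptSet_tblImg_map hv, ptSet_maskOf, Finset.map_map, Finset.map_map]
          exact congrArg (fun x => Finset.map x b.1) (Function.Embedding.ext hge)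
        constructor
        · intro h
          apply ptSet_injOn (tblImg_lt hv _) (maskOf_lt _)
          rw [hkey, ptSet_maskOf, show b.1.map g.toEmbedding = b.1 from congrArg Subtype.val h]
        · intro h
          refine Subtype.ext (Finset.map_injective e ?_)
          rw [blockPerm_coe, ← hkey, h, ptSet_maskOf]
      refine Finset.card_bij (fun b _ => maskOf (b.1.map e)) ?_ ?_ ?_
      · intro b hb
        rw [List.mem_toFinset, List.mem_filter, beq_iff_eq, mem_hex22_iff, ← he]
        exact ⟨mem_mapSys.2 b.2, (hiff b).1 (Finset.mem_filter.1 hb).2⟩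
      · intro b _ c _ h
        exact Subtype.ext (Finset.map_injective e (maskOf_injective h))
      · intro m hm
        rw [List.mem_toFinset, List.mem_filter, beq_iff_eq] at hm
        have : ptSet m ∈ mapSys e B := he ▸ ⟨m, hm.1, rfl⟩
        obtain ⟨b, hb, hbe⟩ := this
        have heq : maskOf (b.map e) = m := by
          rw [show b.map e = ptSet m from hbe]
          exact ptSet_injOn (maskOf_lt _) (hex22_lt m hm.1) (ptSet_maskOf _)
        exact ⟨⟨b, hb⟩, Finset.mem_filter.2 ⟨Finset.mem_univ _, (hiff _).2 (by rw [heq]; exact hm.2)⟩,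
          heq⟩
    rw [hset, card_insert_of_notMem (by simp), card_image_of_injective _
      (f := fun b : B => some (Sum.inr b)) ((Option.some_injective (α ⊕ B)).comp Sum.inr_injective), hcard]

/-- A normal subgroup of index two of a group transitive on an odd number of points is transitive. -/
theorem exists_mem_of_index_two {G X : Type*} [Group G] [MulAction G X] {N : Subgroup G}
    (hN : N.index = 2) (hodd : Odd (Nat.card X)) (ht : ∀ x y : X, ∃ g : G, g • x = y) (x y : X) :
    ∃ g ∈ N, g • x = y := by
  haveI : MulAction.IsPretransitive G X := ⟨ht⟩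
  obtain ⟨s, hs, hsx⟩ : ∃ s, s ∉ N ∧ s • x = x := by
    by_contra hall
    push Not at hall
    have hle : MulAction.stabilizer G x ≤ N := fun s hs => by
      by_contra hn
      exact hall s hn hs
    have := Subgroup.relIndex_mul_index hle
    rw [hN, MulAction.index_stabilizer_of_transitive] at this
    exact Nat.not_even_iff_odd.2 hodd ⟨_, by rw [← this, mul_two]⟩
  obtain ⟨g, hg⟩ := ht x y
  by_cases hgN : g ∈ N
  · exact ⟨g, hgN, hg⟩
  · refine ⟨g * s, ?_, by rw [mul_smul, hsx, hg]⟩
    rw [Subgroup.mul_mem_iff_of_index_two hN]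
    tauto

/-- The Higman-Sims group inside the automorphism group of the graph. -/
theorem exists_hs (hα : Fintype.card α = 22) (hB : Cfsg.IsSteinerSystem 3 6 B) :
    ∃ H : Subgroup (Cfsg.pointBlockGraph B ≃g Cfsg.pointBlockGraph B), Cfsg.IsHS H := by
  classical
  haveI : Fintype B := Fintype.ofFinite B
  have hV : Fintype.card (Option (α ⊕ B)) = 100 := (pointBlockGraph_srg hα hB).card
  have hBc : Fintype.card B = 77 := (blockGraph_srg hα hB).card
  set A := Cfsg.pointBlockGraph B ≃g Cfsg.pointBlockGraph B
  let toP : A →* Equiv.Perm (Option (α ⊕ B)) :=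
    { toFun := fun f => f.toEquiv
      map_one' := rfl
      map_mul' := fun f g => rfl }
  haveI : Finite A := Finite.of_injective toP fun f g h => RelIso.ext fun x =>
    congrFun (congrArg DFunLike.coe h) x
  let sg : A →* ℤˣ := Equiv.Perm.sign.comp toP
  let H : Subgroup A := sg.ker
  obtain ⟨g0, hg0⟩ := exists_odd hα hB
  have hs0 : sg (graphLift g0) = -1 := hg0
  have hH2 : H.index = 2 := by
    rw [Subgroup.index_ker, show sg.range = ⊤ by
      refine top_unique fun u _ => ?_
      rcases Int.units_eq_one_or u with rfl | rfl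
      · exact ⟨1, map_one _⟩
      · exact ⟨_, hs0⟩, Subgroup.card_top]
    simp
  obtain ⟨hcard, hpre, N, hN2, hNs, hNc⟩ := steiner22_aut hα hB
  haveI := hNs
  haveI := hpre
  have hker : N ≤ (sg.comp graphLift).ker := by
    rcases (MonoidHom.normal_ker ((sg.comp graphLift).comp N.subtype)).eq_bot_or_eq_top with h | h
    · exfalso
      have := Nat.card_le_card_of_injective _ ((MonoidHom.ker_eq_bot_iff _).1 h)
      rw [hNc] at this
      simp at this
    · intro g hg
      exact DFunLike.congr_fun (MonoidHom.ker_eq_top_iff.1 h) ⟨g, hg⟩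
  have hkerN : (sg.comp graphLift).ker = N := by
    refine (Subgroup.eq_of_le_of_card_ge hker ?_).symm
    have h1 := (sg.comp graphLift).ker.card_mul_index
    have h2 := N.card_mul_index
    have h3 : (sg.comp graphLift).ker.index = 2 := by
      rw [Subgroup.index_ker, show (sg.comp graphLift).range = ⊤ by
        refine top_unique fun u _ => ?_
        rcases Int.units_eq_one_or u with rfl | rfl
        · exact ⟨1, map_one _⟩
        · exact ⟨_, hs0⟩, Subgroup.card_top]
      simp
    rw [h3] at h1; rw [hN2] at h2
    omega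
  -- the group is transitive
  have htrans : ∀ v, ∃ f ∈ H, f none = v := by
    intro v
    obtain ⟨f, hf⟩ := graph_transitive hα hB v
    rcases Int.units_eq_one_or (sg f) with h | h
    · exact ⟨f, h, hf⟩
    · refine ⟨f * graphLift g0, ?_, hf⟩
      show sg (f * graphLift g0) = 1
      rw [map_mul, h, hs0]; rfl
  haveI hHt : MulAction.IsPretransitive H (Option (α ⊕ B)) := by
    refine MulAction.isPretransitive_iff_base none |>.2 fun v => ?_
    obtain ⟨f, hfH, hf⟩ := htrans v
    exact ⟨⟨f, hfH⟩, hf⟩
  -- the stabiliser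
  let ψ : N →* MulAction.stabilizer H (none : Option (α ⊕ B)) :=
    ((graphLift.comp N.subtype).codRestrict H fun g =>
      (hker g.2 : sg (graphLift g.1) = 1)).codRestrict _ fun g => rfl
  have hψ : Function.Bijective ψ := by
    refine ⟨fun g h e => Subtype.ext (graphLift_injective (congrArg (fun u => u.1.1) e)), fun u => ?_⟩
    obtain ⟨g, hg⟩ := exists_graphLift hB u.1.1 u.2
    have : g ∈ N := by
      rw [← hkerN, MonoidHom.mem_ker, MonoidHom.comp_apply, hg]
      exact u.1.2
    exact ⟨⟨g, this⟩, Subtype.ext (Subtype.ext hg)⟩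
  let Ψ := MulEquiv.ofBijective ψ hψ
  haveI hsim : IsSimpleGroup (MulAction.stabilizer H (none : Option (α ⊕ B))) := Ψ.symm.isSimpleGroup
  have hHc : Nat.card H = 44352000 := by
    rw [← (MulAction.stabilizer H (none : Option (α ⊕ B))).card_mul_index,
      MulAction.index_stabilizer_of_transitive, Nat.card_eq_fintype_card (α := Option (α ⊕ B)), hV,
      ← Nat.card_congr Ψ.toEquiv, hNc]
  -- orbits of the stabiliser
  haveI hN_nontrivial : Nontrivial N := Finite.one_lt_card_iff_nontrivial.1 (by rw [hNc]; norm_num)
  have horbA : ∀ a a' : α, ∃ g ∈ N, g • a = a' := by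
    intro a a'
    haveI := MulAction.isMultiplyPretransitive_of_le (G := Cfsg.setSystemAut B) (α := α) (n := 3)
      (m := 2) (by norm_num) (by rw [Nat.card_eq_fintype_card, hα]; norm_num)
    haveI : MulAction.IsPreprimitive (Cfsg.setSystemAut B) α :=
      MulAction.isPreprimitive_of_is_two_pretransitive ‹_›
    haveI := Subgroup.normal_of_index_eq_two hN2
    haveI := isPretransitive_of_normal_ne_bot (α := α) (G := Cfsg.setSystemAut B) (N := N)
      ((Subgroup.nontrivial_iff_ne_bot N).1 inferInstance)
    obtain ⟨g, hg⟩ := MulAction.exists_smul_eq N a a'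
    exact ⟨g.1, g.2, hg⟩
  letI : MulAction (Cfsg.setSystemAut B) B := MulAction.compHom B
    { toFun := fun g => blockPerm g
      map_one' := Equiv.ext fun b => Subtype.ext (by simp [blockPerm_coe, Equiv.Perm.one_def])
      map_mul' := fun g h => Equiv.ext fun b => Subtype.ext (by
        rw [Equiv.Perm.mul_apply, blockPerm_coe, blockPerm_coe, blockPerm_coe, Finset.map_map]
        rfl) }
  have horbB : ∀ b b' : B, ∃ g ∈ N, blockPerm g b = b' := by
    refine exists_mem_of_index_two hN2 (by rw [Nat.card_eq_fintype_card, hBc]; decide) fun b b' => ?_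
    obtain ⟨s, hs, hsc⟩ := exists_subset_card_eq (s := b.1) (n := 3) (by rw [hB.1 _ b.2]; norm_num)
    obtain ⟨s', hs', hsc'⟩ := exists_subset_card_eq (s := b'.1) (n := 3) (by rw [hB.1 _ b'.2]; norm_num)
    let x : Fin 3 ↪ α := (s.equivFinOfCardEq hsc).symm.toEmbedding.trans (Function.Embedding.subtype _)
    let y : Fin 3 ↪ α := (s'.equivFinOfCardEq hsc').symm.toEmbedding.trans (Function.Embedding.subtype _)
    obtain ⟨g, hg⟩ := MulAction.exists_smul_eq (Cfsg.setSystemAut B) x y
    refine ⟨g, ?_⟩
    show blockPerm g b = b'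
    refine Subtype.ext (H29.block_eq hB (blockPerm g b).2 b'.2 (s := s') hsc' ?_ hs')
    intro p hp
    obtain ⟨i, hi⟩ : ∃ i, y i = p :=
      ⟨s'.equivFinOfCardEq hsc' ⟨p, hp⟩, by simp [y]⟩
    rw [blockPerm_coe, ← hi, ← hg, Function.Embedding.smul_apply]
    exact Finset.mem_map_of_mem _ (hs (by simp [x]))
  have hstabN : ∀ g ∈ N, ∃ u : H, u • (none : Option (α ⊕ B)) = none ∧
      ∀ x, u • x = graphLift g x := fun g hg => ⟨(ψ ⟨g, hg⟩).1, rfl, fun x => rfl⟩
  haveI hprim : MulAction.IsPreprimitive H (Option (α ⊕ B)) := by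
    refine MulAction.IsPreprimitive.of_isTrivialBlock_base none fun {Bk} hn hBk => ?_
    have hfix : ∀ g ∈ N, ∀ x ∈ Bk, graphLift g x ∈ Bk := by
      intro g hg x hx
      obtain ⟨u, hu, hux⟩ := hstabN g hg
      have he : u • Bk = Bk := hBk.smul_eq_of_mem hn (by rw [hu]; exact hn)
      rw [← hux, ← he]
      exact Set.smul_mem_smul_set hx
    have hd := MulAction.IsBlock.ncard_dvd_card hBk ⟨none, hn⟩
    rw [Nat.card_eq_fintype_card, hV] at hd
    have hA : ∀ a, some (Sum.inl a) ∈ Bk → ∀ a', some (Sum.inl a') ∈ Bk := by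
      intro a ha a'
      obtain ⟨g, hg, hga⟩ := horbA a a'
      have := hfix g hg _ ha
      rw [← hga]; exact this
    have hBl : ∀ b, some (Sum.inr b) ∈ Bk → ∀ b', some (Sum.inr b') ∈ Bk := by
      intro b hb b'
      obtain ⟨g, hg, hgb⟩ := horbB b b'
      have := hfix g hg _ hb
      rw [← hgb]; exact this
    by_cases h1 : ∃ a, some (Sum.inl a) ∈ Bk <;> by_cases h2 : ∃ b, some (Sum.inr b) ∈ Bk
    · obtain ⟨a, ha⟩ := h1
      obtain ⟨b, hb⟩ := h2
      right
      refine Set.eq_univ_of_forall fun x => ?_
      rcases x with _ | a' | b'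
      exacts [hn, hA a ha a', hBl b hb b']
    · obtain ⟨a, ha⟩ := h1
      push Not at h2
      have : Bk = insert none (Set.range fun a => some (Sum.inl a)) := by
        ext x
        rcases x with _ | a' | b'
        · simp [hn]
        · simp [hA a ha a']
        · simp [h2 b']
      rw [this, Set.ncard_insert_of_notMem (by simp), Set.ncard_range_of_injective
        (f := fun a : α => some (Sum.inl (β := B) a))
        ((Option.some_injective _).comp Sum.inl_injective), Nat.card_eq_fintype_card, hα] at hd
      norm_num at hd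
    · obtain ⟨b, hb⟩ := h2
      push Not at h1
      have : Bk = insert none (Set.range fun b => some (Sum.inr b)) := by
        ext x
        rcases x with _ | a' | b'
        · simp [hn]
        · simp [h1 a']
        · simp [hBl b hb b']
      rw [this, Set.ncard_insert_of_notMem (by simp), Set.ncard_range_of_injective
        (f := fun b : B => some (Sum.inr (α := α) b))
        ((Option.some_injective _).comp Sum.inr_injective), Nat.card_eq_fintype_card, hBc] at hd
      norm_num at hd
    · push Not at h1 h2
      left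
      intro x hx y hy
      rcases x with _ | a | b
      · rcases y with _ | a | b
        exacts [rfl, absurd hy (h1 a), absurd hy (h2 b)]
      · exact absurd hx (h1 a)
      · exact absurd hx (h2 b)
  haveI : FaithfulSMul H (Option (α ⊕ B)) :=
    ⟨fun h => Subtype.ext (RelIso.ext fun x => h x)⟩
  haveI : Nontrivial H := Finite.one_lt_card_iff_nontrivial.1 (by rw [hHc]; norm_num)
  refine ⟨H, ⟨⟨fun M hM => ?_⟩, hHc⟩⟩
  by_cases hM0 : M = ⊥
  · exact Or.inl hM0
  right
  haveI := hM
  haveI hMt := isPretransitive_of_normal_ne_bot (α := Option (α ⊕ B)) hM0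
  set S := MulAction.stabilizer H (none : Option (α ⊕ B))
  rcases (hM.subgroupOf S).eq_bot_or_eq_top with hb | ht
  · exfalso
    rw [Subgroup.subgroupOf_eq_bot, disjoint_iff] at hb
    have hMc : Nat.card M = 100 := by
      have h := (MulAction.stabilizer M (none : Option (α ⊕ B))).card_mul_index
      rw [MulAction.index_stabilizer_of_transitive, Nat.card_eq_fintype_card (α := Option (α ⊕ B)),
        hV] at h
      have h1 : MulAction.stabilizer M (none : Option (α ⊕ B)) = ⊥ := by
        rw [Subgroup.eq_bot_iff_forall]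
        intro m hm
        exact Subtype.ext (Subgroup.mem_bot.1 (hb ▸ (⟨m.2, hm⟩ : (m : H) ∈ M ⊓ S)))
      rw [h1, Subgroup.card_bot, one_mul] at h
      exact h.symm
    haveI : Fact (Nat.Prime 5) := ⟨by norm_num⟩
    let P : Sylow 5 M := default
    have hPc : Nat.card P = 25 := by
      rw [P.card_eq_multiplicity, hMc, show (100 : ℕ) = 5 ^ 2 * 4 by norm_num,
        Nat.factorization_mul (by norm_num) (by norm_num), Finsupp.add_apply,
        Nat.Prime.factorization_pow (by norm_num), Finsupp.single_eq_same,
        Nat.factorization_eq_zero_of_not_dvd (by norm_num : ¬ 5 ∣ 4)]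
      norm_num
    have hPi : P.index = 4 := by
      have := (P : Subgroup M).card_mul_index
      rw [hPc, hMc] at this
      omega
    haveI : Subsingleton (Sylow 5 M) := by
      refine Finite.card_le_one_iff_subsingleton.1 ?_
      have h1 := card_sylow_modEq_one 5 M
      have h2 : Nat.card (Sylow 5 M) ∣ 4 := hPi ▸ P.card_dvd_index
      have h3 := Nat.le_of_dvd (by norm_num) h2
      unfold Nat.ModEq at h1
      omega
    haveI : (P : Subgroup M).Characteristic := Sylow.characteristic_of_subsingleton P
    haveI : ((P : Subgroup M).map M.subtype).Normal := inferInstance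
    have hP0 : (P : Subgroup M).map M.subtype ≠ ⊥ := by
      intro e
      have := congrArg (fun K : Subgroup H => Nat.card K) e
      simp only [Subgroup.card_bot] at this
      rw [Subgroup.card_map_of_injective M.subtype_injective, hPc] at this
      omega
    haveI := isPretransitive_of_normal_ne_bot (α := Option (α ⊕ B)) hP0
    have hd := card_dvd_card_of_transitive (α := Option (α ⊕ B))
      (H := (P : Subgroup M).map M.subtype)
    rw [Subgroup.card_map_of_injective M.subtype_injective, hPc,
      Nat.card_eq_fintype_card, hV] at hd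
    norm_num at hd
  · refine top_unique fun u _ => ?_
    obtain ⟨m, hm⟩ := MulAction.exists_smul_eq M (none : Option (α ⊕ B)) (u • none)
    have hmem : (m : H)⁻¹ * u ∈ S := by
      show ((m : H)⁻¹ * u) • (none : Option (α ⊕ B)) = none
      rw [mul_smul, ← hm]
      exact inv_smul_smul (m : H) _
    have hin : (m : H)⁻¹ * u ∈ M := Subgroup.subgroupOf_eq_top.1 ht hmem
    simpa using mul_mem m.2 hin

end Cfsg.Agent.H29
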