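import Cfsg.Agent.Golay.LeechStructure
import Cfsg.Agent.Golay.LeechCount
import Cfsg.Agent.H29.GolayExt

/-!
Integer lattices in 24 coordinates containing every `4eᵢ ± 4eⱼ`, with inner products divisible by 8,
norms divisible by 16, no vector of norm 16 and 196560 vectors of norm 32, are the Leech lattice up
to a signed permutation of the coordinates.
-/

set_option autoImplicit false

namespace Cfsg.Agent.H29

open Cfsg Finset

/-- The standing hypotheses on the lattice. -/
structure Frame {α : Type*} [Fintype α] [DecidableEq α] (Λ : AddSubgroup (α → ℤ)) : Prop where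
  card : Fintype.card α = 24
  dvd : ∀ x ∈ Λ, ∀ y ∈ Λ, (8 : ℤ) ∣ dotInt x y
  norm : ∀ x ∈ Λ, (16 : ℤ) ∣ sqNorm x
  ne16 : ∀ x ∈ Λ, sqNorm x ≠ 16
  pair : ∀ i j : α, (Pi.single i 4 + Pi.single j 4 : α → ℤ) ∈ Λ
  count : {x : α → ℤ | x ∈ Λ ∧ sqNorm x = 32}.ncard = 196560

namespace Frame

variable {α : Type*} [Fintype α] [DecidableEq α] {Λ : AddSubgroup (α → ℤ)}

theorem dot_single (x : α → ℤ) (i : α) (c : ℤ) : dotInt x (Pi.single i c) = x i * c := by
  simp [dotInt, Pi.single_apply]

theorem parity (h : Frame Λ) {x : α → ℤ} (hx : x ∈ Λ) (i j : α) : x i % 2 = x j % 2 := by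
  have := h.dvd x hx _ (h.pair i j)
  have he : dotInt x (Pi.single i 4 + Pi.single j 4) = x i * 4 + x j * 4 := by
    rw [← dot_single x i 4, ← dot_single x j 4]
    simp [dotInt, mul_add, sum_add_distrib]
  rw [he] at this
  omega

theorem eight (h : Frame Λ) (i : α) (k : ℤ) : (Pi.single i (8 * k) : α → ℤ) ∈ Λ := by
  have h1 := Λ.zsmul_mem (h.pair i i) k
  convert h1 using 1
  funext l
  by_cases hl : l = i
  · subst hl; simp; ring
  · simp [hl]

/-- Moving a multiple of 4 from one coordinate to another. -/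
theorem shift (h : Frame Λ) (i j : α) (k : ℤ) :
    (Pi.single i (4 * k) - Pi.single j (4 * k) : α → ℤ) ∈ Λ := by
  have h1 := Λ.sub_mem (Λ.zsmul_mem (h.pair i j) k) (h.eight j k)
  convert h1 using 1
  funext l
  simp only [Pi.sub_apply, Pi.add_apply, Pi.smul_apply, Pi.single_apply, smul_eq_mul]
  split_ifs <;> ring

/-- The parity word of an integer vector. -/
def red2 (a : α → ℤ) : α → ZMod 2 := fun i => ((a i : ℤ) : ZMod 2)

theorem red2_add (a b : α → ℤ) : red2 (a + b) = red2 a + red2 b := by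
  funext i; simp [red2]

/-- The binary code of the lattice. -/
def code (Λ : AddSubgroup (α → ℤ)) : AddSubgroup (α → ZMod 2) where
  carrier := {w | ∃ a : α → ℤ, 2 • a ∈ Λ ∧ red2 a = w}
  zero_mem' := ⟨0, by simp, by funext i; simp [red2]⟩
  add_mem' := by
    rintro _ _ ⟨a, ha, rfl⟩ ⟨b, hb, rfl⟩
    exact ⟨a + b, by rw [smul_add]; exact Λ.add_mem ha hb, red2_add a b⟩
  neg_mem' := by
    rintro _ ⟨a, ha, rfl⟩
    exact ⟨-a, by rw [smul_neg]; exact Λ.neg_mem ha, by funext i; simp [red2]⟩

theorem mem_code {w : α → ZMod 2} : w ∈ code Λ ↔ ∃ a : α → ℤ, 2 • a ∈ Λ ∧ red2 a = w := Iff.rfl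

theorem sqNorm_two (a : α → ℤ) : sqNorm (2 • a) = 4 * ∑ i, a i ^ 2 := by
  simp only [sqNorm, Pi.smul_apply, smul_eq_mul, nsmul_eq_mul, mul_sum]
  exact sum_congr rfl fun i _ => by push_cast; ring

/-- Every code word has a representative that is zero off its support and `±1` on it. -/
theorem exists_small (h : Frame Λ) {w : α → ZMod 2} (hw : w ∈ code Λ) (hne : w ≠ 0) :
    ∃ a : α → ℤ, 2 • a ∈ Λ ∧ red2 a = w ∧ (∀ i, w i = 0 → a i = 0) ∧
      ∀ i, w i ≠ 0 → (a i = 1 ∨ a i = -1) := by
  obtain ⟨b, hb, hbw⟩ := hw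
  obtain ⟨p, hp⟩ := Function.ne_iff.1 hne
  -- first move everything onto the coordinate `p`
  let k : α → ℤ := fun i => if i = p then 0 else b i / 2
  have hk : ∀ i, (Pi.single i (4 * k i) - Pi.single p (4 * k i) : α → ℤ) ∈ Λ := fun i => h.shift i p _
  let d : α → ℤ := fun i => if i = p then 2 * ∑ j, k j else -(2 * k i)
  have hd : 2 • d ∈ Λ := by
    have h1 := Λ.neg_mem (Λ.sum_mem (t := univ) fun i _ => hk i)
    convert h1 using 1
    funext l
    simp only [Pi.neg_apply, Finset.sum_apply, Pi.sub_apply, Pi.single_apply, Pi.smul_apply,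
      nsmul_eq_mul, sum_sub_distrib, sum_ite_eq, mem_univ, if_true, d]
    by_cases hl : l = p
    · subst hl; simp [k, mul_sum]; exact sum_congr rfl fun i _ => by ring
    · simp [hl]; ring
  let a1 := b + d
  have ha1 : 2 • a1 ∈ Λ := by rw [smul_add]; exact Λ.add_mem hb hd
  have hoff : ∀ i, i ≠ p → a1 i = b i % 2 := fun i hi => by
    simp only [a1, d, k, Pi.add_apply, if_neg hi]
    omega
  have hred : red2 a1 = w := by
    rw [red2_add, hbw]
    have : red2 d = 0 := by
      funext i
      simp only [red2, d, Pi.zero_apply, ZMod.intCast_zmod_eq_zero_iff_dvd]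
      split_ifs <;> omega
    rw [this, add_zero]
  have hodd : a1 p % 2 = 1 := by
    have h1 : ((a1 p : ℤ) : ZMod 2) ≠ 0 := by
      have := congrFun hred p; simp only [red2] at this; rw [this]; exact hp
    exact (Golay.zmod2_eq_iff _).1 h1
  -- then reduce the coordinate `p` modulo 4
  let t : ℤ := (a1 p + 1) / 4
  let a : α → ℤ := a1 + Pi.single p (-(4 * t))
  have ha : 2 • a ∈ Λ := by
    rw [smul_add]
    refine Λ.add_mem ha1 ?_
    convert h.eight p (-t) using 1
    funext l
    by_cases hl : l = p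
    · subst hl; simp; ring
    · simp [hl]
  have har : red2 a = w := by
    rw [red2_add, hred]
    have : red2 (Pi.single p (-(4 * t)) : α → ℤ) = 0 := by
      funext i
      simp only [red2, Pi.zero_apply, ZMod.intCast_zmod_eq_zero_iff_dvd, Pi.single_apply]
      split_ifs <;> omega
    rw [this, add_zero]
  refine ⟨a, ha, har, fun i hi => ?_, fun i hi => ?_⟩
  · have hip : i ≠ p := fun e => hp (e ▸ hi)
    have h1 : ((a i : ℤ) : ZMod 2) = 0 := (congrFun har i).trans hi
    rw [ZMod.intCast_zmod_eq_zero_iff_dvd] at h1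
    have h2 : a i = b i % 2 := by simp [a, hip, hoff i hip]
    omega
  · have h1 : ((a i : ℤ) : ZMod 2) ≠ 0 := by rw [show ((a i : ℤ) : ZMod 2) = w i from congrFun har i]; exact hi
    rw [Golay.zmod2_eq_iff] at h1
    by_cases hip : i = p
    · subst hip
      simp only [a, Pi.add_apply, Pi.single_eq_same, t] at h1 ⊢
      omega
    · have h2 : a i = b i % 2 := by simp [a, hip, hoff i hip]
      omega

theorem sum_sq_small {w : α → ZMod 2} {a : α → ℤ} (h0 : ∀ i, w i = 0 → a i = 0)
    (h1 : ∀ i, w i ≠ 0 → (a i = 1 ∨ a i = -1)) : ∑ i, a i ^ 2 = ((support₂ w).card : ℤ) := by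
  rw [support₂, card_filter, Nat.cast_sum]
  refine sum_congr rfl fun i _ => ?_
  by_cases hi : w i = 0
  · simp [hi, h0 i hi]
  · rcases h1 i hi with e | e <;> simp [hi, e]

theorem weight (h : Frame Λ) {w : α → ZMod 2} (hw : w ∈ code Λ) :
    4 ∣ (support₂ w).card ∧ (w ≠ 0 → 8 ≤ (support₂ w).card) := by
  by_cases hne : w = 0
  · subst hne; simp [support₂]
  obtain ⟨a, ha, -, h0, h1⟩ := h.exists_small hw hne
  have hn := h.norm _ ha
  have h16 := h.ne16 _ ha
  rw [sqNorm_two, sum_sq_small h0 h1] at hn h16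
  have hpos : 0 < (support₂ w).card := by
    obtain ⟨p, hp⟩ := Function.ne_iff.1 hne
    exact card_pos.2 ⟨p, by simpa [support₂] using hp⟩
  omega

theorem inter_support (w u : α → ZMod 2) :
    (support₂ (w + u)).card + 2 * (support₂ w ∩ support₂ u).card =
      (support₂ w).card + (support₂ u).card := by
  rw [Golay.support₂_add, symmDiff_eq_sup_sdiff_inf, sup_eq_union, inf_eq_inter]
  have h1 := card_sdiff_add_card_eq_card (inter_subset_union (s := support₂ w) (t := support₂ u))
  have h2 := card_union_add_card_inter (support₂ w) (support₂ u)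
  omega

theorem code_selfOrth (h : Frame Λ) {w u : α → ZMod 2} (hw : w ∈ code Λ) (hu : u ∈ code Λ) :
    ∑ i, w i * u i = 0 := by
  have h1 := (h.weight hw).1
  have h2 := (h.weight hu).1
  have h3 := (h.weight ((code Λ).add_mem hw hu)).1
  have h4 := inter_support w u
  have h5 : ∀ i, w i * u i = if i ∈ support₂ w ∩ support₂ u then 1 else 0 := by
    intro i
    simp only [support₂, mem_inter, mem_filter, mem_univ, true_and]
    generalize w i = a; generalize u i = b
    revert a b; decide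
  rw [sum_congr rfl fun i _ => h5 i, sum_boole,
    show (univ.filter fun i => i ∈ support₂ w ∩ support₂ u) = support₂ w ∩ support₂ u by ext; simp,
    ZMod.natCast_eq_zero_iff_even]
  rw [Nat.even_iff]
  omega

theorem code_card (h : Frame Λ) : Nat.card (code Λ) ≤ 4096 := by
  classical
  let C : Submodule (ZMod 2) (α → ZMod 2) := AddSubgroup.toZModSubmodule 2 (code Λ)
  have hmem : ∀ w, w ∈ C ↔ w ∈ code Λ := fun w => Iff.rfl
  let Φ : (α → ZMod 2) →ₗ[ZMod 2] Module.Dual (ZMod 2) C :=
    { toFun := fun x =>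
        { toFun := fun w => ∑ i, x i * (w : α → ZMod 2) i
          map_add' := fun a b => by simp [mul_add, sum_add_distrib]
          map_smul' := fun c a => by simp [mul_sum]; exact sum_congr rfl fun i _ => by ring }
      map_add' := fun a b => by ext w; simp [add_mul, sum_add_distrib]
      map_smul' := fun c a => by ext w; simp [mul_sum]; exact sum_congr rfl fun i _ => by ring }
  have hsurj : Function.Surjective Φ := fun f => by
    obtain ⟨g, hg⟩ := f.exists_extend
    refine ⟨fun i => g (Pi.single i 1), ?_⟩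
    ext w
    show ∑ i, g (Pi.single i 1) * (w : α → ZMod 2) i = f w
    rw [← hg]
    show _ = g (w : α → ZMod 2)
    conv_rhs => rw [← univ_sum_single (w : α → ZMod 2), map_sum]
    refine sum_congr rfl fun i _ => ?_
    rw [mul_comm, ← smul_eq_mul, ← map_smul]
    congr 1
    funext l
    simp [Pi.single_apply]
  have hker : C ≤ LinearMap.ker Φ := fun x hx => by
    rw [LinearMap.mem_ker]
    ext w
    exact h.code_selfOrth ((hmem x).1 hx) ((hmem _).1 w.2)
  have h1 := LinearMap.finrank_range_add_finrank_ker Φ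
  rw [LinearMap.range_eq_top.2 hsurj, finrank_top, Subspace.dual_finrank_eq,
    Module.finrank_fintype_fun_eq_card, h.card] at h1
  have h2 := Submodule.finrank_mono hker
  have h3 : Nat.card (code Λ) = 2 ^ Module.finrank (ZMod 2) C := by
    have := Module.natCard_eq_pow_finrank (K := ZMod 2) (V := C)
    rw [Nat.card_zmod] at this
    exact this
  rw [h3]
  exact le_trans (Nat.pow_le_pow_right (by norm_num) (show _ ≤ 12 by omega)) (by norm_num)

/-- The supports of the weight 8 code words. -/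
noncomputable def blocks (Λ : AddSubgroup (α → ℤ)) : Finset (Finset α) := by
  classical exact (univ.filter fun w => w ∈ code Λ ∧ (support₂ w).card = 8).image support₂

theorem mem_blocks {S : Finset α} :
    S ∈ blocks Λ ↔ ∃ w, w ∈ code Λ ∧ support₂ w = S ∧ S.card = 8 := by
  classical
  simp only [blocks, mem_image, mem_filter, mem_univ, true_and]
  constructor
  · rintro ⟨w, ⟨h1, h2⟩, rfl⟩; exact ⟨w, h1, rfl, h2⟩
  · rintro ⟨w, h1, rfl, h2⟩; exact ⟨w, ⟨h1, h2⟩, rfl⟩

theorem blocks_card_le (h : Frame Λ) {s S T : Finset α} (hs : s.card = 5) (hS : S ∈ blocks Λ)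
    (hT : T ∈ blocks Λ) (hsS : s ⊆ S) (hsT : s ⊆ T) : S = T := by
  obtain ⟨w, hw, rfl, hw8⟩ := mem_blocks.1 hS
  obtain ⟨u, hu, rfl, hu8⟩ := mem_blocks.1 hT
  by_contra hne
  have hwu : w + u ≠ 0 := fun e => hne (by
    have : w = u := by
      funext i; have := congrFun e i
      simp only [Pi.add_apply, Pi.zero_apply] at this
      generalize w i = a at this ⊢; generalize u i = b at this ⊢
      revert a b; decide
    rw [this])
  have h8 := (h.weight ((code Λ).add_mem hw hu)).2 hwu
  have := inter_support w u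
  have := card_le_card (subset_inter hsS hsT)
  omega

theorem blocks_count (h : Frame Λ) : (blocks Λ).card ≤ 759 ∧
    ((blocks Λ).card = 759 → IsSteinerSystem 5 8 (blocks Λ : Set (Finset α))) := by
  classical
  have h8 : ∀ S ∈ blocks Λ, S.card = 8 := fun S hS => by
    obtain ⟨w, -, -, h⟩ := mem_blocks.1 hS; exact h
  let U := (blocks Λ).biUnion fun S => S.powersetCard 5
  have hU : U.card = 56 * (blocks Λ).card := by
    rw [card_biUnion, sum_congr rfl fun S hS => by
      rw [card_powersetCard, h8 S hS, show Nat.choose 8 5 = 56 by decide], sum_const, smul_eq_mul,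
      mul_comm]
    intro S hS T hT hne
    rw [Function.onFun, disjoint_left]
    intro s hs hs'
    rw [mem_powersetCard] at hs hs'
    exact hne (h.blocks_card_le hs.2 hS hT hs.1 hs'.1)
  have hUle : U ⊆ univ.powersetCard 5 := fun s hs => by
    obtain ⟨S, -, hs⟩ := mem_biUnion.1 hs
    exact mem_powersetCard.2 ⟨subset_univ _, (mem_powersetCard.1 hs).2⟩
  have hP : ((univ : Finset α).powersetCard 5).card = 42504 := by
    rw [card_powersetCard, card_univ, h.card]; decide
  have := card_le_card hUle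
  refine ⟨by omega, fun h759 => ⟨fun S hS => h8 S hS, fun s hs => ?_⟩⟩
  have hUeq : U = univ.powersetCard 5 := eq_of_subset_of_card_le hUle (by omega)
  have : s ∈ U := by rw [hUeq]; exact mem_powersetCard.2 ⟨subset_univ _, hs⟩
  obtain ⟨S, hS, hs'⟩ := mem_biUnion.1 this
  exact ⟨S, ⟨hS, (mem_powersetCard.1 hs').1⟩, fun T hT =>
    h.blocks_card_le hs hT.1 hS hT.2 (mem_powersetCard.1 hs').1⟩

theorem eq_zero_or_sq {v : ℤ} : v = 0 ∨ 1 ≤ v ^ 2 := by
  rcases eq_or_ne v 0 with h | h
  · exact Or.inl h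
  · have := sq_pos_of_ne_zero h; exact Or.inr (by omega)

/-- The vectors `(±4, ±4, 0, …)`. -/
theorem card_shapeFour (hα : Fintype.card α = 24) (F : Finset (α → ℤ))
    (hF : ∀ x ∈ F, (∀ i, x i = 0 ∨ x i = 4 ∨ x i = -4) ∧ sqNorm x = 32) : F.card ≤ 1104 := by
  classical
  let supp : (α → ℤ) → Finset α := fun x => univ.filter fun i => x i ≠ 0
  have hs2 : ∀ x ∈ F, (supp x).card = 2 := fun x hx => by
    have h1 := (hF x hx).2
    rw [sqNorm, ← sum_filter_ne_zero] at h1
    have e : (univ.filter fun i => x i ^ 2 ≠ 0) = supp x := filter_congr fun i _ => by simp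
    rw [e, sum_congr rfl fun i hi => by
      rcases (hF x hx).1 i with h | h | h
      · simp [supp, h] at hi
      · show x i ^ 2 = 16; rw [h]; norm_num
      · show x i ^ 2 = 16; rw [h]; norm_num] at h1
    simp only [sum_const, nsmul_eq_mul] at h1
    omega
  have hsub : F.image supp ⊆ univ.powersetCard 2 := fun S hS => by
    obtain ⟨x, hx, rfl⟩ := mem_image.1 hS
    exact mem_powersetCard.2 ⟨subset_univ _, hs2 x hx⟩
  have h276 := card_le_card hsub
  rw [card_powersetCard, card_univ, hα, show Nat.choose 24 2 = 276 by decide] at h276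
  have := card_le_mul_card_image (f := supp) F 4 fun S hS => by
    obtain ⟨x, hx, rfl⟩ := mem_image.1 hS
    obtain ⟨a, b, hab, hS⟩ := card_eq_two.1 (hs2 x hx)
    calc _ ≤ (({4, -4} : Finset ℤ) ×ˢ ({4, -4} : Finset ℤ)).card := by
          refine card_le_card_of_injOn (fun y => (y a, y b)) (fun y hy => ?_) ?_
          · obtain ⟨hyF, hys⟩ := mem_filter.1 hy
            have ha : a ∈ supp y := by rw [hys, hS]; simp
            have hb : b ∈ supp y := by rw [hys, hS]; simp
            simp only [supp, mem_filter, mem_univ, true_and] at ha hb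
            have := (hF y hyF).1 a
            have := (hF y hyF).1 b
            simp only [coe_product, Set.mem_prod, coe_insert, coe_singleton, Set.mem_insert_iff,
              Set.mem_singleton_iff]
            omega
          · intro y hy z hz hyz
            simp only [Prod.mk.injEq] at hyz
            obtain ⟨-, hys⟩ := mem_filter.1 hy
            obtain ⟨-, hzs⟩ := mem_filter.1 hz
            funext i
            by_cases hia : i = a
            · rw [hia]; exact hyz.1
            by_cases hib : i = b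
            · rw [hib]; exact hyz.2
            have h1 : i ∉ supp y := by rw [hys, hS]; simp [hia, hib]
            have h2 : i ∉ supp z := by rw [hzs, hS]; simp [hia, hib]
            simp only [supp, mem_filter, mem_univ, true_and, not_not] at h1 h2
            rw [h1, h2]
      _ = 4 := by decide
  omega

theorem card_shapeTwo (h : Frame Λ) {S : Finset α} (hS : S.card = 8) (F : Finset (α → ℤ))
    (hF : ∀ x ∈ F, x ∈ Λ ∧ (∀ i, i ∈ S → x i = 2 ∨ x i = -2) ∧ ∀ i, i ∉ S → x i = 0) :
    F.card ≤ 128 := by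
  classical
  obtain ⟨p, hp⟩ := card_pos.1 (by omega : 0 < S.card)
  let g : (α → ℤ) → Finset α := fun x => (S.erase p).filter fun i => x i = 2
  have h1 : F.card ≤ ((S.erase p).powerset).card := by
    refine card_le_card_of_injOn g (fun x _ => mem_powerset.2 (filter_subset _ _)) ?_
    intro x hx y hy hxy
    obtain ⟨hxΛ, hxS, hx0⟩ := hF x hx
    obtain ⟨hyΛ, hyS, hy0⟩ := hF y hy
    have hoff : ∀ i, i ≠ p → x i = y i := fun i hi => by
      by_cases hiS : i ∈ S
      · have e := Finset.ext_iff.1 hxy i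
        simp only [g, mem_filter, mem_erase, ne_eq, hi, not_false_eq_true, hiS, true_and] at e
        rcases hxS i hiS with h | h <;> rcases hyS i hiS with h' | h' <;> omega
      · rw [hx0 i hiS, hy0 i hiS]
    funext i
    by_cases hi : i = p
    · subst hi
      by_contra hne
      apply h.ne16 (x - y) (Λ.sub_mem hxΛ hyΛ)
      rw [sqNorm, sum_eq_single i (fun j _ hj => by simp [hoff j hj]) (by simp)]
      have h4 : x i - y i = 4 ∨ x i - y i = -4 := by
        rcases hxS i hp with h | h <;> rcases hyS i hp with h' | h' <;> omega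
      rcases h4 with e | e <;> simp [e]
    · exact hoff i hi
  rw [card_powerset, card_erase_of_mem hp, hS] at h1
  exact h1

theorem eq_sq_nine (v : ℤ) (h : v % 2 = 1) (h2 : v ^ 2 ≤ 32) :
    v = 1 ∨ v = -1 ∨ v = 3 ∨ v = -3 ∨ v = 5 ∨ v = -5 := by
  have : v ≤ 5 := by nlinarith
  have : -5 ≤ v := by nlinarith
  omega

/-- An odd vector of norm 32 has one entry `±3` and all other entries `±1`. -/
theorem shape_odd (hα : Fintype.card α = 24) {x : α → ℤ} (hodd : ∀ i, x i % 2 = 1)
    (hn : sqNorm x = 32) :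
    ∃ p, (x p = 3 ∨ x p = -3) ∧ ∀ i, i ≠ p → (x i = 1 ∨ x i = -1) := by
  have hnn : ∀ i, 0 ≤ x i ^ 2 - 1 := fun i => by
    rcases eq_zero_or_sq (v := x i) with h | h
    · have := hodd i; omega
    · omega
  have hsum : ∑ i, (x i ^ 2 - 1) = 8 := by
    rw [sum_sub_distrib, show (∑ i, x i ^ 2) = 32 from hn, sum_const, card_univ, hα]
    norm_num
  have hcase : ∀ i, x i = 1 ∨ x i = -1 ∨ x i = 3 ∨ x i = -3 := fun i => by
    have h1 : x i ^ 2 - 1 ≤ 8 := hsum ▸ single_le_sum (fun j _ => hnn j) (mem_univ i)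
    rcases eq_sq_nine (x i) (hodd i) (by omega) with h | h | h | h | h | h <;>
      simp [h] at h1 ⊢
  obtain ⟨p, -, hp⟩ := exists_ne_zero_of_sum_ne_zero (by rw [hsum]; norm_num :
    ∑ i, (x i ^ 2 - 1) ≠ 0)
  have hp3 : x p = 3 ∨ x p = -3 := by
    rcases hcase p with h | h | h | h <;> simp [h] at hp ⊢
  refine ⟨p, hp3, fun i hi => ?_⟩
  have h2 : x i ^ 2 - 1 + (x p ^ 2 - 1) ≤ 8 := by
    rw [← hsum, ← sum_pair (f := fun j => x j ^ 2 - 1) hi]
    exact sum_le_sum_of_subset_of_nonneg (subset_univ _) fun j _ _ => hnn j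
  rcases hcase i with h | h | h | h
  · exact Or.inl h
  · exact Or.inr h
  all_goals (rcases hp3 with h' | h' <;> rw [h, h'] at h2 <;> norm_num at h2)

theorem card_shapeOdd (h : Frame Λ) (F : Finset (α → ℤ))
    (hF : ∀ x ∈ F, x ∈ Λ ∧ (∀ i, x i % 2 = 1) ∧ sqNorm x = 32) :
    F.card ≤ 24 * Nat.card (code Λ) := by
  classical
  rcases F.eq_empty_or_nonempty with rfl | ⟨o, ho⟩
  · simp
  haveI : Nonempty α := Fintype.card_pos_iff.1 (by rw [h.card]; norm_num)
  have hp : ∀ x ∈ F, ∃ p, (x p = 3 ∨ x p = -3) ∧ ∀ i, i ≠ p → (x i = 1 ∨ x i = -1) :=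
    fun x hx => shape_odd h.card (hF x hx).2.1 (hF x hx).2.2
  choose! pos hpos using hp
  let half : (α → ℤ) → α → ℤ := fun x i => (x i - o i) / 2
  have hhalf : ∀ x ∈ F, 2 • half x ∈ Λ := fun x hx => by
    convert Λ.sub_mem (hF x hx).1 (hF o ho).1 using 1
    funext i
    have := (hF x hx).2.1 i
    have := (hF o ho).2.1 i
    simp only [half, Pi.smul_apply, Pi.sub_apply, nsmul_eq_mul]
    omega
  have h1 : F.card ≤ (univ ×ˢ (univ.filter fun w => w ∈ code Λ) :
      Finset (α × (α → ZMod 2))).card := by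
    refine card_le_card_of_injOn (fun x => (pos x, red2 (half x))) (fun x hx => ?_) ?_
    · simp only [coe_product, coe_univ, Set.mem_prod, Set.mem_univ, coe_filter, mem_univ, true_and,
        Set.mem_setOf_eq]
      exact mem_code.2 ⟨_, hhalf x hx, rfl⟩
    · intro x hx y hy hxy
      simp only [Prod.mk.injEq] at hxy
      funext i
      have e := congrFun hxy.2 i
      simp only [red2, half, ZMod.intCast_eq_intCast_iff'] at e
      have := (hF x hx).2.1 i
      have := (hF y hy).2.1 i
      have := (hF o ho).2.1 i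
      have hx' := hpos x hx
      have hy' := hpos y hy
      by_cases hi : i = pos x
      · subst hi
        have := hx'.1
        have h2 := hy'.1
        rw [← hxy.1] at h2
        omega
      · have := hx'.2 i hi
        have := hy'.2 i (hxy.1 ▸ hi)
        omega
  rw [card_product, card_univ, h.card] at h1
  rwa [Nat.card_eq_fintype_card, Fintype.card_subtype]

theorem finite32 (h : Frame Λ) : {x : α → ℤ | x ∈ Λ ∧ sqNorm x = 32}.Finite :=
  Set.finite_of_ncard_pos (by rw [h.count]; norm_num)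

/-- The shapes of the even vectors of norm 32. -/
theorem shape_even (h : Frame Λ) {x : α → ℤ} (hx : x ∈ Λ) (hn : sqNorm x = 32)
    (heven : ∀ i, x i % 2 = 0) :
    (∀ i, x i = 0 ∨ x i = 4 ∨ x i = -4) ∨
      ∃ S ∈ blocks Λ, (∀ i, i ∈ S → x i = 2 ∨ x i = -2) ∧ ∀ i, i ∉ S → x i = 0 := by
  classical
  let a : α → ℤ := fun i => x i / 2
  have hxa : x = 2 • a := by
    funext i
    simp only [a, Pi.smul_apply, nsmul_eq_mul]
    have := heven i
    omega
  have hsum : ∑ i, a i ^ 2 = 8 := by
    have h32 := hn; rw [hxa, sqNorm_two] at h32; omega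
  have hw : red2 a ∈ code Λ := mem_code.2 ⟨a, hxa ▸ hx, rfl⟩
  have hb : ∀ i, a i ^ 2 ≤ 8 := fun i => hsum ▸ single_le_sum (fun j _ => sq_nonneg (a j)) (mem_univ i)
  have ha : ∀ i, a i = 0 ∨ a i = 1 ∨ a i = -1 ∨ a i = 2 ∨ a i = -2 := fun i => by
    have := hb i
    have : a i ≤ 2 := by nlinarith
    have : -2 ≤ a i := by nlinarith
    omega
  by_cases h0 : red2 a = 0
  · left
    intro i
    have e := congrFun h0 i
    simp only [red2, Pi.zero_apply, ZMod.intCast_zmod_eq_zero_iff_dvd] at e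
    rw [hxa]
    simp only [Pi.smul_apply, nsmul_eq_mul]
    rcases ha i with h | h | h | h | h <;> omega
  · right
    have h8 := (h.weight hw).2 h0
    have hle : ∀ i, (if red2 a i ≠ 0 then (1 : ℤ) else 0) ≤ a i ^ 2 := fun i => by
      split_ifs with hi
      · rcases eq_zero_or_sq (v := a i) with e | e
        · simp [red2, e] at hi
        · exact e
      · exact sq_nonneg _
    have hcard : ((support₂ (red2 a)).card : ℤ) = ∑ i, if red2 a i ≠ 0 then (1 : ℤ) else 0 := by
      rw [sum_boole]; rfl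
    have hge : ((support₂ (red2 a)).card : ℤ) ≤ 8 := by
      rw [hcard, ← hsum]; exact sum_le_sum fun i _ => hle i
    have hall : ∀ i, (if red2 a i ≠ 0 then (1 : ℤ) else 0) = a i ^ 2 := fun i =>
      (sum_eq_sum_iff_of_le fun j _ => hle j).1 (by rw [← hcard, hsum]; omega) i (mem_univ i)
    refine ⟨support₂ (red2 a), mem_blocks.2 ⟨_, hw, rfl, by omega⟩, fun i hi => ?_, fun i hi => ?_⟩
    all_goals
      simp only [support₂, mem_filter, mem_univ, true_and] at hi
      have e := hall i
      rw [hxa]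
      simp only [Pi.smul_apply, nsmul_eq_mul]
    · rw [if_pos hi] at e
      rcases ha i with h | h | h | h | h <;> simp [h] at e ⊢
    · rw [if_neg hi] at e
      rw [eq_comm, sq_eq_zero_iff] at e
      simp [e]

/-- All the bounds are attained. -/
theorem extremal (h : Frame Λ) : Nat.card (code Λ) = 4096 ∧ (blocks Λ).card = 759 ∧
    ∃ o ∈ Λ, (∀ i, o i % 2 = 1) ∧ sqNorm o = 32 := by
  classical
  let V := h.finite32.toFinset
  have hmem : ∀ {x}, x ∈ V ↔ x ∈ Λ ∧ sqNorm x = 32 := by simp [V]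
  have hV : V.card = 196560 := (Set.ncard_eq_toFinset_card _ h.finite32).symm.trans h.count
  let A := V.filter fun x => ∀ i, x i = 0 ∨ x i = 4 ∨ x i = -4
  let P : Finset α → Finset (α → ℤ) := fun S =>
    V.filter fun x => (∀ i, i ∈ S → x i = 2 ∨ x i = -2) ∧ ∀ i, i ∉ S → x i = 0
  let O := V.filter fun x => ∀ i, x i % 2 = 1
  have hcov : V ⊆ A ∪ (blocks Λ).biUnion P ∪ O := fun x hx => by
    obtain ⟨hxΛ, hn⟩ := hmem.1 hx
    haveI : Nonempty α := Fintype.card_pos_iff.1 (by rw [h.card]; norm_num)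
    let i0 : α := Classical.arbitrary α
    rcases Int.emod_two_eq_zero_or_one (x i0) with hp | hp
    · rcases h.shape_even hxΛ hn (fun i => (h.parity hxΛ i i0).trans hp) with h4 | ⟨S, hS, h2⟩
      · exact mem_union_left _ (mem_union_left _ (mem_filter.2 ⟨hx, h4⟩))
      · exact mem_union_left _ (mem_union_right _ (mem_biUnion.2 ⟨S, hS, mem_filter.2 ⟨hx, h2⟩⟩))
    · exact mem_union_right _ (mem_filter.2 ⟨hx, fun i => (h.parity hxΛ i i0).trans hp⟩)
  have hA : A.card ≤ 1104 := card_shapeFour h.card A fun x hx =>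
    ⟨(mem_filter.1 hx).2, (hmem.1 (mem_filter.1 hx).1).2⟩
  have hP : ((blocks Λ).biUnion P).card ≤ (blocks Λ).card * 128 :=
    card_biUnion_le_card_mul _ _ _ fun S hS => by
      obtain ⟨-, -, -, h8⟩ := mem_blocks.1 hS
      exact h.card_shapeTwo h8 _ fun x hx =>
        ⟨(hmem.1 (mem_filter.1 hx).1).1, (mem_filter.1 hx).2⟩
  have hO : O.card ≤ 24 * Nat.card (code Λ) := h.card_shapeOdd O fun x hx =>
    ⟨(hmem.1 (mem_filter.1 hx).1).1, (mem_filter.1 hx).2, (hmem.1 (mem_filter.1 hx).1).2⟩
  have htot := (card_le_card hcov).trans ((card_union_le _ _).trans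
    (Nat.add_le_add_right (card_union_le _ _) _))
  have hB := h.blocks_count.1
  have hC := h.code_card
  have hne : O.Nonempty := card_pos.1 (by omega)
  obtain ⟨o, ho⟩ := hne
  exact ⟨by omega, by omega, o, (hmem.1 (mem_filter.1 ho).1).1, (mem_filter.1 ho).2,
    (hmem.1 (mem_filter.1 ho).1).2⟩

section transport

variable {β : Type*} [Fintype β] [DecidableEq β]

/-- Relabelling the coordinates and changing some signs. -/
def signed (τ : α ≃ β) (ε : β → ℤ) (hε : ∀ p, ε p * ε p = 1) : (α → ℤ) ≃+ (β → ℤ) where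
  toFun x p := ε p * x (τ.symm p)
  invFun y i := ε (τ i) * y (τ i)
  left_inv x := by funext i; simp [← mul_assoc, hε]
  right_inv y := by funext p; simp [← mul_assoc, hε]
  map_add' x y := by funext p; simp [mul_add]

theorem signed_apply (τ : α ≃ β) (ε : β → ℤ) (hε : ∀ p, ε p * ε p = 1) (x : α → ℤ) (p : β) :
    signed τ ε hε x p = ε p * x (τ.symm p) := rfl

theorem signed_dot (τ : α ≃ β) (ε : β → ℤ) (hε : ∀ p, ε p * ε p = 1) (x y : α → ℤ) :
    dotInt (signed τ ε hε x) (signed τ ε hε y) = dotInt x y := by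
  simp only [dotInt, signed_apply]
  rw [← τ.symm.sum_comp (fun i => x i * y i)]
  refine sum_congr rfl fun p _ => ?_
  linear_combination x (τ.symm p) * y (τ.symm p) * hε p

theorem signed_sqNorm (τ : α ≃ β) (ε : β → ℤ) (hε : ∀ p, ε p * ε p = 1) (x : α → ℤ) :
    sqNorm (signed τ ε hε x) = sqNorm x := by
  have := signed_dot τ ε hε x x
  simpa [sqNorm, dotInt, sq] using this

theorem map (h : Frame Λ) (τ : α ≃ β) (ε : β → ℤ) (hε : ∀ p, ε p * ε p = 1) :
    Frame (Λ.map (signed τ ε hε).toAddMonoidHom) where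
  card := (Fintype.card_congr τ).symm.trans h.card
  dvd := by
    rintro _ ⟨x, hx, rfl⟩ _ ⟨y, hy, rfl⟩
    simp only [AddEquiv.coe_toAddMonoidHom, signed_dot]
    exact h.dvd x hx y hy
  norm := by
    rintro _ ⟨x, hx, rfl⟩
    simp only [AddEquiv.coe_toAddMonoidHom, signed_sqNorm]
    exact h.norm x hx
  ne16 := by
    rintro _ ⟨x, hx, rfl⟩
    simp only [AddEquiv.coe_toAddMonoidHom, signed_sqNorm]
    exact h.ne16 x hx
  pair := fun p q => by
    refine ⟨Pi.single (τ.symm p) (4 * ε p) + Pi.single (τ.symm q) (4 * ε q), ?_, ?_⟩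
    · have hs : ∀ r, ε r = 1 ∨ ε r = -1 := fun r => by
        rcases Int.mul_eq_one_iff_eq_one_or_neg_one.1 (hε r) with ⟨h, -⟩ | ⟨h, -⟩
        · exact Or.inl h
        · exact Or.inr h
      obtain ⟨k, hk⟩ : (2 : ℤ) ∣ ε q - ε p := by
        rcases hs p with e | e <;> rcases hs q with e' | e' <;> rw [e, e'] <;> norm_num
      have h1 := Λ.add_mem (Λ.zsmul_mem (h.pair (τ.symm p) (τ.symm q)) (ε p))
        (h.eight (τ.symm q) k)
      rw [SetLike.mem_coe]
      convert h1 using 1
      funext l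
      simp only [Pi.add_apply, Pi.smul_apply, Pi.single_apply, smul_eq_mul]
      split_ifs <;> linarith
    · funext r
      simp only [AddEquiv.coe_toAddMonoidHom, signed_apply, Pi.add_apply, Pi.single_apply,
        Equiv.apply_eq_iff_eq]
      split_ifs <;> subst_vars <;>
        first
        | ring1
        | linear_combination (4 : ℤ) * hε r
        | linear_combination (-4 : ℤ) * hε r
        | linear_combination (8 : ℤ) * hε r
        | linear_combination (-8 : ℤ) * hε r
  count := by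
    rw [← h.count, ← Set.ncard_image_of_injective _ (signed τ ε hε).injective]
    congr 1
    ext y
    simp only [Set.mem_setOf_eq, AddSubgroup.mem_map, AddEquiv.coe_toAddMonoidHom, Set.mem_image]
    constructor
    · rintro ⟨⟨x, hx, rfl⟩, hn⟩
      exact ⟨x, ⟨hx, by rwa [signed_sqNorm] at hn⟩, rfl⟩
    · rintro ⟨x, ⟨hx, hn⟩, rfl⟩
      exact ⟨⟨x, hx, rfl⟩, by rwa [signed_sqNorm]⟩

theorem code_map (τ : α ≃ β) (ε : β → ℤ) (hε : ∀ p, ε p * ε p = 1) (w : β → ZMod 2) :
    w ∈ code (Λ.map (signed τ ε hε).toAddMonoidHom) ↔ w ∘ τ ∈ code Λ := by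
  have hε2 : ∀ p, ((ε p : ℤ) : ZMod 2) = 1 := fun p => by
    rcases Int.mul_eq_one_iff_eq_one_or_neg_one.1 (hε p) with ⟨h, -⟩ | ⟨h, -⟩ <;> rw [h]
    · simp
    · decide
  simp only [mem_code, AddSubgroup.mem_map, AddEquiv.coe_toAddMonoidHom]
  constructor
  · rintro ⟨b, ⟨x, hx, hxb⟩, rfl⟩
    refine ⟨(signed τ ε hε).symm b, ?_, ?_⟩
    · rw [← map_nsmul, ← hxb, AddEquiv.symm_apply_apply]; exact hx
    · funext i
      show ((ε (τ i) * b (τ i) : ℤ) : ZMod 2) = ((b (τ i) : ℤ) : ZMod 2)
      rw [Int.cast_mul, hε2, one_mul]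
  · rintro ⟨a, ha, haw⟩
    refine ⟨signed τ ε hε a, ⟨2 • a, ha, map_nsmul _ _ _⟩, ?_⟩
    funext p
    have e := congrFun haw (τ.symm p)
    simp only [red2, Function.comp_apply, Equiv.apply_symm_apply] at e
    show ((ε p * a (τ.symm p) : ℤ) : ZMod 2) = w p
    rw [Int.cast_mul, hε2, one_mul, e]

theorem code_map_eq (τ : α ≃ β) (ε : β → ℤ) (hε : ∀ p, ε p * ε p = 1) {C : Set (β → ZMod 2)}
    (hC : ∀ w, w ∘ τ ∈ code Λ ↔ w ∈ C) (w : β → ZMod 2) :
    w ∈ code (Λ.map (signed τ ε hε).toAddMonoidHom) ↔ w ∈ C :=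
  (code_map τ ε hε w).trans (hC w)

end transport

theorem code_eq_golay {Λ : AddSubgroup (GolayPt → ℤ)} (h : Frame Λ)
    (hb : (blocks Λ : Set (Finset GolayPt)) = octads) (w : GolayPt → ZMod 2) :
    w ∈ code Λ ↔ w ∈ golayCode := by
  have hbasis : ∀ b ∈ Golay.basisList, Golay.maskWord b ∈ code Λ := fun b hb' => by
    have h8 : Golay.popCnt b = 8 := (by decide +kernel : ∀ b ∈ Golay.basisList, Golay.popCnt b = 8) b hb'
    have hmem : Golay.ptSet b ∈ (blocks Λ : Set (Finset GolayPt)) := by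
      rw [hb]
      refine ⟨⟨Golay.maskWord b, ?_, Golay.support₂_maskWord b⟩, by rw [Golay.card_ptSet, h8]⟩
      rw [SetLike.mem_coe, Golay.mem_golayCode_iff, Golay.wordMask_maskWord (Golay.basisList_lt b hb')]
      exact Golay.mem_spanList_of_mem _ (List.mem_reverse.2 hb')
    obtain ⟨u, hu, hus, -⟩ := mem_blocks.1 hmem
    rw [← Golay.support₂_maskWord b] at hus
    rwa [← Golay.support₂_injective hus]
  have hsub : ∀ u ∈ golayCode, u ∈ code Λ := by
    intro u hu
    rw [Golay.mem_golayCode_iff] at hu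
    have key : ∀ m ∈ Golay.codeList, m < 2 ^ 24 ∧ Golay.maskWord m ∈ code Λ := by
      refine Golay.spanList_induction (P := fun m => m < 2 ^ 24 ∧ Golay.maskWord m ∈ code Λ) _
        ⟨by norm_num, ?_⟩ (fun b hb' => ?_) ?_
      · convert (code Λ).zero_mem using 1
        funext p; simp [Golay.maskWord]
      · rw [List.mem_reverse] at hb'
        exact ⟨Golay.basisList_lt b hb', hbasis b hb'⟩
      · rintro x y ⟨hx, hx'⟩ ⟨hy, hy'⟩
        refine ⟨Nat.xor_lt_two_pow hx hy, ?_⟩
        convert (code Λ).add_mem hx' hy' using 1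
        funext p
        simp only [Golay.maskWord, Nat.testBit_xor, Pi.add_apply]
        have h11 : (0 : ZMod 2) = 1 + 1 := rfl
        cases x.testBit (Golay.idx p) <;> cases y.testBit (Golay.idx p) <;> simp <;> exact h11
    have := (key _ hu).2
    rwa [Golay.maskWord_wordMask] at this
  have hfin : (code Λ : Set (GolayPt → ZMod 2)).Finite := Set.toFinite _
  have heq : (golayCode : Set (GolayPt → ZMod 2)) = (code Λ : Set (GolayPt → ZMod 2)) := by
    refine Set.eq_of_subset_of_ncard_le hsub ?_ hfin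
    rw [← Nat.card_coe_set_eq, ← Nat.card_coe_set_eq]
    exact le_of_eq (h.extremal.1.trans Golay.card_golayCode.symm)
  exact (Set.ext_iff.1 heq w).symm

theorem le_leech {Λ : AddSubgroup (GolayPt → ℤ)} (h : Frame Λ)
    (hc : ∀ w, w ∈ code Λ ↔ w ∈ golayCode) {o : GolayPt → ℤ} (ho : o ∈ Λ)
    (hn : sqNorm o = 32) (ho4 : ∀ i, o i % 4 = 1) : Λ ≤ leechLattice := by
  have hodd : ∀ i, o i % 2 = 1 := fun i => by have := ho4 i; omega
  obtain ⟨p, hp, hi⟩ := shape_odd h.card hodd hn
  have hv : ∀ i, o i = 1 ∨ o i = -3 := fun i => by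
    have := ho4 i
    by_cases e : i = p
    · subst e; omega
    · have := hi i e; omega
  have hoL : o ∈ leechLattice := by
    refine Golay.mem_leech_iff.2 ⟨1, fun i => (hodd i).trans (by norm_num), ?_, ?_⟩
    · have h1 : ∀ i, o i ^ 2 = 3 - 2 * o i := fun i => by
        rcases hv i with e | e <;> rw [e] <;> norm_num
      rw [sqNorm, sum_congr rfl fun i _ => h1 i, sum_sub_distrib, sum_const, card_univ, h.card,
        ← mul_sum] at hn
      simp only [nsmul_eq_mul] at hn
      omega
    · have : Golay.digitWord o = 0 := by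
        funext i
        simp only [Golay.digitWord, Pi.zero_apply, ZMod.intCast_zmod_eq_zero_iff_dvd]
        rcases hv i with e | e <;> rw [e] <;> norm_num
      rw [this]; exact Submodule.zero_mem _
  intro x hx
  suffices ∀ y ∈ Λ, (∀ i, y i % 2 = 0) → y ∈ leechLattice by
    rcases Int.emod_two_eq_zero_or_one (x none) with he | he
    · exact this x hx fun i => (h.parity hx i none).trans he
    · have h1 := this (x - o) (Λ.sub_mem hx ho) fun i => by
        have := (h.parity hx i none).trans he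
        have := hodd i
        simp only [Pi.sub_apply]; omega
      simpa using add_mem h1 hoL
  intro y hy heven
  let a : GolayPt → ℤ := fun i => y i / 2
  have hya : y = 2 • a := by
    funext i
    simp only [a, Pi.smul_apply, nsmul_eq_mul]
    have := heven i
    omega
  rw [hya] at hy ⊢
  refine Golay.mem_leech_two_smul.2 ⟨(hc _).1 (mem_code.2 ⟨a, hy, rfl⟩), ?_⟩
  have hd := h.dvd _ hy _ ho
  have e1 : dotInt (2 • a) o = 2 * ∑ i, a i * o i := by
    rw [dotInt, mul_sum]
    exact sum_congr rfl fun i _ => by simp [mul_assoc]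
  rw [e1] at hd
  have e2 : (∑ i, a i * o i) % 4 = (∑ i, a i) % 4 := by
    rw [sum_int_mod, sum_int_mod _ 4 a]
    congr 1
    exact sum_congr rfl fun i _ => by rw [Int.mul_emod, ho4 i, mul_one, Int.emod_emod]
  omega

theorem eq_leech {Λ : AddSubgroup (GolayPt → ℤ)} (h : Frame Λ)
    (hc : ∀ w, w ∈ code Λ ↔ w ∈ golayCode) {o : GolayPt → ℤ} (ho : o ∈ Λ)
    (hn : sqNorm o = 32) (ho4 : ∀ i, o i % 4 = 1) : Λ = leechLattice := by
  refine le_antisymm (h.le_leech hc ho hn ho4) ?_
  rw [← Golay.closure_minVecs, AddSubgroup.closure_le]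
  have hfin : Golay.minVecs.Finite :=
    (Set.finite_of_ncard_pos (by rw [Golay.ncard_norm32]; norm_num) :
      {x : GolayPt → ℤ | x ∈ leechLattice ∧ sqNorm x = 32}.Finite)
  have heq : {x : GolayPt → ℤ | x ∈ Λ ∧ sqNorm x = 32} = Golay.minVecs :=
    Set.eq_of_subset_of_ncard_le (fun x hx => ⟨h.le_leech hc ho hn ho4 hx.1, hx.2⟩)
      (by rw [h.count]; exact le_of_eq Golay.ncard_norm32) hfin
  intro x hx
  rw [← heq] at hx
  exact hx.1

/-- The main theorem on frames. -/
theorem exists_equiv (h : Frame Λ) : ∃ T : (α → ℤ) ≃+ (GolayPt → ℤ),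
    (∀ x, sqNorm (T x) = sqNorm x) ∧ Λ.map T.toAddMonoidHom = leechLattice := by
  classical
  obtain ⟨hC, hB, o, ho, hodd, hn⟩ := h.extremal
  obtain ⟨e, heX, he⟩ := exists_embed24 h.card (h.blocks_count.2 hB)
  have hsurj : Function.Surjective e := fun p => by
    have : p ∈ univ.map e := heX ▸ mem_univ p
    obtain ⟨i, -, hi⟩ := mem_map.1 this
    exact ⟨i, hi⟩
  let τ : α ≃ GolayPt := Equiv.ofBijective e ⟨e.injective, hsurj⟩
  let ε : GolayPt → ℤ := fun p => if o (τ.symm p) % 4 = 1 then 1 else -1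
  have hε : ∀ p, ε p * ε p = 1 := fun p => by simp only [ε]; split_ifs <;> norm_num
  have hM := h.map τ ε hε
  have hb : (blocks (Λ.map (signed τ ε hε).toAddMonoidHom) : Set (Finset GolayPt)) = octads := by
    have hsupp : ∀ w : GolayPt → ZMod 2, (support₂ (w ∘ τ)).map e = support₂ w := fun w => by
      ext p
      obtain ⟨i, rfl⟩ := hsurj p
      simp only [mem_map', support₂, mem_filter, mem_univ, true_and, Function.comp_apply]
      rfl
    rw [← he]
    ext S
    simp only [mem_coe, mapSys, Set.mem_setOf_eq, Set.mem_image]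
    constructor
    · intro hS
      obtain ⟨w, hw, rfl, h8⟩ := mem_blocks.1 hS
      refine ⟨support₂ (w ∘ τ), mem_blocks.2 ⟨_, (code_map τ ε hε w).1 hw, rfl, ?_⟩, hsupp w⟩
      rw [← card_map e, hsupp, h8]
    · rintro ⟨T, hT, rfl⟩
      obtain ⟨w, hw, rfl, h8⟩ := mem_blocks.1 hT
      have e1 : (w ∘ τ.symm) ∘ τ = w := by funext i; simp
      have h1 : (w ∘ τ.symm) ∈ code (Λ.map (signed τ ε hε).toAddMonoidHom) :=
        (code_map τ ε hε (w ∘ τ.symm)).2 (e1.symm ▸ hw)
      rw [mem_blocks]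
      refine ⟨w ∘ τ.symm, h1, ?_, ?_⟩
      swap
      · rw [card_map]; exact h8
      exact (hsupp (w ∘ τ.symm)).symm.trans (by rw [e1])
  refine ⟨signed τ ε hε, signed_sqNorm τ ε hε, hM.eq_leech (hM.code_eq_golay hb)
    (o := signed τ ε hε o) ⟨o, ho, rfl⟩ (by rw [signed_sqNorm]; exact hn) fun p => ?_⟩
  have := hodd (τ.symm p)
  simp only [signed_apply, ε]
  split_ifs <;> omega

end Frame

end Cfsg.Agent.H29
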