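import Cfsg.Agent.H44.EvenLattice
import Cfsg.Agent.H29.LeechFrame

/-!
An even rootless lattice of rank 24 with the numbers of vectors of norms 4, 6, 8 of the Leech
lattice has a class modulo 2 with 48 vectors of norm 8; the coordinates with respect to such a
frame identify it with the Leech lattice.
-/

set_option autoImplicit false
open Matrix

namespace Cfsg.Agent.H29

open Cfsg Finset H44

variable {n : ℕ} {B : Matrix (Fin n) (Fin n) ℤ}

/-- Pairwise orthogonal non-zero vectors are at most `n` in number. -/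
theorem orth_le (hpos : ∀ x : Fin n → ℤ, x ≠ 0 → 0 < x ⬝ᵥ (B *ᵥ x)) {ι : Type*} [Fintype ι]
    (w : ι → Fin n → ℤ) (hne : ∀ i, w i ≠ 0)
    (horth : ∀ i j, i ≠ j → w i ⬝ᵥ (B *ᵥ w j) = 0) : Fintype.card ι ≤ n := by
  classical
  have hli : LinearIndependent ℤ w := by
    rw [Fintype.linearIndependent_iff]
    intro g hg j
    have h1 : (∑ i, g i • w i) ⬝ᵥ (B *ᵥ w j) = 0 := by rw [hg]; simp
    rw [sum_dotProduct, sum_eq_single j] at h1
    · rw [smul_dotProduct, smul_eq_mul] at h1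
      exact (mul_eq_zero.1 h1).resolve_right (hpos _ (hne j)).ne'
    · intro i _ hi
      rw [smul_dotProduct, horth i j hi, smul_zero]
    · simp
  have := hli.fintype_card_le_finrank
  rwa [Module.finrank_fintype_fun_eq_card, Fintype.card_fin] at this

/-- A frame: 24 orthogonal vectors of norm 8, pairwise congruent modulo 2. -/
theorem exists_cross (hsymm : B.IsSymm) (hpos : ∀ x : Fin n → ℤ, x ≠ 0 → 0 < x ⬝ᵥ (B *ᵥ x))
    (heven : ∀ x : Fin n → ℤ, (2 : ℤ) ∣ x ⬝ᵥ (B *ᵥ x)) (h2 : ∀ x : Fin n → ℤ, x ⬝ᵥ (B *ᵥ x) ≠ 2)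
    (hn : n = 24)
    (h4 : {x : Fin n → ℤ | x ⬝ᵥ (B *ᵥ x) = 4}.ncard = 196560)
    (h6 : {x : Fin n → ℤ | x ⬝ᵥ (B *ᵥ x) = 6}.ncard = 16773120)
    (h8 : {x : Fin n → ℤ | x ⬝ᵥ (B *ᵥ x) = 8}.ncard = 398034000) :
    ∃ v : Fin 24 → Fin n → ℤ, (∀ i, v i ⬝ᵥ (B *ᵥ v i) = 8) ∧
      (∀ i j, i ≠ j → v i ⬝ᵥ (B *ᵥ v j) = 0) ∧ ∀ i j l, (2 : ℤ) ∣ (v i - v j) l := by
  classical
  let cl : (Fin n → ℤ) → (Fin n → ZMod 2) := fun x l => ((x l : ℤ) : ZMod 2)
  have hcl : ∀ x y, cl x = cl y → ∀ l, (2 : ℤ) ∣ (x - y) l := fun x y h l => by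
    have e := congrFun h l
    simp only [cl, ZMod.intCast_eq_intCast_iff_dvd_sub] at e
    simp only [Pi.sub_apply]
    omega
  have key : ∀ x y, cl x = cl y → x ⬝ᵥ (B *ᵥ x) + y ⬝ᵥ (B *ᵥ y) ≤ 16 →
      y = x ∨ y = -x ∨ (x ⬝ᵥ (B *ᵥ x) + y ⬝ᵥ (B *ᵥ y) = 16 ∧ x ⬝ᵥ (B *ᵥ y) = 0) := fun x y h hs =>
    congr_two_short hsymm hpos heven h2 x y (hcl x y h) hs
  have hfin : ∀ (N : ℤ) (k : ℕ), k ≠ 0 → {x : Fin n → ℤ | x ⬝ᵥ (B *ᵥ x) = N}.ncard = k →
      ∃ F : Finset (Fin n → ℤ), F.card = k ∧ ∀ x, x ∈ F ↔ x ⬝ᵥ (B *ᵥ x) = N := fun N k hk h => by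
    have hf : {x : Fin n → ℤ | x ⬝ᵥ (B *ᵥ x) = N}.Finite :=
      Set.finite_of_ncard_pos (by rw [h]; omega)
    exact ⟨hf.toFinset, (Set.ncard_eq_toFinset_card _ hf).symm.trans h, fun x => by simp⟩
  obtain ⟨F4, c4, m4⟩ := hfin 4 _ (by norm_num) h4
  obtain ⟨F6, c6, m6⟩ := hfin 6 _ (by norm_num) h6
  obtain ⟨F8, c8, m8⟩ := hfin 8 _ (by norm_num) h8
  have hneg : ∀ x : Fin n → ℤ, (-x) ⬝ᵥ (B *ᵥ (-x)) = x ⬝ᵥ (B *ᵥ x) := fun x => by simp [mulVec_neg]
  have small : ∀ (N : ℤ) (F : Finset (Fin n → ℤ)), N ≤ 6 → (∀ x, x ∈ F ↔ x ⬝ᵥ (B *ᵥ x) = N) →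
      F.card ≤ 2 * (F.image cl).card := fun N F hN hm => by
    refine card_le_mul_card_image F 2 fun c hc => ?_
    obtain ⟨x, hx, rfl⟩ := mem_image.1 hc
    refine le_trans (card_le_card (t := {x, -x}) fun y hy => ?_) card_le_two
    obtain ⟨hy, hyc⟩ := mem_filter.1 hy
    rw [hm] at hx hy
    rcases key x y hyc.symm (by omega) with h | h | ⟨h, -⟩
    · simp [h]
    · simp [h]
    · omega
  have disj : ∀ (N M : ℤ) (F G : Finset (Fin n → ℤ)), N ≠ M → N + M < 16 →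
      (∀ x, x ∈ F → x ⬝ᵥ (B *ᵥ x) = N) → (∀ x, x ∈ G → x ⬝ᵥ (B *ᵥ x) = M) →
      Disjoint (F.image cl) (G.image cl) := fun N M F G hne hlt hF hG => by
    rw [disjoint_left]
    intro c hc hc'
    obtain ⟨x, hx, rfl⟩ := mem_image.1 hc
    obtain ⟨y, hy, hyc⟩ := mem_image.1 hc'
    have h1 := hF x hx
    have h2 := hG y hy
    rcases key x y hyc.symm (by omega) with h | h | ⟨h, -⟩
    · subst h; omega
    · subst h; rw [hneg] at h2; omega
    · omega
  have m0 : ∀ x, x ∈ ({0} : Finset (Fin n → ℤ)) → x ⬝ᵥ (B *ᵥ x) = 0 := fun x hx => by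
    rw [mem_singleton.1 hx]; simp
  have s4 := small 4 F4 (by norm_num) m4
  have s6 := small 6 F6 le_rfl m6
  have hsum : 1 + (F4.image cl).card + (F6.image cl).card + (F8.image cl).card ≤ 2 ^ 24 := by
    have d04 := disj 0 4 _ F4 (by norm_num) (by norm_num) m0 fun x hx => (m4 x).1 hx
    have d06 := disj 0 6 _ F6 (by norm_num) (by norm_num) m0 fun x hx => (m6 x).1 hx
    have d08 := disj 0 8 _ F8 (by norm_num) (by norm_num) m0 fun x hx => (m8 x).1 hx
    have d46 := disj 4 6 F4 F6 (by norm_num) (by norm_num) (fun x hx => (m4 x).1 hx)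
      fun x hx => (m6 x).1 hx
    have d48 := disj 4 8 F4 F8 (by norm_num) (by norm_num) (fun x hx => (m4 x).1 hx)
      fun x hx => (m8 x).1 hx
    have d68 := disj 6 8 F6 F8 (by norm_num) (by norm_num) (fun x hx => (m6 x).1 hx)
      fun x hx => (m8 x).1 hx
    have h1 := card_le_univ
      ((({0} : Finset (Fin n → ℤ)).image cl ∪ F4.image cl ∪ F6.image cl) ∪ F8.image cl)
    rw [card_union_of_disjoint (by simp only [disjoint_union_left]; exact ⟨⟨d08, d48⟩, d68⟩),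
      card_union_of_disjoint (by simp only [disjoint_union_left]; exact ⟨d06, d46⟩),
      card_union_of_disjoint d04, Fintype.card_fun, ZMod.card, Fintype.card_fin, image_singleton,
      card_singleton] at h1
    exact h1.trans (le_of_eq (by rw [hn]))
  obtain ⟨c, hc⟩ : ∃ c, 48 ≤ (F8.filter fun x => cl x = c).card := by
    by_contra hcon
    simp only [not_exists, not_le] at hcon
    have s8 := card_le_mul_card_image (f := cl) F8 47 fun c _ => Nat.le_of_lt_succ (hcon c)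
    rw [c4] at s4; rw [c6] at s6; rw [c8] at s8
    norm_num at hsum
    omega
  let F := F8.filter fun x => cl x = c
  let pr : (Fin n → ℤ) → Finset (Fin n → ℤ) := fun x => {x, -x}
  have h24 : 24 ≤ (F.image pr).card := by
    have h1 := card_le_mul_card_image (f := pr) F 2 fun S hS => by
      obtain ⟨x, hx, rfl⟩ := mem_image.1 hS
      refine le_trans (card_le_card (t := pr x) fun y hy => ?_) card_le_two
      obtain ⟨-, h⟩ := mem_filter.1 hy
      rw [← h]
      simp [pr]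
    have hF : 48 ≤ F.card := hc
    omega
  obtain ⟨T, hT, hTc⟩ := exists_subset_card_eq h24
  have hex : ∀ S : {S // S ∈ T}, ∃ x ∈ F, pr x = S.1 := fun S => mem_image.1 (hT S.2)
  choose r hrF hr using hex
  let e : Fin 24 ≃ {S // S ∈ T} := Fintype.equivOfCardEq (by simp [hTc])
  refine ⟨fun i => r (e i), fun i => (m8 _).1 (mem_filter.1 (hrF _)).1, fun i j hij => ?_,
    fun i j => hcl _ _ ((mem_filter.1 (hrF _)).2.trans (mem_filter.1 (hrF _)).2.symm)⟩
  have hi := mem_filter.1 (hrF (e i))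
  have hj := mem_filter.1 (hrF (e j))
  have hne : pr (r (e i)) ≠ pr (r (e j)) := fun h => hij (e.injective (Subtype.ext (by
    rw [← hr (e i), ← hr (e j)]; exact h)))
  rcases key _ _ (hi.2.trans hj.2.symm) (by rw [(m8 _).1 hi.1, (m8 _).1 hj.1]; norm_num) with
    h | h | ⟨-, h⟩
  · exact absurd (by simp [h]) hne
  · exact absurd (by simp [pr, h, Finset.pair_comm]) hne
  · exact h

/-- Coordinates with respect to the vectors `v`. -/
def coords (B : Matrix (Fin n) (Fin n) ℤ) (v : Fin 24 → Fin n → ℤ) :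
    (Fin n → ℤ) →+ (Fin 24 → ℤ) where
  toFun x i := x ⬝ᵥ (B *ᵥ v i)
  map_zero' := by funext i; simp
  map_add' x y := by funext i; simp [add_dotProduct]

theorem leech_unique {B : Matrix (Fin 24) (Fin 24) ℤ} (hsymm : B.IsSymm)
    (hpos : ∀ x : Fin 24 → ℤ, x ≠ 0 → 0 < x ⬝ᵥ (B *ᵥ x))
    (heven : ∀ x : Fin 24 → ℤ, (2 : ℤ) ∣ x ⬝ᵥ (B *ᵥ x))
    (h2 : ∀ x : Fin 24 → ℤ, x ⬝ᵥ (B *ᵥ x) ≠ 2)
    (h4 : {x : Fin 24 → ℤ | x ⬝ᵥ (B *ᵥ x) = 4}.ncard = 196560)
    (h6 : {x : Fin 24 → ℤ | x ⬝ᵥ (B *ᵥ x) = 6}.ncard = 16773120)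
    (h8 : {x : Fin 24 → ℤ | x ⬝ᵥ (B *ᵥ x) = 8}.ncard = 398034000) :
    ∃ f : (Fin 24 → ℤ) ≃+ leechLattice, ∀ x : Fin 24 → ℤ,
      sqNorm ((f x : leechLattice) : GolayPt → ℤ) = 8 * (x ⬝ᵥ (B *ᵥ x)) := by
  obtain ⟨v, hv8, hvo, hvc⟩ := exists_cross hsymm hpos heven h2 rfl h4 h6 h8
  have hφ : ∀ x i, coords B v x i = x ⬝ᵥ (B *ᵥ v i) := fun x i => rfl
  have hne : ∀ i, v i ≠ 0 := fun i h => by have := hv8 i; rw [h] at this; simp at this
  -- eight times a vector is the combination of `v` given by its coordinates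
  have hrec : ∀ x, (8 : ℤ) • x = ∑ i, coords B v x i • v i := by
    intro x
    by_contra hcon
    set y := (8 : ℤ) • x - ∑ i, coords B v x i • v i with hy
    have hy0 : y ≠ 0 := sub_ne_zero.2 hcon
    have hyv : ∀ j, y ⬝ᵥ (B *ᵥ v j) = 0 := fun j => by
      rw [hy, sub_dotProduct, smul_dotProduct, sum_dotProduct, sum_eq_single j]
      · rw [smul_dotProduct, hv8, hφ, smul_eq_mul, smul_eq_mul]; ring
      · intro i _ hi; rw [smul_dotProduct, hvo i j hi, smul_zero]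
      · simp
    have := orth_le hpos (ι := Option (Fin 24)) (fun o => o.elim y v)
      (fun o => by cases o <;> simp [hy0, hne]) (fun i j hij => by
        cases i <;> cases j
        · simp at hij
        · simp [hyv]
        · simp [form_symm hsymm (v _) y, hyv]
        · simp at hij; simp [hvo _ _ hij])
    simp at this
  have hdot : ∀ x y, dotInt (coords B v x) (coords B v y) = 8 * (x ⬝ᵥ (B *ᵥ y)) := by
    intro x y
    have h1 : x ⬝ᵥ (B *ᵥ ((8 : ℤ) • y)) = ∑ i, coords B v x i * coords B v y i := by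
      rw [hrec y, mulVec_sum, dotProduct_sum]
      refine sum_congr rfl fun i _ => ?_
      rw [mulVec_smul, dotProduct_smul, smul_eq_mul, hφ x i, mul_comm]
    rw [dotInt, ← h1, mulVec_smul, dotProduct_smul, smul_eq_mul]
  have hsq : ∀ x, sqNorm (coords B v x) = 8 * (x ⬝ᵥ (B *ᵥ x)) := fun x => by
    rw [← hdot]; simp [sqNorm, dotInt, sq]
  have hinj : Function.Injective (coords B v) := by
    rw [injective_iff_map_eq_zero]
    intro x hx
    have h1 := hrec x
    rw [hx] at h1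
    simp only [Pi.zero_apply, zero_smul, sum_const_zero] at h1
    exact (smul_eq_zero.1 h1).resolve_left (by norm_num)
  have hframe : Frame (coords B v).range := by
    refine ⟨Fintype.card_fin 24, ?_, ?_, ?_, ?_, ?_⟩
    · rintro _ ⟨x, rfl⟩ _ ⟨y, rfl⟩; rw [hdot]; exact dvd_mul_right _ _
    · rintro _ ⟨x, rfl⟩; rw [hsq]; have := heven x; omega
    · rintro _ ⟨x, rfl⟩; rw [hsq]; have := h2 x; omega
    · intro i j
      have hd : ∀ l, (2 : ℤ) ∣ (v i + v j) l := fun l => by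
        have := hvc i j l; simp only [Pi.sub_apply, Pi.add_apply] at this ⊢; omega
      choose a ha using hd
      refine ⟨a, ?_⟩
      funext k
      have h1 : coords B v (v i + v j) k = 2 * coords B v a k := by
        rw [show v i + v j = (2 : ℤ) • a from funext fun l => by simp [← ha l], map_zsmul]
        simp
      have hvk : ∀ i, coords B v (v i) k = if k = i then 8 else 0 := fun i => by
        rw [hφ]; split_ifs with h
        · subst h; exact hv8 _
        · exact hvo i k (Ne.symm h)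
      rw [map_add, Pi.add_apply, hvk, hvk] at h1
      simp only [Pi.add_apply, Pi.single_apply]
      split_ifs at h1 ⊢ <;> omega
    · rw [← h4, ← Set.ncard_image_of_injective {x : Fin 24 → ℤ | x ⬝ᵥ (B *ᵥ x) = 4} hinj]
      congr 1
      ext z
      simp only [Set.mem_setOf_eq, AddMonoidHom.mem_range, Set.mem_image]
      constructor
      · rintro ⟨⟨x, rfl⟩, h⟩; exact ⟨x, by rw [hsq] at h; omega, rfl⟩
      · rintro ⟨x, hx, rfl⟩; exact ⟨⟨x, rfl⟩, by rw [hsq, hx]; norm_num⟩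
  obtain ⟨T, hT, hmap⟩ := hframe.exists_equiv
  let ψ : (Fin 24 → ℤ) →+ (GolayPt → ℤ) := T.toAddMonoidHom.comp (coords B v)
  have hrange : ψ.range = leechLattice := by rw [← hmap, AddMonoidHom.map_range]
  have hψ : Function.Injective ψ := T.injective.comp hinj
  refine ⟨(AddMonoidHom.ofInjective hψ).trans (AddEquiv.addSubgroupCongr hrange), fun x => ?_⟩
  show sqNorm (T (coords B v x)) = _
  rw [hT, hsq]

end Cfsg.Agent.H29
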