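import Mathlib
import Cfsg.Agent.S0708

/-!
Degrees of sharply multiply transitive groups (Jordan): the degree bound of S0708 for sharply
4-transitive groups, an element of prime order for the degrees 7 and 9, the Sylow 13-subgroups
for a sharply 6-transitive group of degree 13, and induction over point stabilisers.
-/

set_option autoImplicit false

namespace Cfsg.Agent.H29

open MulAction

universe u v

variable {G : Type u} [Group G] {Ω : Type v} [MulAction G Ω]

/-- A sharply `k`-transitive action. -/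
structure SharpAct (G : Type u) [Group G] (Ω : Type v) [MulAction G Ω] (k : ℕ) : Prop where
  pre : IsMultiplyPretransitive G Ω k
  sharp : ∀ x : Fin k ↪ Ω, stabilizer G x = ⊥

theorem SharpAct.eq_one {k : ℕ} (h : SharpAct G Ω k) {g : G} (x : Fin k ↪ Ω)
    (hg : ∀ i, g • x i = x i) : g = 1 := by
  have hm : g ∈ stabilizer G x := mem_stabilizer_iff.2 (Function.Embedding.ext fun i => hg i)
  rwa [h.sharp, Subgroup.mem_bot] at hm

theorem SharpAct.card_fixed [Finite Ω] {k : ℕ} (h : SharpAct G Ω k) {g : G} (hg : g ≠ 1) :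
    {z : Ω | g • z = z}.ncard < k := by
  by_contra hc
  obtain ⟨s, hs, hsc⟩ := Set.exists_subset_card_eq (s := {z : Ω | g • z = z}) (not_lt.1 hc)
  haveI := (Set.toFinite s).to_subtype
  obtain e := (Finite.equivFinOfCardEq (α := s) (n := k) (by rw [Nat.card_coe_set_eq, hsc])).symm
  exact hg (h.eq_one ⟨fun i => (e i : Ω), Subtype.val_injective.comp e.injective⟩
    fun i => hs (e i).2)

/-- The group is in bijection with the injective sequences of length `k`. -/
theorem SharpAct.card_eq [Finite Ω] {k : ℕ} (h : SharpAct G Ω k) (hk : k ≤ Nat.card Ω) :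
    Finite G ∧ Nat.card G = (Nat.card Ω).descFactorial k := by
  cases nonempty_fintype Ω
  rw [Nat.card_eq_fintype_card] at hk
  obtain ⟨x⟩ := Function.Embedding.nonempty_of_card_le (α := Fin k) (β := Ω) (by simpa using hk)
  haveI := h.pre
  have hb : Function.Bijective fun g : G => g • x := by
    refine ⟨fun a b hab => ?_, fun y => exists_smul_eq G x y⟩
    have : b⁻¹ * a = 1 := h.eq_one x fun i => by
      have := DFunLike.congr_fun hab i
      simp only [Function.Embedding.smul_apply] at this
      rw [mul_smul, this, inv_smul_smul]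
    exact (inv_mul_eq_one.1 this).symm
  refine ⟨Finite.of_injective _ hb.1, ?_⟩
  rw [Nat.card_congr (Equiv.ofBijective _ hb), Nat.card_eq_fintype_card,
    Fintype.card_embedding_eq, Fintype.card_fin, Nat.card_eq_fintype_card]

/-- A point stabiliser is sharply one less transitive on the other points. -/
theorem SharpAct.stab [Finite Ω] {k : ℕ} (h : SharpAct G Ω (k + 1)) (hk : k + 1 ≤ Nat.card Ω)
    (a : Ω) :
    SharpAct (stabilizer G a) (SubMulAction.ofStabilizer G a) k ∧
      Nat.card (SubMulAction.ofStabilizer G a) + 1 = Nat.card Ω := by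
  haveI := h.pre
  haveI : IsPretransitive G Ω :=
    is_one_pretransitive_iff.1 (isMultiplyPretransitive_of_le (n := k + 1) (by omega) hk)
  refine ⟨⟨(SubMulAction.ofStabilizer.isMultiplyPretransitive).1 h.pre, fun x => ?_⟩, ?_⟩
  · rw [eq_bot_iff]
    intro g hg
    rw [Subgroup.mem_bot]
    refine Subtype.ext (h.eq_one (SubMulAction.ofStabilizer.snoc x) fun i => ?_)
    induction i using Fin.lastCases with
    | last => rw [SubMulAction.ofStabilizer.snoc_last]; exact g.2
    | cast i =>
      rw [SubMulAction.ofStabilizer.snoc_castSucc]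
      exact congrArg Subtype.val (DFunLike.congr_fun (mem_stabilizer_iff.1 hg) i)
  · rw [show Nat.card (SubMulAction.ofStabilizer G a) = ({a}ᶜ : Set Ω).ncard from
      Nat.card_coe_set_eq _, Set.ncard_compl, Set.ncard_singleton]
    omega

/-- An element commuting with one of large prime order and fixing a point moved by it is trivial. -/
theorem SharpAct.eq_one_of_commute {k p : ℕ} [hp : Fact p.Prime] (h : SharpAct G Ω k) (hkp : k ≤ p)
    {g u : G} (hg : orderOf g = p) {c : Ω} (hc : g • c ≠ c) (hu : u * g = g * u) (huc : u • c = c) :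
    u = 1 := by
  have inj : ∀ i j : Fin k, (i : ℕ) < j → g ^ (i : ℕ) • c ≠ g ^ (j : ℕ) • c := by
    intro i j hij he
    have hd : g ^ ((j : ℕ) - i) • c = c := by
      rw [← smul_left_cancel_iff (g ^ (i : ℕ)), smul_smul, ← pow_add,
        Nat.add_sub_cancel' hij.le, he]
    have hcop : Nat.Coprime ((j : ℕ) - i) (orderOf g) := by
      rw [hg, Nat.coprime_comm, hp.out.coprime_iff_not_dvd]
      intro hd'
      have := Nat.le_of_dvd (by omega) hd'
      omega
    obtain ⟨m, hm⟩ := exists_pow_eq_self_of_coprime hcop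
    have : g ∈ stabilizer G c := hm ▸ pow_mem (mem_stabilizer_iff.2 hd) m
    exact hc this
  refine h.eq_one ⟨fun i => g ^ (i : ℕ) • c, fun i j hij => ?_⟩ fun i => ?_
  · rcases lt_trichotomy (i : ℕ) j with h' | h' | h'
    · exact absurd hij (inj i j h')
    · exact Fin.ext h'
    · exact absurd hij.symm (inj j i h')
  · show u • g ^ (i : ℕ) • c = g ^ (i : ℕ) • c
    rw [smul_smul, (Commute.pow_right hu i).eq, mul_smul, huc]

theorem card_fixed_modEq [Finite Ω] {p : ℕ} [hp : Fact p.Prime] {g : G} (hg : orderOf g = p) :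
    Nat.card Ω ≡ {z : Ω | g • z = z}.ncard [MOD p] := by
  have hP : IsPGroup p (Subgroup.zpowers g) :=
    IsPGroup.of_card (n := 1) (by rw [Nat.card_zpowers, hg, pow_one])
  have h := hP.card_modEq_card_fixedPoints Ω
  have he : fixedPoints (Subgroup.zpowers g) Ω = {z : Ω | g • z = z} := by
    ext z
    constructor
    · exact fun h => h ⟨g, Subgroup.mem_zpowers g⟩
    · rintro h ⟨c, hc⟩
      obtain ⟨m, rfl⟩ := Subgroup.mem_zpowers_iff.mp hc
      exact mem_stabilizer_iff.mp (zpow_mem (show g ∈ stabilizer G z from h) m)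
  rwa [he, Nat.card_coe_set_eq] at h

/-- In a group smaller than `p ^ 2` there is at most one subgroup of order `p`. -/
theorem eq_of_card_prime [Finite G] {p : ℕ} [hp : Fact p.Prime] {H P Q : Subgroup G} (hP : P ≤ H)
    (hQ : Q ≤ H) (cP : Nat.card P = p) (cQ : Nat.card Q = p) (hH : Nat.card H < p * p) : P = Q := by
  have hd : Nat.card (P ⊓ Q : Subgroup G) ∣ p := cP ▸ Subgroup.card_dvd_of_le inf_le_left
  rcases (Nat.dvd_prime hp.out).1 hd with h | h
  · exfalso
    have hdis : Disjoint P Q := disjoint_iff.2 (Subgroup.card_eq_one.1 h)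
    have := Nat.card_le_card_of_injective
      (fun x : P × Q => (⟨x.1 * x.2, mul_mem (hP x.1.2) (hQ x.2.2)⟩ : H))
      fun x y e => Subgroup.mul_injective_of_disjoint hdis (congrArg Subtype.val e)
    rw [Nat.card_prod, cP, cQ] at this
    omega
  · have h1 : P ⊓ Q = P := Subgroup.eq_of_le_of_card_ge inf_le_left (by omega)
    have h2 : P ⊓ Q = Q := Subgroup.eq_of_le_of_card_ge inf_le_right (by omega)
    exact h1.symm.trans h2

/-- Two distinct points as an embedding. -/
def pairEmb {a b : Ω} (hab : a ≠ b) : Fin 2 ↪ Ω :=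
  ⟨![a, b], fun i j hij => by
    fin_cases i <;> fin_cases j
    · rfl
    · exact absurd hij hab
    · exact absurd hij.symm hab
    · rfl⟩

/-- There is no sharply 4-transitive group of degree `p + 2` for a prime `p ≥ 5`. -/
theorem SharpAct.false_four [Finite Ω] {p : ℕ} [hp : Fact p.Prime] (h5 : 5 ≤ p)
    (h : SharpAct G Ω 4) (hn : Nat.card Ω = p + 2) : False := by
  obtain ⟨hfin, hG⟩ := h.card_eq (by omega)
  have hG' : Nat.card G = (p + 2) * (p + 1) * (p * (p - 1)) := by
    rw [hG, hn]
    simp only [Nat.descFactorial_succ, Nat.descFactorial_zero, mul_one, Nat.sub_zero,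
      show p + 2 - 3 = p - 1 by omega, show p + 2 - 2 = p by omega, show p + 2 - 1 = p + 1 by omega]
    ring
  obtain ⟨g, hg⟩ := exists_prime_orderOf_dvd_card' p
    (hG' ▸ Dvd.dvd.mul_left (dvd_mul_right p _) _)
  have hg1 : g ≠ 1 := fun e => by rw [e, orderOf_one] at hg; omega
  have hF : {z : Ω | g • z = z}.ncard = 2 := by
    have h1 := h.card_fixed hg1
    have h2 := card_fixed_modEq (Ω := Ω) hg
    rw [hn] at h2
    unfold Nat.ModEq at h2
    rw [Nat.add_mod_left, Nat.mod_eq_of_lt (by omega : 2 < p), Nat.mod_eq_of_lt (by omega)] at h2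
    exact h2.symm
  obtain ⟨a, b, hab, hset⟩ := Set.ncard_eq_two.1 hF
  have hfix : ∀ z, g • z = z ↔ z = a ∨ z = b := fun z => by
    have := Set.ext_iff.1 hset z
    simpa using this
  haveI := h.pre
  haveI h2t : IsMultiplyPretransitive G Ω 2 :=
    isMultiplyPretransitive_of_le (n := 4) (by norm_num) (by omega)
  let x : Fin 2 ↪ Ω := pairEmb hab
  set H := stabilizer G x with hH
  have hHmem : ∀ u, u ∈ H ↔ u • a = a ∧ u • b = b := by
    intro u
    rw [hH, mem_stabilizer_iff, DFunLike.ext_iff, Fin.forall_fin_two]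
    rfl
  have hHc : Nat.card H = p * (p - 1) := by
    have h1 := Subgroup.card_mul_index H
    rw [hH, index_stabilizer_of_transitive] at h1
    cases nonempty_fintype Ω
    rw [Nat.card_eq_fintype_card (α := Fin 2 ↪ Ω), Fintype.card_embedding_eq, Fintype.card_fin,
      ← Nat.card_eq_fintype_card, hn, hG', ← hH] at h1
    simp only [Nat.descFactorial_succ, Nat.descFactorial_zero, mul_one, Nat.sub_zero,
      show p + 2 - 1 = p + 1 by omega] at h1
    refine Nat.eq_of_mul_eq_mul_right (m := (p + 1) * (p + 2)) (by positivity) ?_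
    rw [h1]; ring
  obtain ⟨c, hc⟩ : ∃ c, g • c ≠ c := by
    by_contra hall
    push Not at hall
    have : (Set.univ : Set Ω) ⊆ {z : Ω | g • z = z} := fun z _ => hall z
    have := Set.ncard_le_ncard this
    rw [Set.ncard_univ] at this
    omega
  set P := Subgroup.zpowers g with hP
  have hPH : P ≤ H := by
    rw [hP, Subgroup.zpowers_le, hHmem]
    exact ⟨(hfix a).2 (Or.inl rfl), (hfix b).2 (Or.inr rfl)⟩
  have hlt : Nat.card H < p * p := by
    rw [hHc]; exact Nat.mul_lt_mul_of_pos_left (by omega) (by omega)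
  have hnorm : ∀ u : G, ((u • a = a ∧ u • b = b) ∨ (u • a = b ∧ u • b = a)) →
      u * g * u⁻¹ ∈ P := by
    intro u hu
    have hg' : u * g * u⁻¹ ∈ H := by
      rw [hHmem]
      have e1 := (hfix a).2 (Or.inl rfl)
      have e2 := (hfix b).2 (Or.inr rfl)
      rcases hu with ⟨ha, hb⟩ | ⟨ha, hb⟩
      · refine ⟨?_, ?_⟩ <;> rw [mul_smul, mul_smul]
        · rw [show u⁻¹ • a = a by rw [inv_smul_eq_iff, ha], e1, ha]
        · rw [show u⁻¹ • b = b by rw [inv_smul_eq_iff, hb], e2, hb]
      · refine ⟨?_, ?_⟩ <;> rw [mul_smul, mul_smul]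
        · rw [show u⁻¹ • a = b by rw [inv_smul_eq_iff, hb], e2, hb]
        · rw [show u⁻¹ • b = a by rw [inv_smul_eq_iff, ha], e1, ha]
    have := eq_of_card_prime (P := Subgroup.zpowers (u * g * u⁻¹)) (Q := P)
      (Subgroup.zpowers_le.2 hg') hPH
      (by rw [Nat.card_zpowers, ← MulAut.conj_apply, MulEquiv.orderOf_eq, hg])
      (by rw [hP, Nat.card_zpowers, hg]) hlt
    exact this ▸ Subgroup.mem_zpowers _
  obtain ⟨w, hw⟩ : ∃ w : G, w • a = b ∧ w • b = a := by
    let y : Fin 2 ↪ Ω := pairEmb hab.symm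
    obtain ⟨w, hw⟩ := exists_smul_eq G x y
    exact ⟨w, DFunLike.congr_fun hw 0, DFunLike.congr_fun hw 1⟩
  let S : Set G := insert w (H : Set G)
  have hS : ∀ u ∈ S, (u • a = a ∧ u • b = b) ∨ (u • a = b ∧ u • b = a) := by
    rintro u (rfl | hu)
    · exact Or.inr hw
    · exact Or.inl ((hHmem u).1 hu)
  let φ : S → ({a, b}ᶜ : Set Ω) × {q : P // q ≠ 1} := fun u =>
    (⟨u.1 • c, by
      intro hmem
      have hcab : ¬ (c = a ∨ c = b) := fun e => hc ((hfix c).2 e)
      rcases hS u u.2 with ⟨ha, hb⟩ | ⟨ha, hb⟩ <;> rcases hmem with he | he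
      · exact hcab (Or.inl (smul_left_cancel u.1 (he.trans ha.symm)))
      · exact hcab (Or.inr (smul_left_cancel u.1 (he.trans hb.symm)))
      · exact hcab (Or.inr (smul_left_cancel u.1 (he.trans hb.symm)))
      · exact hcab (Or.inl (smul_left_cancel u.1 (he.trans ha.symm)))⟩,
     ⟨⟨u.1 * g * u.1⁻¹, hnorm u (hS u u.2)⟩, fun e => hg1 (by
      have := congrArg Subtype.val e
      simpa [mul_inv_eq_one] using this)⟩)
  have hφ : Function.Injective φ := by
    intro u v huv
    simp only [φ, Prod.mk.injEq, Subtype.mk.injEq] at huv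
    refine Subtype.ext (inv_mul_eq_one.1 ?_).symm
    refine h.eq_one_of_commute (by omega) hg hc ?_ ?_
    · calc v.1⁻¹ * u.1 * g = v.1⁻¹ * (u.1 * g * u.1⁻¹) * u.1 := by group
        _ = g * (v.1⁻¹ * u.1) := by rw [huv.2]; group
    · rw [mul_smul, huv.1, inv_smul_smul]
  have hcard := Nat.card_le_card_of_injective φ hφ
  rw [Nat.card_prod, Nat.card_coe_set_eq, Nat.card_coe_set_eq, Set.ncard_compl, Set.ncard_pair hab,
    hn, Set.ncard_insert_of_notMem (fun hh => hab (((hHmem w).1 hh).1.symm.trans hw.1))] at hcard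
  have hq : Nat.card {q : P // q ≠ 1} = p - 1 := by
    have h2 := Set.ncard_compl ({1} : Set P)
    rw [Set.ncard_singleton, ← Nat.card_coe_set_eq, hP, Nat.card_zpowers, hg] at h2
    exact h2
  rw [hq, show (H : Set G).ncard = Nat.card H from (Nat.card_coe_set_eq _).symm, hHc,
    Nat.add_sub_cancel] at hcard
  omega

/-- There is no sharply 6-transitive group of degree 13. -/
theorem SharpAct.false_six [Finite Ω] (h : SharpAct G Ω 6) (hn : Nat.card Ω = 13) : False := by
  obtain ⟨hfin, hG⟩ := h.card_eq (by omega)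
  rw [hn, show Nat.descFactorial 13 6 = 13 * 95040 by decide] at hG
  haveI hp : Fact (Nat.Prime 13) := ⟨by norm_num⟩
  let P : Sylow 13 G := default
  have hPc : Nat.card P = 13 := by
    rw [P.card_eq_multiplicity, hG, Nat.factorization_mul (by norm_num) (by norm_num),
      Finsupp.add_apply, hp.out.factorization_self,
      Nat.factorization_eq_zero_of_not_dvd (by norm_num : ¬ 13 ∣ 95040)]
    rfl
  obtain ⟨⟨g, hgP⟩, hg⟩ := exists_prime_orderOf_dvd_card' (G := P) 13 (by rw [hPc])
  rw [Subgroup.orderOf_mk] at hg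
  have hg1 : g ≠ 1 := fun e => by rw [e, orderOf_one] at hg; omega
  have hF : {z : Ω | g • z = z}.ncard = 0 := by
    have h1 := h.card_fixed hg1
    have h2 := card_fixed_modEq (Ω := Ω) hg
    rw [hn] at h2
    unfold Nat.ModEq at h2
    omega
  obtain ⟨c⟩ : Nonempty Ω := (Nat.card_pos_iff.1 (by omega)).1
  have hc : g • c ≠ c := fun e => by
    rw [Set.ncard_eq_zero, Set.eq_empty_iff_forall_notMem] at hF
    exact hF c e
  let K : Subgroup G := P
  let φ := K.normalizerMonoidHom
  haveI : IsCyclic K := isCyclic_of_prime_card hPc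
  have hker : Nat.card φ.ker = 13 := by
    refine le_antisymm ?_ ?_
    · have hin : Function.Injective fun u : φ.ker => (u.1.1 : G) • c := by
        intro u v huv
        have hcomm : ∀ u : φ.ker, u.1.1 * g = g * u.1.1 := by
          intro u
          have hm : u.1 ∈ (Subgroup.centralizer (K : Set G)).subgroupOf _ :=
            Subgroup.normalizerMonoidHom_ker K ▸ u.2
          rw [Subgroup.mem_subgroupOf, Subgroup.mem_centralizer_iff] at hm
          exact (hm g hgP).symm
        refine Subtype.ext (Subtype.ext (inv_mul_eq_one.1 ?_).symm)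
        refine h.eq_one_of_commute (by norm_num) hg hc ?_ ?_
        · exact ((Commute.inv_left (hcomm v : Commute _ _)).mul_left (hcomm u : Commute _ _)).eq
        · rw [mul_smul, show u.1.1 • c = v.1.1 • c from huv, inv_smul_smul]
      exact (Nat.card_le_card_of_injective _ hin).trans hn.le
    · rw [← hPc]
      refine Nat.card_le_card_of_injective
        (fun q : K => (⟨⟨q, Subgroup.le_normalizer q.2⟩, ?_⟩ : φ.ker)) fun q r e => ?_
      · rw [Subgroup.normalizerMonoidHom_ker, Subgroup.mem_subgroupOf, Subgroup.mem_centralizer_iff]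
        intro r hr
        exact congrArg Subtype.val (IsMulCommutative.is_comm.comm (⟨r, hr⟩ : K) q)
      · exact Subtype.ext (congrArg (fun x : φ.ker => x.1.1) e)
  have hdvd : Nat.card φ.range ∣ 12 := by
    have := Subgroup.card_subgroup_dvd_card φ.range
    rwa [IsCyclic.card_mulAut, hPc, Nat.totient_prime hp.out] at this
  have hN := φ.ker.card_mul_index
  rw [hker, Subgroup.index_ker] at hN
  have hidx := (Subgroup.normalizer (K : Set G)).card_mul_index
  have hs := card_sylow_modEq_one 13 G
  rw [P.card_eq_index_normalizer] at hs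
  rw [← hN, hG, mul_assoc] at hidx
  have hm : Nat.card φ.range * (Subgroup.normalizer (K : Set G)).index = 95040 :=
    Nat.eq_of_mul_eq_mul_left (by norm_num : 0 < 13) hidx
  have hle := Nat.le_of_dvd (by norm_num) hdvd
  have hmod : Nat.card φ.range % 13 = 10 := by
    have h2 : (Subgroup.normalizer (K : Set G)).index % 13 = 1 := hs
    have := congrArg (fun t => t % 13) hm
    simp only [Nat.mul_mod, h2, mul_one, Nat.mod_mod] at this
    exact this
  have : Nat.card φ.range = 10 := by omega
  rw [this] at hdvd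
  norm_num at hdvd

theorem SharpAct.degree_four [Finite Ω] (h : SharpAct G Ω 4) (h4 : 4 ≤ Nat.card Ω) :
    Nat.card Ω = 4 ∨ Nat.card Ω = 5 ∨ Nat.card Ω = 6 ∨ Nat.card Ω = 11 := by
  cases nonempty_fintype Ω
  have hne : Nonempty (Fin 4 ↪ Ω) := Function.Embedding.nonempty_of_card_le
    (by rw [Fintype.card_fin, ← Nat.card_eq_fintype_card]; exact h4)
  obtain ⟨-, hle, hev⟩ := S0708.result h.pre h.sharp hne
  have h7 : Nat.card Ω ≠ 7 := fun e => by
    haveI : Fact (Nat.Prime 5) := ⟨by norm_num⟩
    exact h.false_four (p := 5) le_rfl e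
  have h9 : Nat.card Ω ≠ 9 := fun e => by
    haveI : Fact (Nat.Prime 7) := ⟨by norm_num⟩
    exact h.false_four (p := 7) (by norm_num) e
  rcases Nat.even_or_odd (Nat.card Ω) with he | ⟨m, hm⟩
  · have := hev he; omega
  · omega

theorem SharpAct.degree_five [Finite Ω] (h : SharpAct G Ω 5) (h5 : 5 ≤ Nat.card Ω) :
    Nat.card Ω = 5 ∨ Nat.card Ω = 6 ∨ Nat.card Ω = 7 ∨ Nat.card Ω = 12 := by
  obtain ⟨a⟩ : Nonempty Ω := (Nat.card_pos_iff.1 (by omega)).1
  obtain ⟨hs, hc⟩ := h.stab h5 a
  rcases hs.degree_four (by omega) with h' | h' | h' | h' <;> omega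

theorem SharpAct.degree_six [Finite Ω] {k : ℕ} (hk : 6 ≤ k) (h : SharpAct G Ω k)
    (hn : k ≤ Nat.card Ω) : Nat.card Ω = k ∨ Nat.card Ω = k + 1 ∨ Nat.card Ω = k + 2 := by
  induction k generalizing G Ω with
  | zero => omega
  | succ k ih =>
    obtain ⟨a⟩ : Nonempty Ω := (Nat.card_pos_iff.1 (by omega)).1
    obtain ⟨hs, hc⟩ := h.stab hn a
    rcases Nat.lt_or_ge k 6 with h6 | h6
    · obtain rfl : k = 5 := by omega
      rcases hs.degree_five (by omega) with h' | h' | h' | h'
      · omega
      · omega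
      · omega
      · exact (h.false_six (by omega)).elim
    · rcases ih h6 hs (by omega) with h' | h' | h' <;> omega

end Cfsg.Agent.H29
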