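import Cfsg.Agent.H29.Srg77Data

/-!
Kernel checks for the graph with parameters (77, 16, 0, 4): the design of the sixty four-sets is
determined by its labelled part, and in it the classes of disjoint non-adjacent members are forced.
-/

set_option autoImplicit false

namespace Cfsg.Agent.H29.Srg77

/-- The mask of a list of positions. -/
def listMask (l : List ℕ) : ℕ := l.foldr (fun i m => 2 ^ i ||| m) 0

/-- The mask obtained by relabelling by a table. -/
def relabel (p m : ℕ) : ℕ :=
  listMask (((List.range 16).filter fun i => m.testBit i).map fun i => (p >>> (4 * i)) &&& 15)

/-- All four-sets. -/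
def cand : List ℕ := ((List.range 16).sublistsLen 4).map listMask

/-- The pairs through zero. -/
def items0 : List ℕ := (List.range' 1 15).map fun x => listMask [0, x]

/-- All pairs. -/
def itemsAll : List ℕ := ((List.range 16).sublistsLen 2).map listMask

/-- The leaves of the first search. -/
def goalZero (l : List ℕ) : Bool :=
  relabels.any fun p => decide ((l.map (relabel p)).Nodup) &&
    l.all fun b => stdZero.contains (relabel p b)

/-- The leaves of the second search. -/
def goalAll (l : List ℕ) : Bool := l.all stdAll.contains

theorem relabels_valid :
    (relabels.all fun p => decide (((List.range 16).map fun i => (p >>> (4 * i)) &&& 15).Nodup) &&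
      p &&& 15 == 0) = true := by decide +kernel

theorem small_popcounts :
    ((List.range 3).all fun k => ((List.range 16).sublistsLen k).all fun l =>
      le2 (listMask l) && (eq2 (listMask l) == (k == 2)) && (eq1 (listMask l) == (k == 1))) =
      true := by
  decide +kernel

theorem initBlocks_eq : initBlocks =
    [listMask [0, 1, 2, 3], listMask [0, 1, 4, 5], listMask [0, 1, 6, 7], listMask [0, 2, 8, 9],
      listMask [0, 2, 10, 11], listMask [0, 3, 12, 13], listMask [0, 3, 14, 15]] := by
  decide +kernel

theorem search_zero :
    search items0 goalZero 9 initBlocks
      ((cand.filter fun c => c.testBit 0 && !initBlocks.contains c).filter (okBlk initBlocks)) =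
      true := by
  decide +kernel

theorem search_all :
    search itemsAll goalAll 46 stdZero
      ((cand.filter fun c => !c.testBit 0).filter (okBlk stdZero)) = true := by
  decide +kernel

/-- The member with index `i`. -/
def blk (i : ℕ) : ℕ := stdAll.getD i 0

/-- Indices of the members disjoint from the one with index `i`. -/
def disj (i : ℕ) : List ℕ := (List.range 60).filter fun j => blk i &&& blk j == 0

/-- The translate of a mask. -/
def shiftMask (v m : ℕ) : ℕ :=
  listMask (((List.range 16).filter fun i => m.testBit i).map fun i => i ^^^ v)

/-- The other translates of the member with index `i`. -/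
def stdClass (i : ℕ) : ℕ :=
  listMask ((List.range 60).filter fun j =>
    j != i && (List.range 16).any fun v => shiftMask v (blk i) == blk j)

/-- The possible sets of three non-adjacent members disjoint from the one with index `i`. -/
def opts (i : ℕ) : List ℕ :=
  (((disj i).sublistsLen 3).filter fun t =>
    (t.foldr (fun j m => blk j ||| m) 0) == (2 ^ 16 - 1) ^^^ blk i).map listMask

/-- Number of common neighbours outside the sixteen points. -/
def commonCnt (i o j p : ℕ) : ℕ :=
  (disj i).countP fun x => !o.testBit x && (blk j &&& blk x == 0) && !p.testBit x

/-- Two choices agree with the parameters. -/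
def compat (i o j p : ℕ) : Bool :=
  (o.testBit j == p.testBit i) &&
    bif blk i &&& blk j == 0 then
      commonCnt i o j p == bif o.testBit j then 4 else 0
    else commonCnt i o j p + (List.range 16).countP (fun x => (blk i &&& blk j).testBit x) == 4

theorem opts_forced :
    ((List.range 60).all fun i => (opts i).all fun o => o == stdClass i ||
      (List.range 60).any fun j => j != i && (opts j).all fun p => !compat i o j p) = true := by
  decide +kernel

theorem disj_facts :
    ((List.range 60).all fun i => (disj i).length == 15 &&
      (List.range 16).all fun x => (blk i).testBit x ||
        (disj i).countP (fun j => (blk j).testBit x) == 5) = true := by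
  decide +kernel

theorem stdZero_bit : (stdZero.all fun m => m.testBit 0) = true := by decide +kernel

theorem stdAll_facts : stdAll.length = 60 ∧ stdAll.Nodup ∧
    (stdAll.all fun m => decide (m < 2 ^ 16)) = true ∧ stdZero.length = 15 ∧ stdZero.Nodup := by
  decide +kernel

end Cfsg.Agent.H29.Srg77
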