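import Cfsg.Agent.H29.Srg77Design

/-!
Uniqueness of the strongly regular graph with parameters (77, 16, 0, 4): in the labelling by
isotropic planes, adjacency outside the neighbourhood is disjointness of non-parallel planes.
-/

set_option autoImplicit false

namespace Cfsg.Agent.H29.Srg77

open Finset

variable {V : Type*} [Fintype V] [DecidableEq V] {G : SimpleGraph V} [DecidableRel G.Adj]
  {w : V} {lab : ℕ → V}

theorem listMask_eq_zero (l : List ℕ) : listMask l = 0 ↔ l = [] := by
  constructor
  · intro h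
    rcases l with _ | ⟨a, r⟩
    · rfl
    · have := testBit_listMask (a :: r) a
      rw [h] at this
      simp at this
  · rintro rfl; rfl

theorem and_enc_eq_zero (hl : Labelling G w lab) (u v : V) :
    enc G lab u &&& enc G lab v = 0 ↔ (trace G w u ∩ trace G w v).card = 0 := by
  rw [enc_inter, listMask_eq_zero, ← List.length_eq_zero_iff, length_common hl]

theorem testBit_foldr_blk (t : List ℕ) (x : ℕ) :
    (t.foldr (fun j m => blk j ||| m) 0).testBit x = true ↔ ∃ j ∈ t, (blk j).testBit x = true := by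
  induction t with
  | nil => simp
  | cons a r ih => simp [Nat.testBit_or, ih]

/-- Neighbours of a far vertex among the far vertices. -/
def farNbrs (G : SimpleGraph V) [DecidableRel G.Adj] (w u : V) : Finset V :=
  G.neighborFinset u \ trace G w u

theorem mem_farNbrs (hG : G.IsSRGWith 77 16 0 4) {u v : V} (hu : u ∈ far G w) :
    v ∈ farNbrs G w u ↔ v ∈ far G w ∧ G.Adj u v := by
  rw [farNbrs, mem_sdiff, G.mem_neighborFinset, mem_trace, mem_far]
  obtain ⟨h1, h2⟩ := mem_far.1 hu
  constructor
  · rintro ⟨h, h'⟩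
    exact ⟨⟨fun e => h2 (e ▸ h).symm, fun e => h' ⟨e, h⟩⟩, h⟩
  · rintro ⟨⟨-, h⟩, h'⟩; exact ⟨h', fun e => h e.1⟩

theorem card_farNbrs (hG : G.IsSRGWith 77 16 0 4) {u : V} (hu : u ∈ far G w) :
    (farNbrs G w u).card = 12 := by
  have hd : (G.neighborFinset u).card = 16 := hG.regular u
  rw [farNbrs, card_sdiff_of_subset (fun x hx => by
    rw [G.mem_neighborFinset]; exact (mem_trace.1 hx).2), hd, card_trace hG hu]

theorem common_split (hG : G.IsSRGWith 77 16 0 4) {u v : V} (hu : u ∈ far G w) (hv : v ∈ far G w) :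
    (G.neighborFinset u ∩ G.neighborFinset v).card =
      (farNbrs G w u ∩ farNbrs G w v).card + (trace G w u ∩ trace G w v).card := by
  rw [← card_union_of_disjoint]
  · congr 1
    ext x
    simp only [mem_inter, mem_union, farNbrs, mem_sdiff, G.mem_neighborFinset, mem_trace]
    tauto
  · rw [disjoint_left]
    intro x hx hx'
    exact (mem_sdiff.1 (mem_inter.1 hx).1).2 (mem_inter.1 hx').1

theorem trace_disjoint_of_adj (hG : G.IsSRGWith 77 16 0 4) {u v : V} (h : G.Adj u v) :
    (trace G w u ∩ trace G w v).card = 0 := by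
  rw [card_eq_zero, eq_empty_iff_forall_notMem]
  intro x hx
  obtain ⟨h1, h2⟩ := mem_inter.1 hx
  exact not_adj_of_common hG (mem_trace.1 h1).2.symm (mem_trace.1 h2).2.symm h

/-- The index of a far vertex. -/
def vIdx (G : SimpleGraph V) [DecidableRel G.Adj] (lab : ℕ → V) (u : V) : ℕ :=
  stdAll.idxOf (enc G lab u)

section

variable (hG : G.IsSRGWith 77 16 0 4) (hl : Labelling G w lab)
  (hT : (far G w).image (enc G lab) = stdAll.toFinset)

include hG hl hT

theorem vIdx_facts : (∀ u ∈ far G w, vIdx G lab u < 60 ∧ blk (vIdx G lab u) = enc G lab u) ∧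
    Set.InjOn (vIdx G lab) (far G w : Set V) ∧ ∀ j < 60, ∃ u ∈ far G w, vIdx G lab u = j := by
  have h1 : ∀ u ∈ far G w, vIdx G lab u < 60 ∧ blk (vIdx G lab u) = enc G lab u := by
    intro u hu
    have hm : enc G lab u ∈ stdAll := List.mem_toFinset.1 (hT ▸ mem_image_of_mem _ hu)
    have hlt := List.idxOf_lt_length_iff.2 hm
    refine ⟨stdAll_facts.1 ▸ hlt, ?_⟩
    rw [blk, vIdx, List.getD_eq_getElem _ _ hlt, List.getElem_idxOf]
  refine ⟨h1, fun u hu v hv e => enc_injOn hG hl hu hv ?_, fun j hj => ?_⟩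
  · rw [← (h1 u hu).2, ← (h1 v hv).2, e]
  · have hj' : j < stdAll.length := stdAll_facts.1.symm ▸ hj
    have hm : stdAll[j] ∈ (far G w).image (enc G lab) := by
      rw [hT, List.mem_toFinset]; exact List.getElem_mem hj'
    obtain ⟨u, hu, he⟩ := mem_image.1 hm
    refine ⟨u, hu, ?_⟩
    rw [vIdx, he, stdAll_facts.2.1.idxOf_getElem]

theorem mem_disj {u v : V} (hu : u ∈ far G w) (hv : v ∈ far G w) :
    vIdx G lab v ∈ disj (vIdx G lab u) ↔ (trace G w u ∩ trace G w v).card = 0 := by
  obtain ⟨h1, -, -⟩ := vIdx_facts hG hl hT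
  rw [disj, List.mem_filter, List.mem_range, beq_iff_eq, (h1 u hu).2, (h1 v hv).2,
    and_iff_right (h1 v hv).1, and_enc_eq_zero hl]

theorem countP_disj {u : V} (hu : u ∈ far G w) (P : ℕ → Bool) :
    (disj (vIdx G lab u)).countP P = ((far G w).filter fun v =>
      (trace G w u ∩ trace G w v).card = 0 ∧ P (vIdx G lab v) = true).card := by
  obtain ⟨h1, h2, h3⟩ := vIdx_facts hG hl hT
  have hnd : (disj (vIdx G lab u)).Nodup := List.nodup_range.filter _
  rw [List.countP_eq_length_filter, ← List.toFinset_card_of_nodup (hnd.filter _)]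
  refine (card_bij (fun v _ => vIdx G lab v) ?_ ?_ ?_).symm
  · intro v hv
    obtain ⟨hv, hd, hP⟩ := mem_filter.1 hv
    exact List.mem_toFinset.2 (List.mem_filter.2 ⟨(mem_disj hG hl hT hu hv).2 hd, hP⟩)
  · intro v hv z hz e
    exact h2 (mem_filter.1 hv).1 (mem_filter.1 hz).1 e
  · intro j hj
    obtain ⟨hj, hP⟩ := List.mem_filter.1 (List.mem_toFinset.1 hj)
    obtain ⟨v, hv, rfl⟩ := h3 j (List.mem_range.1 (List.mem_filter.1 hj).1)
    exact ⟨v, mem_filter.2 ⟨hv, (mem_disj hG hl hT hu hv).1 hj, hP⟩, rfl⟩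

/-- Parallel classes are forced. -/
theorem adj_iff_far {u v : V} (hu : u ∈ far G w) (hv : v ∈ far G w) :
    G.Adj u v ↔ enc G lab u &&& enc G lab v = 0 ∧
      (stdClass (vIdx G lab u)).testBit (vIdx G lab v) = false := by
  classical
  obtain ⟨h1, h2, h3⟩ := vIdx_facts hG hl hT
  let adjB : V → ℕ → Bool := fun u j => decide (∃ z ∈ far G w, vIdx G lab z = j ∧ G.Adj u z)
  have hadjB : ∀ u, ∀ z ∈ far G w, adjB u (vIdx G lab z) = true ↔ G.Adj u z := by
    intro u z hz
    simp only [adjB, decide_eq_true_eq]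
    exact ⟨fun ⟨z', hz', e, h⟩ => h2 hz' hz e ▸ h, fun h => ⟨z, hz, rfl, h⟩⟩
  let cls : V → List ℕ := fun u => (disj (vIdx G lab u)).filter fun j => !adjB u j
  let o : V → ℕ := fun u => listMask (cls u)
  have hobit : ∀ u ∈ far G w, ∀ z ∈ far G w, (trace G w u ∩ trace G w z).card = 0 →
      ((o u).testBit (vIdx G lab z) = true ↔ ¬ G.Adj u z) := by
    intro u hu z hz hd
    simp only [o, cls, testBit_listMask, decide_eq_true_eq, List.mem_filter, Bool.not_eq_true',
      Bool.eq_false_iff, ne_eq, hadjB u z hz]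
    exact and_iff_right ((mem_disj hG hl hT hu hz).2 hd)
  have hopts : ∀ u ∈ far G w, o u ∈ opts (vIdx G lab u) := by
    intro u hu
    have hdf := disj_facts
    simp only [List.all_eq_true, List.mem_range, Bool.and_eq_true, Bool.or_eq_true,
      beq_iff_eq] at hdf
    obtain ⟨hlen, hcnt⟩ := hdf _ (h1 u hu).1
    have hA : (disj (vIdx G lab u)).countP (adjB u) = 12 := by
      rw [countP_disj hG hl hT hu, ← card_farNbrs hG hu]
      congr 1
      ext z
      rw [mem_filter, mem_farNbrs hG hu]
      constructor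
      · rintro ⟨hz, -, h⟩; exact ⟨hz, (hadjB u z hz).1 h⟩
      · rintro ⟨hz, h⟩; exact ⟨hz, trace_disjoint_of_adj hG h, (hadjB u z hz).2 h⟩
    refine List.mem_map.2 ⟨cls u, List.mem_filter.2 ⟨List.mem_sublistsLen.2 ⟨List.filter_sublist, ?_⟩,
      ?_⟩, rfl⟩
    · have := List.length_eq_countP_add_countP (adjB u) (l := disj (vIdx G lab u))
      rw [hA, hlen] at this
      have e : (cls u).length = (disj (vIdx G lab u)).countP fun j => decide ¬adjB u j = true := by
        rw [List.countP_eq_length_filter]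
        simp only [cls]
        congr 1
        apply List.filter_congr
        intro j _
        cases adjB u j <;> rfl
      omega
    · rw [beq_iff_eq]
      apply Nat.eq_of_testBit_eq
      intro x
      rw [Bool.eq_iff_iff, testBit_foldr_blk, Nat.testBit_xor, (h1 u hu).2,
        Nat.testBit_two_pow_sub_one]
      constructor
      · rintro ⟨j, hj, hjx⟩
        obtain ⟨hj, -⟩ := List.mem_filter.1 hj
        obtain ⟨z, hz, rfl⟩ := h3 j (List.mem_range.1 (List.mem_filter.1 hj).1)
        rw [(h1 z hz).2] at hjx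
        obtain ⟨hx, hzx⟩ := (testBit_enc lab z x).1 hjx
        have hd := (mem_disj hG hl hT hu hz).1 hj
        have hn : (enc G lab u).testBit x = false := by
          rw [Bool.eq_false_iff]
          intro hux
          rw [card_eq_zero, eq_empty_iff_forall_notMem] at hd
          refine hd (lab x) (mem_inter.2 ⟨mem_trace.2 ⟨(hl.mem _).2 ⟨x, hx, rfl⟩, ?_⟩,
            mem_trace.2 ⟨(hl.mem _).2 ⟨x, hx, rfl⟩, hzx⟩⟩)
          exact ((testBit_enc lab u x).1 hux).2
        simp [hx, hn]
      · intro hx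
        have hx16 : x < 16 := by
          by_contra hge
          have : (enc G lab u).testBit x = false := by
            rw [Bool.eq_false_iff]; exact fun h => hge ((testBit_enc lab u x).1 h).1
          simp [hge, this] at hx
        have hux : (enc G lab u).testBit x = false := by
          cases h : (enc G lab u).testBit x
          · rfl
          · simp [h, hx16] at hx
        by_contra hno
        push Not at hno
        have ha : G.Adj w (lab x) := (hl.mem _).2 ⟨x, hx16, rfl⟩
        have hna : ¬ G.Adj u (lab x) := fun h => by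
          rw [(testBit_enc lab u x).2 ⟨hx16, h⟩] at hux; exact Bool.false_ne_true hux.symm
        have hc5 := hcnt x hx16
        rw [(h1 u hu).2, hux] at hc5
        have hc5 := hc5.resolve_left Bool.false_ne_true
        rw [countP_disj hG hl hT hu] at hc5
        have h4 := (common hG u (lab x)).2 (fun e => (mem_far.1 hu).2 (e ▸ ha)) hna
        have hsub : ((far G w).filter fun z => (trace G w u ∩ trace G w z).card = 0 ∧
            (blk (vIdx G lab z)).testBit x = true) ⊆
            G.neighborFinset u ∩ G.neighborFinset (lab x) := by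
          intro z hz
          obtain ⟨hz, hd, hzx⟩ := mem_filter.1 hz
          rw [mem_inter, G.mem_neighborFinset, G.mem_neighborFinset]
          rw [(h1 z hz).2, testBit_enc] at hzx
          refine ⟨?_, hzx.2.symm⟩
          by_contra hnadj
          refine hno (vIdx G lab z) (List.mem_filter.2 ⟨(mem_disj hG hl hT hu hz).2 hd, ?_⟩) ?_
          · rw [Bool.not_eq_true', Bool.eq_false_iff, ne_eq, hadjB u z hz]; exact hnadj
          · rw [(h1 z hz).2, testBit_enc]; exact hzx
        have := card_le_card hsub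
        omega
  have hcompat : ∀ u ∈ far G w, ∀ v ∈ far G w, u ≠ v →
      compat (vIdx G lab u) (o u) (vIdx G lab v) (o v) = true := by
    intro u hu v hv huv
    have hsymm : (o u).testBit (vIdx G lab v) = (o v).testBit (vIdx G lab u) := by
      rw [Bool.eq_iff_iff]
      simp only [o, cls, testBit_listMask, decide_eq_true_eq, List.mem_filter, Bool.not_eq_true',
        Bool.eq_false_iff, ne_eq, hadjB u v hv, hadjB v u hu, mem_disj hG hl hT hu hv,
        mem_disj hG hl hT hv hu, inter_comm (trace G w v), G.adj_comm v u]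
    have hcnt : commonCnt (vIdx G lab u) (o u) (vIdx G lab v) (o v) =
        (farNbrs G w u ∩ farNbrs G w v).card := by
      rw [commonCnt, countP_disj hG hl hT hu]
      congr 1
      ext z
      rw [mem_filter, mem_inter, mem_farNbrs hG hu, mem_farNbrs hG hv]
      constructor
      · rintro ⟨hz, hd, h⟩
        simp only [Bool.and_eq_true, Bool.not_eq_true', Bool.eq_false_iff, beq_iff_eq,
          (h1 v hv).2, (h1 z hz).2, and_enc_eq_zero hl] at h
        obtain ⟨⟨hu', hd'⟩, hv'⟩ := h
        rw [ne_eq, hobit u hu z hz hd, not_not] at hu'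
        rw [ne_eq, hobit v hv z hz hd', not_not] at hv'
        exact ⟨⟨hz, hu'⟩, hz, hv'⟩
      · rintro ⟨⟨hz, hu'⟩, -, hv'⟩
        have hd := trace_disjoint_of_adj hG (w := w) hu'
        have hd' := trace_disjoint_of_adj hG (w := w) hv'
        refine ⟨hz, hd, ?_⟩
        simp only [Bool.and_eq_true, Bool.not_eq_true', Bool.eq_false_iff, beq_iff_eq,
          (h1 v hv).2, (h1 z hz).2, and_enc_eq_zero hl]
        exact ⟨⟨fun h => (hobit u hu z hz hd).1 h hu', hd'⟩, fun h => (hobit v hv z hz hd').1 h hv'⟩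
    rw [compat, Bool.and_eq_true, beq_iff_eq]
    refine ⟨hsymm, ?_⟩
    rw [(h1 u hu).2, (h1 v hv).2, hcnt]
    by_cases h0 : enc G lab u &&& enc G lab v = 0
    · rw [beq_iff_eq.2 h0, cond_true, beq_iff_eq]
      have hd := (and_enc_eq_zero hl u v).1 h0
      have hs := common_split hG hu hv
      by_cases hadj : G.Adj u v
      · rw [Bool.eq_false_iff.2 fun e => (hobit u hu v hv hd).1 e hadj, cond_false]
        rw [(common hG u v).1 hadj] at hs
        omega
      · rw [(hobit u hu v hv hd).2 hadj, cond_true]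
        rw [(common hG u v).2 huv hadj] at hs
        omega
    · rw [beq_eq_false_iff_ne.2 h0, cond_false, beq_iff_eq]
      have hadj : ¬ G.Adj u v := fun h => h0 ((and_enc_eq_zero hl u v).2 (trace_disjoint_of_adj hG h))
      have hs := common_split hG hu hv
      rw [(common hG u v).2 huv hadj] at hs
      have hpop : (List.range 16).countP (fun x => (enc G lab u &&& enc G lab v).testBit x) =
          (trace G w u ∩ trace G w v).card := by
        rw [← length_common hl u v, List.countP_eq_length_filter]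
        congr 1
        apply List.filter_congr
        intro x hx
        rw [Bool.eq_iff_iff, Nat.testBit_and, Bool.and_eq_true, testBit_enc, testBit_enc,
          decide_eq_true_eq]
        have := List.mem_range.1 hx
        tauto
      omega
  have hstd : o u = stdClass (vIdx G lab u) := by
    have hf := opts_forced
    simp only [List.all_eq_true, List.mem_range, Bool.or_eq_true, beq_iff_eq, List.any_eq_true,
      Bool.and_eq_true, bne_iff_ne, Bool.not_eq_true'] at hf
    rcases hf _ (h1 u hu).1 _ (hopts u hu) with e | ⟨j, hj, hji, hall⟩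
    · exact e
    · exfalso
      obtain ⟨z, hz, rfl⟩ := h3 j hj
      have := hall _ (hopts z hz)
      rw [hcompat u hu z hz fun e => hji (by rw [e])] at this
      exact Bool.false_ne_true this.symm
  constructor
  · intro h
    have hd := trace_disjoint_of_adj hG (w := w) h
    refine ⟨(and_enc_eq_zero hl u v).2 hd, ?_⟩
    rw [← hstd, Bool.eq_false_iff]
    exact fun e => (hobit u hu v hv hd).1 e h
  · rintro ⟨h0, hs⟩
    have hd := (and_enc_eq_zero hl u v).1 h0
    rw [← hstd, Bool.eq_false_iff] at hs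
    by_contra hn
    exact hs ((hobit u hu v hv hd).2 hn)

end

/-- Adjacency of the seventy-seven codes. -/
def codeRel : Option (ℕ ⊕ ℕ) → Option (ℕ ⊕ ℕ) → Prop
  | none, some (Sum.inl _) => True
  | some (Sum.inl _), none => True
  | some (Sum.inl i), some (Sum.inr j) => (blk j).testBit i = true
  | some (Sum.inr j), some (Sum.inl i) => (blk j).testBit i = true
  | some (Sum.inr i), some (Sum.inr j) =>
      blk i &&& blk j = 0 ∧ (stdClass i).testBit j = false
  | _, _ => False

theorem exists_coords (hG : G.IsSRGWith 77 16 0 4) :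
    ∃ F : V → Option (ℕ ⊕ ℕ), Function.Injective F ∧
      Set.range F = insert none (some '' (Sum.inl '' Set.Iio 16 ∪ Sum.inr '' Set.Iio 60)) ∧
      ∀ a b, G.Adj a b ↔ codeRel (F a) (F b) := by
  classical
  obtain ⟨w⟩ : Nonempty V := Fintype.card_pos_iff.1 (by rw [hG.card]; norm_num)
  obtain ⟨lab, hl, hT⟩ := exists_std_labels hG w
  obtain ⟨h1, h2, h3⟩ := vIdx_facts hG hl hT
  let F : V → Option (ℕ ⊕ ℕ) := fun a =>
    if h : G.Adj w a then some (Sum.inl ((hl.mem a).1 h).choose)
    else if a = w then none else some (Sum.inr (vIdx G lab a))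
  have hFw : F w = none := by simp only [F]; rw [dif_neg (G.irrefl)]; simp
  have hFN : ∀ i < 16, F (lab i) = some (Sum.inl i) := by
    intro i hi
    have h : G.Adj w (lab i) := (hl.mem _).2 ⟨i, hi, rfl⟩
    simp only [F]
    rw [dif_pos h]
    obtain ⟨hc, he⟩ := ((hl.mem _).1 h).choose_spec
    rw [hl.inj _ hc i hi he]
  have hFM : ∀ u ∈ far G w, F u = some (Sum.inr (vIdx G lab u)) := by
    intro u hu
    simp only [F]
    rw [dif_neg (mem_far.1 hu).2, if_neg (mem_far.1 hu).1]
  have cases3 : ∀ a, a = w ∨ (∃ i < 16, lab i = a) ∨ a ∈ far G w := by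
    intro a
    by_cases h : G.Adj w a
    · exact Or.inr (Or.inl ((hl.mem a).1 h))
    · by_cases h' : a = w
      · exact Or.inl h'
      · exact Or.inr (Or.inr (mem_far.2 ⟨h', h⟩))
  refine ⟨F, ?_, ?_, ?_⟩
  · intro a b e
    rcases cases3 a with rfl | ⟨i, hi, rfl⟩ | ha <;> rcases cases3 b with rfl | ⟨j, hj, rfl⟩ | hb
    · rfl
    · rw [hFw, hFN j hj] at e; cases e
    · rw [hFw, hFM b hb] at e; cases e
    · rw [hFw, hFN i hi] at e; cases e
    · rw [hFN i hi, hFN j hj] at e; cases e; rfl
    · rw [hFN i hi, hFM b hb] at e; cases e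
    · rw [hFw, hFM a ha] at e; cases e
    · rw [hFN j hj, hFM a ha] at e; cases e
    · rw [hFM a ha, hFM b hb, Option.some.injEq, Sum.inr.injEq] at e
      exact h2 ha hb e
  · ext z
    constructor
    · rintro ⟨a, rfl⟩
      rcases cases3 a with rfl | ⟨i, hi, rfl⟩ | ha
      · rw [hFw]; exact Set.mem_insert _ _
      · rw [hFN i hi]; exact Set.mem_insert_of_mem _ ⟨_, Or.inl ⟨i, hi, rfl⟩, rfl⟩
      · rw [hFM a ha]; exact Set.mem_insert_of_mem _ ⟨_, Or.inr ⟨_, (h1 a ha).1, rfl⟩, rfl⟩
    · rintro (rfl | ⟨_, (⟨i, hi, rfl⟩ | ⟨j, hj, rfl⟩), rfl⟩)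
      · exact ⟨w, hFw⟩
      · exact ⟨lab i, hFN i hi⟩
      · obtain ⟨u, hu, rfl⟩ := h3 j hj
        exact ⟨u, hFM u hu⟩
  · intro a b
    rcases cases3 a with ha | ⟨i, hi, rfl⟩ | ha <;> rcases cases3 b with hb | ⟨j, hj, rfl⟩ | hb
    · subst ha; subst hb; rw [hFw]; simp [codeRel]
    · subst ha; rw [hFw, hFN j hj]; simp [codeRel, (hl.mem _).2 ⟨j, hj, rfl⟩]
    · subst ha; rw [hFw, hFM b hb]; simpa [codeRel] using (mem_far.1 hb).2
    · subst hb; rw [hFw, hFN i hi]; simp [codeRel, ((hl.mem _).2 ⟨i, hi, rfl⟩ : G.Adj b (lab i)).symm]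
    · rw [hFN i hi, hFN j hj]
      simp only [codeRel, iff_false]
      exact not_adj_of_common hG ((hl.mem _).2 ⟨i, hi, rfl⟩) ((hl.mem _).2 ⟨j, hj, rfl⟩)
    · rw [hFN i hi, hFM b hb]
      simp only [codeRel]
      rw [(h1 b hb).2, testBit_enc, and_iff_right hi, G.adj_comm]
    · subst hb; rw [hFw, hFM a ha]
      simpa [codeRel] using fun h : G.Adj a b => (mem_far.1 ha).2 h.symm
    · rw [hFN j hj, hFM a ha]
      simp only [codeRel]
      rw [(h1 a ha).2, testBit_enc, and_iff_right hj]
    · rw [hFM a ha, hFM b hb]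
      simp only [codeRel]
      rw [(h1 a ha).2, (h1 b hb).2]
      exact adj_iff_far hG hl hT ha hb

theorem srg77_iso {V W : Type*} [Fintype V] [Fintype W] {G : SimpleGraph V} {H : SimpleGraph W}
    [DecidableRel G.Adj] [DecidableRel H.Adj] (hG : G.IsSRGWith 77 16 0 4)
    (hH : H.IsSRGWith 77 16 0 4) : Nonempty (G ≃g H) := by
  classical
  obtain ⟨F, hF, hFr, hFa⟩ := exists_coords hG
  obtain ⟨F', hF', hFr', hFa'⟩ := exists_coords hH
  let φ : V ≃ W := (Equiv.ofInjective F hF).trans
    ((Equiv.setCongr (hFr.trans hFr'.symm)).trans (Equiv.ofInjective F' hF').symm)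
  have hφ : ∀ a, F' (φ a) = F a := fun a => Equiv.apply_ofInjective_symm hF' _
  exact ⟨⟨φ, fun {a b} => by rw [hFa', hFa, hφ, hφ]⟩⟩

end Cfsg.Agent.H29.Srg77
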