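import Cfsg.Agent.H29.Srg77Engine

/-!
Data for the graph with parameters (77, 16, 0, 4): the sixty isotropic planes of the symplectic
four-space over two elements, and relabelling tables.
-/

set_option autoImplicit false

namespace Cfsg.Agent.H29.Srg77

/-- The fifteen isotropic planes through zero. -/
def stdZero : List ℕ :=
  [51, 85, 153, 771, 1285, 2313, 9345, 10305, 12291, 17025, 18465, 20485, 33345, 33825, 36873]

/-- The sixty isotropic planes. -/
def stdAll : List ℕ :=
  [51, 85, 102, 153, 170, 204, 771, 816, 1285, 1360, 1542, 1632, 2313, 2448, 2570, 2720, 3084,
   3264, 4680, 4740, 5160, 5250, 6180, 6210, 8520, 8580, 9240, 9345, 10260, 10305, 12291, 12336,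
   13056, 16680, 16770, 16920, 17025, 18450, 18465, 20485, 20560, 21760, 24582, 24672, 26112,
   33060, 33090, 33300, 33345, 33810, 33825, 36873, 37008, 39168, 40970, 41120, 43520, 49164,
   49344, 52224]

/-- The seven blocks fixed by a choice of labels. -/
def initBlocks : List ℕ :=
  [15, 51, 195, 773, 3077, 12297, 49161]

/-- Relabellings, four bits per point. -/
def relabels : List ℕ :=
  [17004030211535688720, 17004030211284030480, 13761438479828931600, 13761438479577273360,
   17003964240838022160, 17003964240586363920, 13761372509131265040, 13761372508879606800,
   16982919588282389520, 16982919588030731280, 13740327856575632400, 13740327856323974160,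
   16982853617584722960, 16982853617333064720, 13740261885877965840, 13740261885626307600,
   18080671997453947920, 18080671997202289680, 18068005623501968400, 18068005623250310160,
   18080606026756281360, 18080606026504623120, 18067939652804301840, 18067939652552643600,
   12676352444609352720, 12676352444357694480, 12663686070657373200, 12663686070405714960,
   12676286473911686160, 12676286473660027920, 12663620099959706640, 12663620099708048400,
   17004029953837650960, 17004029953585992720, 13761438222130893840, 13761438221879235600,
   17003963983139984400, 17003963982888326160, 13761372251433227280, 13761372251181569040,
   16982919330584351760, 16982919330332693520, 13740327598877594640, 13740327598625936400,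
   16982853359886685200, 16982853359635026960, 13740261628179928080, 13740261627928269840,
   18080671739755910160, 18080671739504251920, 18068005365803930640, 18068005365552272400,
   18080605769058243600, 18080605768806585360, 18067939395106264080, 18067939394854605840,
   12676352186911314960, 12676352186659656720, 12663685812959335440, 12663685812707677200,
   12676286216213648400, 12676286215961990160, 12663619842261668880, 12663619842010010640]

end Cfsg.Agent.H29.Srg77
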