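import Cfsg.Agent.H29.Srg77Label

/-!
The traces at a vertex of a graph with parameters (77, 16, 0, 4) form the sixty isotropic planes in
a suitable labelling.
-/

set_option autoImplicit false

namespace Cfsg.Agent.H29.Srg77

open Finset

variable {V : Type*} [Fintype V] [DecidableEq V] {G : SimpleGraph V} [DecidableRel G.Adj]
  {w : V} {lab : ℕ → V}

theorem card_pair_blocks (hG : G.IsSRGWith 77 16 0 4) {a p : V} (ha : G.Adj w a) (hp : G.Adj w p)
    (hne : a ≠ p) : ((far G w).filter fun u => G.Adj u a ∧ G.Adj u p).card = 3 := by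
  have hn : ¬ G.Adj a p := not_adj_of_common hG ha hp
  have he : (far G w).filter (fun u => G.Adj u a ∧ G.Adj u p) =
      (G.neighborFinset a ∩ G.neighborFinset p).erase w := by
    ext u
    rw [mem_filter, mem_erase, mem_inter, G.mem_neighborFinset, G.mem_neighborFinset]
    constructor
    · rintro ⟨h1, h2, h3⟩; exact ⟨(mem_far.1 h1).1, h2.symm, h3.symm⟩
    · rintro ⟨h1, h2, h3⟩; exact ⟨mem_far_of_adj hG ha h2.symm h1, h2.symm, h3.symm⟩
  rw [he, card_erase_of_mem (mem_inter.2 ⟨(G.mem_neighborFinset a w).2 ha.symm,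
    (G.mem_neighborFinset p w).2 hp.symm⟩), (common hG a p).2 hne hn]

theorem card_point_blocks (hG : G.IsSRGWith 77 16 0 4) {a : V} (ha : G.Adj w a) :
    ((far G w).filter fun u => G.Adj u a).card = 15 := by
  have he : (far G w).filter (fun u => G.Adj u a) = (G.neighborFinset a).erase w := by
    ext u
    rw [mem_filter, mem_erase, G.mem_neighborFinset]
    constructor
    · rintro ⟨h1, h2⟩; exact ⟨(mem_far.1 h1).1, h2.symm⟩
    · rintro ⟨h1, h2⟩; exact ⟨mem_far_of_adj hG ha h2.symm h1, h2.symm⟩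
  have hd : (G.neighborFinset a).card = 16 := hG.regular a
  rw [he, card_erase_of_mem ((G.mem_neighborFinset a w).2 ha.symm), hd]

/-- The two further blocks through a pair of points of a block. -/
theorem exists_other_two (hG : G.IsSRGWith 77 16 0 4) {a p u : V} (ha : G.Adj w a) (hp : G.Adj w p)
    (hne : a ≠ p) (hu : u ∈ far G w) (hua : G.Adj u a) (hup : G.Adj u p) :
    ∃ v v' x y x' y', v ∈ far G w ∧ v' ∈ far G w ∧ v ≠ u ∧ v' ≠ u ∧ v ≠ v' ∧
      trace G w v = {a, p, x, y} ∧ trace G w v' = {a, p, x', y'} := by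
  set S := (far G w).filter fun u => G.Adj u a ∧ G.Adj u p with hS
  have hSu : u ∈ S := mem_filter.2 ⟨hu, hua, hup⟩
  have hc : (S.erase u).card = 2 := by rw [card_erase_of_mem hSu, card_pair_blocks hG ha hp hne]
  obtain ⟨v, v', hvv, hset⟩ := card_eq_two.1 hc
  have split : ∀ z ∈ S, ∃ x y, trace G w z = {a, p, x, y} := by
    intro z hz
    obtain ⟨hzf, hza, hzp⟩ := mem_filter.1 hz
    have hsub : ({a, p} : Finset V) ⊆ trace G w z := by
      intro t ht
      simp only [mem_insert, mem_singleton] at ht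
      rcases ht with rfl | rfl
      exacts [mem_trace.2 ⟨ha, hza⟩, mem_trace.2 ⟨hp, hzp⟩]
    have h2 : (trace G w z \ {a, p}).card = 2 := by
      rw [card_sdiff_of_subset hsub, card_trace hG hzf, card_pair hne]
    obtain ⟨x, y, -, hxy⟩ := card_eq_two.1 h2
    refine ⟨x, y, ?_⟩
    rw [← union_sdiff_of_subset hsub, hxy]
    ext t
    simp only [mem_union, mem_insert, mem_singleton]
    tauto
  have hv : v ∈ S.erase u := by rw [hset]; simp
  have hv' : v' ∈ S.erase u := by rw [hset]; simp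
  obtain ⟨x, y, hxy⟩ := split v (mem_erase.1 hv).2
  obtain ⟨x', y', hxy'⟩ := split v' (mem_erase.1 hv').2
  exact ⟨v, v', x, y, x', y', (mem_filter.1 (mem_erase.1 hv).2).1,
    (mem_filter.1 (mem_erase.1 hv').2).1, (mem_erase.1 hv).1, (mem_erase.1 hv').1, hvv, hxy, hxy'⟩

theorem trace_inter_eq (hG : G.IsSRGWith 77 16 0 4) {a p u v : V} (hu : u ∈ far G w)
    (hv : v ∈ far G w) (huv : u ≠ v) (hne : a ≠ p) (h1 : a ∈ trace G w u) (h2 : p ∈ trace G w u)
    (h3 : a ∈ trace G w v) (h4 : p ∈ trace G w v) : trace G w u ∩ trace G w v = {a, p} := by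
  refine (eq_of_subset_of_card_le ?_ ?_).symm
  · intro t ht
    simp only [mem_insert, mem_singleton] at ht
    rcases ht with rfl | rfl
    exacts [mem_inter.2 ⟨h1, h3⟩, mem_inter.2 ⟨h2, h4⟩]
  · rw [card_pair hne]; exact trace_inter_le hG hu hv huv

theorem enc_eq_of_trace (hl : Labelling G w lab) {u : V} (S : List ℕ) (hS : ∀ i ∈ S, i < 16)
    (h : trace G w u = (S.map lab).toFinset) : enc G lab u = listMask S := by
  apply Nat.eq_of_testBit_eq
  intro i
  rw [Bool.eq_iff_iff, testBit_enc, testBit_listMask, decide_eq_true_eq]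
  constructor
  · rintro ⟨hi, hadj⟩
    have hm : lab i ∈ trace G w u := mem_trace.2 ⟨(hl.mem _).2 ⟨i, hi, rfl⟩, hadj⟩
    rw [h, List.mem_toFinset, List.mem_map] at hm
    obtain ⟨j, hj, e⟩ := hm
    rwa [← hl.inj j (hS j hj) i hi e]
  · intro hi
    have hm : lab i ∈ trace G w u := by
      rw [h, List.mem_toFinset]; exact List.mem_map.2 ⟨i, hi, rfl⟩
    exact ⟨hS i hi, (mem_trace.1 hm).2⟩

/-- Labels in which seven blocks are prescribed. -/
theorem exists_labels (hG : G.IsSRGWith 77 16 0 4) (w : V) :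
    ∃ lab : ℕ → V, Labelling G w lab ∧
      ∀ b ∈ initBlocks, ∃ u ∈ far G w, enc G lab u = b := by
  have hd : ∀ z : V, (G.neighborFinset z).card = 16 := fun z => hG.regular z
  obtain ⟨a, ha'⟩ : (G.neighborFinset w).Nonempty := card_pos.1 (by rw [hd]; norm_num)
  have ha : G.Adj w a := (G.mem_neighborFinset w a).1 ha'
  obtain ⟨u, hu⟩ : ((far G w).filter fun u => G.Adj u a).Nonempty :=
    card_pos.1 (by rw [card_point_blocks hG ha]; norm_num)
  obtain ⟨hu, hua⟩ := mem_filter.1 hu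
  have haK : a ∈ trace G w u := mem_trace.2 ⟨ha, hua⟩
  obtain ⟨p, q, r, hpq, hpr, hqr, hpqr⟩ := card_eq_three.1
    (show ((trace G w u).erase a).card = 3 by rw [card_erase_of_mem haK, card_trace hG hu])
  have hK : trace G w u = {a, p, q, r} := by rw [← insert_erase haK, hpqr]
  have hmem : ∀ t ∈ ({p, q, r} : Finset V), t ∈ trace G w u ∧ a ≠ t := by
    intro t ht
    rw [← hpqr] at ht
    exact ⟨(mem_erase.1 ht).2, (mem_erase.1 ht).1.symm⟩
  obtain ⟨hpK, hap⟩ := hmem p (by simp)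
  obtain ⟨hqK, haq⟩ := hmem q (by simp)
  obtain ⟨hrK, har⟩ := hmem r (by simp)
  obtain ⟨v₁, w₁, a₁, b₁, c₁, d₁, fv₁, fw₁, nv₁, nw₁, n₁, tv₁, tw₁⟩ :=
    exists_other_two hG ha (mem_trace.1 hpK).1 hap hu hua (mem_trace.1 hpK).2
  obtain ⟨v₂, w₂, a₂, b₂, c₂, d₂, fv₂, fw₂, nv₂, nw₂, n₂, tv₂, tw₂⟩ :=
    exists_other_two hG ha (mem_trace.1 hqK).1 haq hu hua (mem_trace.1 hqK).2
  obtain ⟨v₃, w₃, a₃, b₃, c₃, d₃, fv₃, fw₃, nv₃, nw₃, n₃, tv₃, tw₃⟩ :=
    exists_other_two hG ha (mem_trace.1 hrK).1 har hu hua (mem_trace.1 hrK).2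
  set X : V → Finset V := fun z => trace G w z \ trace G w u with hX
  -- each further block adds two points
  have hXc : ∀ z t, z ∈ far G w → z ≠ u → t ∈ trace G w u → a ≠ t → a ∈ trace G w z →
      t ∈ trace G w z → (X z).card = 2 := by
    intro z t hz hzu htu hat haz htz
    have h1 := card_sdiff_add_card_inter (trace G w z) (trace G w u)
    rw [trace_inter_eq hG hz hu hzu hat haz htz haK htu, card_pair hat, card_trace hG hz] at h1
    simp only [hX]
    omega
  have hXd : ∀ z z' t, z ∈ far G w → z' ∈ far G w → z ≠ z' → t ∈ trace G w u → a ≠ t →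
      a ∈ trace G w z → t ∈ trace G w z → a ∈ trace G w z' → t ∈ trace G w z' →
      Disjoint (X z) (X z') := by
    intro z z' t hz hz' hne htu hat h1 h2 h3 h4
    rw [disjoint_left]
    intro x hx hx'
    have : x ∈ ({a, t} : Finset V) := by
      rw [← trace_inter_eq hG hz hz' hne hat h1 h2 h3 h4]
      exact mem_inter.2 ⟨(mem_sdiff.1 hx).1, (mem_sdiff.1 hx').1⟩
    simp only [mem_insert, mem_singleton] at this
    rcases this with rfl | rfl
    exacts [(mem_sdiff.1 hx).2 haK, (mem_sdiff.1 hx).2 htu]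
  have hXt : ∀ z z' t t', z ∈ far G w → z' ∈ far G w → z ≠ u → z' ≠ u → t ∈ trace G w u →
      t' ∈ trace G w u → t ≠ t' → a ≠ t → a ≠ t' → a ∈ trace G w z → t ∈ trace G w z →
      a ∈ trace G w z' → t' ∈ trace G w z' → Disjoint (X z) (X z') := by
    intro z z' t t' hz hz' hzu hzu' ht ht' htt hat hat' h1 h2 h3 h4
    rw [disjoint_left]
    intro x hx hx'
    obtain ⟨hxz, hxu⟩ := mem_sdiff.1 hx
    obtain ⟨hxz', -⟩ := mem_sdiff.1 hx'
    have hzz : z ≠ z' := by
      rintro rfl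
      have hi := trace_inter_eq hG hz hu hzu hat h1 h2 haK ht
      have : t' ∈ ({a, t} : Finset V) := hi ▸ mem_inter.2 ⟨h4, ht'⟩
      simp only [mem_insert, mem_singleton] at this
      rcases this with e | e
      exacts [hat' e.symm, htt e.symm]
    refine no_triangle hG (w := w) (a := a) (b := t) (c := t') (d := x) (u₁ := u) (u₂ := z) (u₃ := z')
      ?_ ?_ ha (mem_trace.1 ht).1 (mem_trace.1 ht').1 (mem_trace.1 hxz).1 hua (mem_trace.1 ht).2
      (mem_trace.1 ht').2 (mem_trace.1 h1).2 (mem_trace.1 h2).2 (mem_trace.1 hxz).2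
      (mem_trace.1 h3).2 (mem_trace.1 h4).2 (mem_trace.1 hxz').2
    · have hxa : a ≠ x := fun e => hxu (e ▸ haK)
      have hxt : t ≠ x := fun e => hxu (e ▸ ht)
      have hxt' : t' ≠ x := fun e => hxu (e ▸ ht')
      simp [hat, hat', htt, hxa, hxt, hxt']
    · simp [Ne.symm (mem_far.1 hu).1, Ne.symm (mem_far.1 hz).1, Ne.symm (mem_far.1 hz').1,
        Ne.symm hzu, Ne.symm hzu', hzz]
  have mk : ∀ {z t x y : V}, trace G w z = {a, t, x, y} → a ∈ trace G w z ∧ t ∈ trace G w z :=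
    fun h => by rw [h]; simp
  obtain ⟨av₁, pv₁⟩ := mk tv₁
  obtain ⟨aw₁, pw₁⟩ := mk tw₁
  obtain ⟨av₂, qv₂⟩ := mk tv₂
  obtain ⟨aw₂, qw₂⟩ := mk tw₂
  obtain ⟨av₃, rv₃⟩ := mk tv₃
  obtain ⟨aw₃, rw₃⟩ := mk tw₃
  have D11 := hXd v₁ w₁ p fv₁ fw₁ n₁ hpK hap av₁ pv₁ aw₁ pw₁
  have D22 := hXd v₂ w₂ q fv₂ fw₂ n₂ hqK haq av₂ qv₂ aw₂ qw₂
  have D33 := hXd v₃ w₃ r fv₃ fw₃ n₃ hrK har av₃ rv₃ aw₃ rw₃
  have d12 := hXt v₁ v₂ p q fv₁ fv₂ nv₁ nv₂ hpK hqK hpq hap haq av₁ pv₁ av₂ qv₂
  have d12' := hXt v₁ w₂ p q fv₁ fw₂ nv₁ nw₂ hpK hqK hpq hap haq av₁ pv₁ aw₂ qw₂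
  have e12 := hXt w₁ v₂ p q fw₁ fv₂ nw₁ nv₂ hpK hqK hpq hap haq aw₁ pw₁ av₂ qv₂
  have e12' := hXt w₁ w₂ p q fw₁ fw₂ nw₁ nw₂ hpK hqK hpq hap haq aw₁ pw₁ aw₂ qw₂
  have d13 := hXt v₁ v₃ p r fv₁ fv₃ nv₁ nv₃ hpK hrK hpr hap har av₁ pv₁ av₃ rv₃
  have d13' := hXt v₁ w₃ p r fv₁ fw₃ nv₁ nw₃ hpK hrK hpr hap har av₁ pv₁ aw₃ rw₃
  have e13 := hXt w₁ v₃ p r fw₁ fv₃ nw₁ nv₃ hpK hrK hpr hap har aw₁ pw₁ av₃ rv₃
  have e13' := hXt w₁ w₃ p r fw₁ fw₃ nw₁ nw₃ hpK hrK hpr hap har aw₁ pw₁ aw₃ rw₃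
  have d23 := hXt v₂ v₃ q r fv₂ fv₃ nv₂ nv₃ hqK hrK hqr haq har av₂ qv₂ av₃ rv₃
  have d23' := hXt v₂ w₃ q r fv₂ fw₃ nv₂ nw₃ hqK hrK hqr haq har av₂ qv₂ aw₃ rw₃
  have e23 := hXt w₂ v₃ q r fw₂ fv₃ nw₂ nv₃ hqK hrK hqr haq har aw₂ qw₂ av₃ rv₃
  have e23' := hXt w₂ w₃ q r fw₂ fw₃ nw₂ nw₃ hqK hrK hqr haq har aw₂ qw₂ aw₃ rw₃
  set U := trace G w u ∪ (X v₁ ∪ (X w₁ ∪ (X v₂ ∪ (X w₂ ∪ (X v₃ ∪ X w₃))))) with hU
  have hUc : U.card = 16 := by
    have hdu : ∀ z, Disjoint (trace G w u) (X z) := fun z => disjoint_sdiff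
    rw [hU, card_union_of_disjoint (by simp [disjoint_union_right, hdu]),
      card_union_of_disjoint (by simp [disjoint_union_right, D11, d12, d12', d13, d13']),
      card_union_of_disjoint (by simp [disjoint_union_right, e12, e12', e13, e13']),
      card_union_of_disjoint (by simp [disjoint_union_right, D22, d23, d23']),
      card_union_of_disjoint (by simp [disjoint_union_right, e23, e23']),
      card_union_of_disjoint D33, card_trace hG hu, hXc v₁ p fv₁ nv₁ hpK hap av₁ pv₁,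
      hXc w₁ p fw₁ nw₁ hpK hap aw₁ pw₁, hXc v₂ q fv₂ nv₂ hqK haq av₂ qv₂,
      hXc w₂ q fw₂ nw₂ hqK haq aw₂ qw₂, hXc v₃ r fv₃ nv₃ hrK har av₃ rv₃,
      hXc w₃ r fw₃ nw₃ hrK har aw₃ rw₃]
  set L := [a, p, q, r, a₁, b₁, c₁, d₁, a₂, b₂, c₂, d₂, a₃, b₃, c₃, d₃] with hL
  have hsubL : ∀ (z : V) (S : Finset V), trace G w z = S → (∀ x ∈ S, x ∈ L) →
      X z ⊆ L.toFinset := by
    intro z S h1 h2 x hx
    exact List.mem_toFinset.2 (h2 x (h1 ▸ (mem_sdiff.1 hx).1))
  have hUL : U ⊆ L.toFinset := by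
    have h0 : trace G w u ⊆ L.toFinset := by rw [hK]; intro x hx; simp at hx; simp [hL]; tauto
    rw [hU]
    refine union_subset h0 (union_subset ?_ (union_subset ?_ (union_subset ?_ (union_subset ?_
      (union_subset ?_ ?_)))))
    · exact hsubL v₁ _ tv₁ (by simp [hL])
    · exact hsubL w₁ _ tw₁ (by simp [hL])
    · exact hsubL v₂ _ tv₂ (by simp [hL])
    · exact hsubL w₂ _ tw₂ (by simp [hL])
    · exact hsubL v₃ _ tv₃ (by simp [hL])
    · exact hsubL w₃ _ tw₃ (by simp [hL])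
  have hLlen : L.length = 16 := rfl
  have hLn : L.Nodup := nodup_of_card (le_antisymm (List.toFinset_card_le L)
    (by rw [hLlen, ← hUc]; exact card_le_card hUL))
  have hLU : L.toFinset = U :=
    (eq_of_subset_of_card_le hUL (by rw [List.toFinset_card_of_nodup hLn, hLlen, hUc])).symm
  have hUN : U = G.neighborFinset w := by
    refine eq_of_subset_of_card_le (fun x hx => ?_) (by rw [hUc, hd])
    rw [G.mem_neighborFinset]
    simp only [hU, hX, mem_union, mem_sdiff] at hx
    rcases hx with h | h | h | h | h | h | h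
    · exact (mem_trace.1 h).1
    all_goals exact (mem_trace.1 h.1).1
  have hlab : Labelling G w fun i => L.getD i w := by
    constructor
    · intro i hi j hj e
      have hi' : i < L.length := hi
      have hj' : j < L.length := hj
      simp only [List.getD_eq_getElem _ _ hi', List.getD_eq_getElem _ _ hj'] at e
      exact (hLn.getElem_inj_iff).1 e
    · intro x
      rw [← G.mem_neighborFinset, ← hUN, ← hLU, List.mem_toFinset, List.mem_iff_getElem]
      constructor
      · rintro ⟨i, hi, rfl⟩; exact ⟨i, hi, List.getD_eq_getElem _ _ hi⟩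
      · rintro ⟨i, hi, e⟩
        exact ⟨i, hi, by rw [← e]; exact (List.getD_eq_getElem _ _ _).symm⟩
  refine ⟨_, hlab, ?_⟩
  intro b hb
  rw [initBlocks_eq] at hb
  simp only [List.mem_cons, List.not_mem_nil, or_false] at hb
  have go : ∀ (z : V) (S : List ℕ), z ∈ far G w → (∀ i ∈ S, i < 16) →
      trace G w z = (S.map fun i => L.getD i w).toFinset →
      ∃ u ∈ far G w, enc G (fun i => L.getD i w) u = listMask S :=
    fun z S hz hS h => ⟨z, hz, enc_eq_of_trace hlab S hS h⟩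
  rcases hb with rfl | rfl | rfl | rfl | rfl | rfl | rfl
  · exact go u _ hu (by decide) (by rw [hK]; simp [hL])
  · exact go v₁ _ fv₁ (by decide) (by rw [tv₁]; simp [hL])
  · exact go w₁ _ fw₁ (by decide) (by rw [tw₁]; simp [hL])
  · exact go v₂ _ fv₂ (by decide) (by rw [tv₂]; simp [hL])
  · exact go w₂ _ fw₂ (by decide) (by rw [tw₂]; simp [hL])
  · exact go v₃ _ fv₃ (by decide) (by rw [tv₃]; simp [hL])
  · exact go w₃ _ fw₃ (by decide) (by rw [tw₃]; simp [hL])

/-- Pairs lie in three blocks. -/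
theorem card_item (hG : G.IsSRGWith 77 16 0 4) (hl : Labelling G w lab) {i j : ℕ} (hi : i < 16)
    (hj : j < 16) (hij : i ≠ j) :
    (((far G w).image (enc G lab)).filter fun b => b &&& listMask [i, j] = listMask [i, j]).card
      = 3 := by
  have key : ∀ u, enc G lab u &&& listMask [i, j] = listMask [i, j] ↔
      G.Adj u (lab i) ∧ G.Adj u (lab j) := by
    intro u
    constructor
    · intro h
      have hbit : ∀ t ∈ [i, j], G.Adj u (lab t) := by
        intro t ht
        have e : (enc G lab u &&& listMask [i, j]).testBit t = true := by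
          rw [h, testBit_listMask]; simpa using ht
        rw [Nat.testBit_and, Bool.and_eq_true, testBit_enc] at e
        exact e.1.2
      exact ⟨hbit i (by simp), hbit j (by simp)⟩
    · rintro ⟨h1, h2⟩
      apply Nat.eq_of_testBit_eq
      intro t
      rw [Bool.eq_iff_iff, Nat.testBit_and, Bool.and_eq_true, testBit_listMask, decide_eq_true_eq,
        testBit_enc]
      refine ⟨fun h => h.2, fun h => ⟨?_, h⟩⟩
      simp only [List.mem_cons, List.not_mem_nil, or_false] at h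
      rcases h with rfl | rfl
      exacts [⟨hi, h1⟩, ⟨hj, h2⟩]
  have hset : ((far G w).image (enc G lab)).filter (fun b => b &&& listMask [i, j] = listMask [i, j]) =
      ((far G w).filter fun u => G.Adj u (lab i) ∧ G.Adj u (lab j)).image (enc G lab) := by
    ext b
    simp only [mem_filter, mem_image]
    constructor
    · rintro ⟨⟨u, hu, rfl⟩, h⟩; exact ⟨u, ⟨hu, (key u).1 h⟩, rfl⟩
    · rintro ⟨u, ⟨hu, h⟩, rfl⟩; exact ⟨⟨u, hu, rfl⟩, (key u).2 h⟩
  rw [hset, card_image_of_injOn ((enc_injOn hG hl).mono fun x hx => (mem_filter.1 hx).1)]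
  exact card_pair_blocks hG ((hl.mem _).2 ⟨i, hi, rfl⟩) ((hl.mem _).2 ⟨j, hj, rfl⟩)
    fun e => hij (hl.inj i hi j hj e)

theorem cand_nodup : cand.Nodup := by
  refine List.Nodup.map_on ?_ (List.nodup_sublistsLen _ List.nodup_range)
  intro l hl l' hl' e
  have hs := (List.mem_sublistsLen.1 hl).1
  have hs' := (List.mem_sublistsLen.1 hl').1
  refine List.Perm.eq_of_sortedLE (List.pairwise_le_range.sublist hs).sortedLE
    (List.pairwise_le_range.sublist hs').sortedLE
    ((List.perm_ext_iff_of_nodup (List.nodup_range.sublist hs) (List.nodup_range.sublist hs')).2 ?_)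
  intro i
  have := congrArg (fun m => m.testBit i) e
  simpa [testBit_listMask] using this

theorem exists_other_bit (hG : G.IsSRGWith 77 16 0 4) (hl : Labelling G w lab) {u : V}
    (hu : u ∈ far G w) (t : ℕ) :
    ∃ i < 16, i ≠ t ∧ (enc G lab u).testBit i = true := by
  by_contra hall
  push Not at hall
  have hsub : trace G w u ⊆ {lab t} := by
    intro x hx
    obtain ⟨i, hi, rfl⟩ := (hl.mem x).1 (mem_trace.1 hx).1
    by_cases hit : i = t
    · rw [hit]; exact mem_singleton_self _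
    · exact absurd ((testBit_enc lab u i).2 ⟨hi, (mem_trace.1 hx).2⟩) (hall i hi hit)
  have := card_le_card hsub
  rw [card_trace hG hu, card_singleton] at this
  omega

theorem and_pair {m i j : ℕ} (hi : m.testBit i = true) (hj : m.testBit j = true) :
    m &&& listMask [i, j] = listMask [i, j] := by
  apply Nat.eq_of_testBit_eq
  intro t
  rw [Bool.eq_iff_iff, Nat.testBit_and, Bool.and_eq_true, testBit_listMask, decide_eq_true_eq]
  refine ⟨fun h => h.2, fun h => ⟨?_, h⟩⟩
  simp only [List.mem_cons, List.not_mem_nil, or_false] at h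
  rcases h with rfl | rfl
  exacts [hi, hj]

theorem relabel_enc (hl : Labelling G w lab) (π : ℕ → ℕ) (p : ℕ)
    (hπ : ∀ i, π i = (p >>> (4 * i)) &&& 15) (lab' : ℕ → V) (h16 : ∀ i < 16, π i < 16)
    (hsurj : ∀ j < 16, ∃ i < 16, π i = j) (hlab' : ∀ i < 16, lab' (π i) = lab i) (u : V) :
    enc G lab' u = relabel p (enc G lab u) := by
  apply Nat.eq_of_testBit_eq
  intro j
  rw [Bool.eq_iff_iff, testBit_enc, relabel, testBit_listMask, decide_eq_true_eq, List.mem_map]
  simp only [List.mem_filter, List.mem_range, testBit_enc, ← hπ]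
  constructor
  · rintro ⟨hj, hadj⟩
    obtain ⟨i, hi, rfl⟩ := hsurj j hj
    exact ⟨i, ⟨hi, hi, by rwa [← hlab' i hi]⟩, rfl⟩
  · rintro ⟨i, ⟨hi, -, hadj⟩, rfl⟩
    exact ⟨h16 i hi, by rwa [hlab' i hi]⟩

/-- Labels in which the traces are the isotropic planes. -/
theorem exists_std_labels (hG : G.IsSRGWith 77 16 0 4) (w : V) :
    ∃ lab : ℕ → V, Labelling G w lab ∧ (far G w).image (enc G lab) = stdAll.toFinset := by
  obtain ⟨lab, hl, hinit⟩ := exists_labels hG w
  set T := (far G w).image (enc G lab) with hT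
  set T0 := T.filter fun b => b.testBit 0 = true with hT0
  have hin : ∀ b ∈ initBlocks, b ∈ T0 := by
    intro b hb
    obtain ⟨u, hu, rfl⟩ := hinit b hb
    refine mem_filter.2 ⟨mem_image_of_mem _ hu, ?_⟩
    rw [initBlocks_eq] at hb
    simp only [List.mem_cons, List.not_mem_nil, or_false] at hb
    rcases hb with e | e | e | e | e | e | e <;> rw [e] <;> decide
  have hk0 : ∀ q ∈ items0, (T0.filter fun b => b &&& q = q).card = 3 := by
    intro q hq
    obtain ⟨x, hx, rfl⟩ := List.mem_map.1 hq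
    rw [List.mem_range'_1] at hx
    rw [← card_item hG hl (i := 0) (j := x) (by norm_num) (by omega) (by omega)]
    congr 1
    rw [hT0, filter_filter]
    refine filter_congr fun b _ => ⟨fun h => h.2, fun h => ⟨?_, h⟩⟩
    have e : (b &&& listMask [0, x]).testBit 0 = true := by rw [h, testBit_listMask]; simp
    rw [Nat.testBit_and, Bool.and_eq_true] at e
    exact e.1
  have hcov0 : ∀ c ∈ T0, ∃ q ∈ items0, c &&& q = q := by
    intro c hc
    obtain ⟨hc, hc0⟩ := mem_filter.1 hc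
    obtain ⟨u, hu, rfl⟩ := mem_image.1 hc
    obtain ⟨i, hi, hi0, hib⟩ := exists_other_bit hG hl hu 0
    exact ⟨_, List.mem_map.2 ⟨i, List.mem_range'_1.2 ⟨by omega, by omega⟩, rfl⟩, and_pair hc0 hib⟩
  have hTc : ∀ {lab : ℕ → V}, Labelling G w lab → ∀ x ∈ (far G w).image (enc G lab), x ∈ cand := by
    intro lab hl x hx
    obtain ⟨u, hu, rfl⟩ := mem_image.1 hx
    exact enc_mem_cand hG hl hu
  have hinit_nd : initBlocks.Nodup := by decide
  obtain ⟨l, hl0, hgoal⟩ := search_sound (T := T0) hk0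
    (ok_step hG hl (filter_subset _ _)) hcov0 _ _ _ search_zero hinit_nd
    ((cand_nodup.filter _).filter _) hin
    (fun x hx => by
      have := (List.mem_filter.1 (List.mem_filter.1 hx).1).2
      simp only [Bool.and_eq_true, Bool.not_eq_true', List.contains_eq_mem,
        decide_eq_false_iff_not] at this
      exact this.2)
    (fun x hx => by
      by_cases hxi : x ∈ initBlocks
      · exact Or.inl hxi
      · refine Or.inr (List.mem_filter.2 ⟨List.mem_filter.2 ⟨hTc hl x (mem_filter.1 hx).1, ?_⟩,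
          ok_blk hG hl (filter_subset _ _) _ _ hin hx hxi⟩)
        simp [(mem_filter.1 hx).2, hxi])
  simp only [goalZero, List.any_eq_true, Bool.and_eq_true, decide_eq_true_eq, List.all_eq_true,
    List.contains_iff_mem] at hgoal
  obtain ⟨p, hp, hpn, hpz⟩ := hgoal
  have hv := relabels_valid
  simp only [List.all_eq_true, Bool.and_eq_true, decide_eq_true_eq, beq_iff_eq] at hv
  obtain ⟨hπn, hπ0⟩ := hv p hp
  set π : ℕ → ℕ := fun i => (p >>> (4 * i)) &&& 15 with hπ
  have h16 : ∀ i < 16, π i < 16 := fun i _ => Nat.lt_succ_of_le Nat.and_le_right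
  have hsurj : ∀ j < 16, ∃ i < 16, π i = j := by
    intro j hj
    have h : ((List.range 16).map π).toFinset = Finset.range 16 := by
      refine eq_of_subset_of_card_le (fun x hx => ?_) ?_
      · obtain ⟨i, hi, rfl⟩ := List.mem_map.1 (List.mem_toFinset.1 hx)
        exact Finset.mem_range.2 (h16 i (List.mem_range.1 hi))
      · rw [List.toFinset_card_of_nodup hπn]; simp
    have := h.symm ▸ Finset.mem_range.2 hj
    obtain ⟨i, hi, e⟩ := List.mem_map.1 (List.mem_toFinset.1 this)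
    exact ⟨i, List.mem_range.1 hi, e⟩
  have hinj : ∀ i < 16, ∀ k < 16, π i = π k → i = k := by
    intro i hi k hk e
    exact List.inj_on_of_nodup_map hπn (List.mem_range.2 hi) (List.mem_range.2 hk) e
  choose inv hinv16 hinv using hsurj
  set lab' : ℕ → V := fun j => if h : j < 16 then lab (inv j h) else w with hlab'
  have hlab'π : ∀ i < 16, lab' (π i) = lab i := by
    intro i hi
    simp only [hlab', dif_pos (h16 i hi)]
    rw [hinj _ (hinv16 _ _) i hi (hinv _ _)]
  have hl' : Labelling G w lab' := by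
    constructor
    · intro i hi j hj e
      simp only [hlab', dif_pos hi, dif_pos hj] at e
      have := hl.inj _ (hinv16 i hi) _ (hinv16 j hj) e
      rw [← hinv i hi, ← hinv j hj, this]
    · intro x
      constructor
      · intro hx
        obtain ⟨i, hi, rfl⟩ := (hl.mem x).1 hx
        exact ⟨π i, h16 i hi, hlab'π i hi⟩
      · rintro ⟨j, hj, rfl⟩
        simp only [hlab', dif_pos hj]
        exact (hl.mem _).2 ⟨_, hinv16 j hj, rfl⟩
  have henc : ∀ u, enc G lab' u = relabel p (enc G lab u) :=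
    relabel_enc hl π p (fun _ => rfl) lab' h16 (fun j hj => ⟨inv j hj, hinv16 j hj, hinv j hj⟩) hlab'π
  have ha : G.Adj w (lab 0) := (hl.mem _).2 ⟨0, by norm_num, rfl⟩
  have h15 : T0.card = 15 := by
    have he : T0 = ((far G w).filter fun u => G.Adj u (lab 0)).image (enc G lab) := by
      ext b
      simp only [hT0, hT, mem_filter, mem_image]
      constructor
      · rintro ⟨⟨u, hu, rfl⟩, h⟩; exact ⟨u, ⟨hu, ((testBit_enc lab u 0).1 h).2⟩, rfl⟩
      · rintro ⟨u, ⟨hu, h⟩, rfl⟩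
        exact ⟨⟨u, hu, rfl⟩, (testBit_enc lab u 0).2 ⟨by norm_num, h⟩⟩
    rw [he, card_image_of_injOn ((enc_injOn hG hl).mono fun x hx => (mem_filter.1 hx).1),
      card_point_blocks hG ha]
  have hlnd : l.Nodup := hpn.of_map _
  have hlen : l.length = 15 := by rw [← List.toFinset_card_of_nodup hlnd, hl0, h15]
  have hz : (l.map (relabel p)).toFinset = stdZero.toFinset := by
    refine eq_of_subset_of_card_le (fun x hx => ?_) ?_
    · obtain ⟨b, hb, rfl⟩ := List.mem_map.1 (List.mem_toFinset.1 hx)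
      exact List.mem_toFinset.2 (hpz b hb)
    · rw [List.toFinset_card_of_nodup hpn, List.toFinset_card_of_nodup stdAll_facts.2.2.2.2,
        List.length_map, hlen, stdAll_facts.2.2.2.1]
  set T' := (far G w).image (enc G lab') with hT'
  have hzero : ∀ b, b ∈ stdZero ↔ b ∈ T' ∧ b.testBit 0 = true := by
    intro b
    rw [← List.mem_toFinset, ← hz, List.mem_toFinset, List.mem_map]
    have h0 : lab' 0 = lab 0 := by
      have := hlab'π 0 (by norm_num)
      rwa [show π 0 = 0 by simp [hπ, hπ0]] at this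
    constructor
    · rintro ⟨c, hc, rfl⟩
      obtain ⟨hc, hc0⟩ := mem_filter.1 (hl0 ▸ List.mem_toFinset.2 hc)
      obtain ⟨u, hu, rfl⟩ := mem_image.1 hc
      rw [← henc]
      refine ⟨mem_image_of_mem _ hu, (testBit_enc lab' u 0).2 ⟨by norm_num, ?_⟩⟩
      rw [h0]; exact ((testBit_enc lab u 0).1 hc0).2
    · rintro ⟨hb, hb0⟩
      obtain ⟨u, hu, rfl⟩ := mem_image.1 hb
      refine ⟨enc G lab u, List.mem_toFinset.1 (hl0.symm ▸ mem_filter.2 ⟨mem_image_of_mem _ hu,
        (testBit_enc lab u 0).2 ⟨by norm_num, ?_⟩⟩), (henc u).symm⟩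
      rw [← h0]; exact ((testBit_enc lab' u 0).1 hb0).2
  have hk : ∀ q ∈ itemsAll, (T'.filter fun b => b &&& q = q).card = 3 := by
    intro q hq
    obtain ⟨L, hL, rfl⟩ := List.mem_map.1 hq
    obtain ⟨hsub, hlen⟩ := List.mem_sublistsLen.1 hL
    obtain ⟨i, j, rfl⟩ := List.length_eq_two.1 hlen
    have hmem := hsub.subset
    have hnd := List.nodup_range.sublist hsub
    exact card_item hG hl' (List.mem_range.1 (hmem (by simp))) (List.mem_range.1 (hmem (by simp)))
      (by simpa using hnd)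
  have hcov : ∀ c ∈ T', ∃ q ∈ itemsAll, c &&& q = q := by
    intro c hc
    obtain ⟨u, hu, rfl⟩ := mem_image.1 hc
    obtain ⟨i, hi, -, hib⟩ := exists_other_bit hG hl' hu 16
    obtain ⟨j, hj, hji, hjb⟩ := exists_other_bit hG hl' hu i
    have hsl : ∀ x < 16, ∀ y < 16, x < y → [x, y] ∈ (List.range 16).sublistsLen 2 := by
      decide +kernel
    rcases lt_or_gt_of_ne hji with h | h
    · exact ⟨_, List.mem_map.2 ⟨_, hsl j hj i hi h, rfl⟩, and_pair hjb hib⟩
    · exact ⟨_, List.mem_map.2 ⟨_, hsl i hi j hj h, rfl⟩, and_pair hib hjb⟩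
  have hin' : ∀ x ∈ stdZero, x ∈ T' := fun x hx => ((hzero x).1 hx).1
  obtain ⟨l', hl'0, hgoal'⟩ := search_sound (T := T') hk (ok_step hG hl' (Subset.refl _)) hcov
    _ _ _ search_all stdAll_facts.2.2.2.2 ((cand_nodup.filter _).filter _) hin'
    (fun x hx hxz => by
      have := (List.mem_filter.1 (List.mem_filter.1 hx).1).2
      rw [((hzero x).1 hxz).2] at this
      simp at this)
    (fun x hx => by
      by_cases hxi : x ∈ stdZero
      · exact Or.inl hxi
      · refine Or.inr (List.mem_filter.2 ⟨List.mem_filter.2 ⟨hTc hl' x hx, ?_⟩,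
          ok_blk hG hl' (Subset.refl _) _ _ hin' hx hxi⟩)
        by_contra hb
        exact hxi ((hzero x).2 ⟨hx, by simpa using hb⟩))
  simp only [goalAll, List.all_eq_true, List.contains_iff_mem] at hgoal'
  refine ⟨lab', hl', eq_of_subset_of_card_le (fun x hx => ?_) ?_⟩
  · exact List.mem_toFinset.2 (hgoal' x (List.mem_toFinset.1 (hl'0.symm ▸ hx)))
  · rw [List.toFinset_card_of_nodup stdAll_facts.2.1, stdAll_facts.1,
      card_image_of_injOn (enc_injOn hG hl'), card_far hG]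

end Cfsg.Agent.H29.Srg77
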