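import Mathlib

/-!
A verified backtracking search for families of four-sets, given as bit masks, in which every listed
pair lies in three members, two members meet in at most two points, and no three members through a
point form a triangle.
-/

set_option autoImplicit false

namespace Cfsg.Agent.H29.Srg77

/-- At most two bits. -/
def le2 (x : ℕ) : Bool := (x &&& (x - 1)) &&& ((x &&& (x - 1)) - 1) == 0

/-- Exactly one bit. -/
def eq1 (x : ℕ) : Bool := x != 0 && x &&& (x - 1) == 0

/-- Exactly two bits. -/
def eq2 (x : ℕ) : Bool := x &&& (x - 1) != 0 && le2 x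

/-- No triangle with `c`. -/
def noTri (ls : List ℕ) (c : ℕ) : Bool :=
  ls.all fun d => ls.all fun e => !(eq2 (d &&& e) && eq1 (c &&& d &&& e))

/-- `c` can be added to `bl`. -/
def okBlk (bl : List ℕ) (c : ℕ) : Bool :=
  bl.all (fun b => le2 (b &&& c)) && noTri (bl.filter fun b => eq2 (b &&& c)) c

/-- The number of members containing `q`. -/
def cnt (q : ℕ) (l : List ℕ) : ℕ := l.countP fun b => b &&& q == q

/-- `d` can be added after `c`, given that it can be added to `bl`. -/
def okStep (bl : List ℕ) (c d : ℕ) : Bool :=
  le2 (c &&& d) &&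
    (!eq2 (c &&& d) || bl.all fun e => !(eq2 (e &&& d) && eq2 (e &&& c) && eq1 (e &&& c &&& d)))

/-- Scan for a deficient item with few possibilities, stopping at a tight one. -/
def pickAux (bl av : List ℕ) : List ℕ → Option (ℕ × ℕ) → Option (ℕ × ℕ)
  | [], best => best
  | q :: r, best =>
    bif decide (cnt q bl < 3) then
      (bif decide (cnt q bl + cnt q av ≤ 3) then some (q, 0)
      else
        pickAux bl av r (best.elim (some (q, cnt q bl + cnt q av)) fun p =>
          bif decide (cnt q bl + cnt q av < p.2) then some (q, cnt q bl + cnt q av) else some p))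
    else pickAux bl av r best

/-- A deficient item with few possibilities. -/
def pick (items bl av : List ℕ) : Option ℕ := (pickAux bl av items none).map Prod.fst

/-- Try the candidates in turn. -/
def branch (step : List ℕ → List ℕ → Bool) (q : ℕ) (bl : List ℕ) : List ℕ → List ℕ → Bool
  | [], _ => true
  | c :: cs, av =>
      bif decide (cnt q bl + cnt q av < 3) then true
      else step (c :: bl) ((av.erase c).filter (okStep bl c)) && branch step q bl cs (av.erase c)

/-- The search. -/
def search (items : List ℕ) (goal : List ℕ → Bool) : ℕ → List ℕ → List ℕ → Bool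
  | 0, _, _ => false
  | n + 1, bl, av =>
    match pick items bl av with
    | none => goal bl
    | some q => branch (search items goal n) q bl (av.filter fun b => b &&& q == q) av

theorem pickAux_spec (bl av : List ℕ) :
    ∀ (items : List ℕ) (best : Option (ℕ × ℕ)),
      (pickAux bl av items best = none → best = none ∧ ∀ q ∈ items, 3 ≤ cnt q bl) ∧
      ∀ q k, pickAux bl av items best = some (q, k) →
        (∃ k', best = some (q, k')) ∨ (q ∈ items ∧ cnt q bl < 3) := by
  intro items
  induction items with
  | nil =>
    intro best
    exact ⟨fun h => ⟨h, by simp⟩, fun q k h => Or.inl ⟨k, h⟩⟩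
  | cons a r ih =>
    intro best
    rw [pickAux]
    by_cases h1 : cnt a bl < 3
    · rw [decide_eq_true h1, cond_true]
      by_cases h2 : cnt a bl + cnt a av ≤ 3
      · rw [decide_eq_true h2, cond_true]
        refine ⟨fun h => by simp at h, fun q k h => Or.inr ?_⟩
        obtain ⟨rfl, -⟩ : a = q ∧ 0 = k := by simpa using h
        exact ⟨List.mem_cons_self .., h1⟩
      · rw [decide_eq_false h2, cond_false]
        have fresh : ∀ m, (pickAux bl av r (some (a, m)) = none → False) ∧
            ∀ q k, pickAux bl av r (some (a, m)) = some (q, k) → q ∈ a :: r ∧ cnt q bl < 3 := by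
          intro m
          refine ⟨fun h => by simpa using ((ih _).1 h).1, fun q k h => ?_⟩
          rcases (ih _).2 q k h with ⟨k', e⟩ | ⟨e, e'⟩
          · obtain ⟨rfl, -⟩ : a = q ∧ m = k' := by simpa using e
            exact ⟨List.mem_cons_self .., h1⟩
          · exact ⟨List.mem_cons_of_mem _ e, e'⟩
        rcases best with _ | ⟨x, k₀⟩
        · simp only [Option.elim_none]
          exact ⟨fun h => absurd h ((fresh _).1), fun q k h => Or.inr ((fresh _).2 q k h)⟩
        · simp only [Option.elim_some]
          by_cases h3 : cnt a bl + cnt a av < k₀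
          · rw [decide_eq_true h3, cond_true]
            exact ⟨fun h => absurd h ((fresh _).1), fun q k h => Or.inr ((fresh _).2 q k h)⟩
          · rw [decide_eq_false h3, cond_false]
            refine ⟨fun h => absurd ((ih _).1 h).1 (by simp), fun q k h => ?_⟩
            exact ((ih _).2 q k h).imp id fun e => ⟨List.mem_cons_of_mem _ e.1, e.2⟩
    · rw [decide_eq_false h1, cond_false]
      refine ⟨fun h => ⟨((ih _).1 h).1, fun q hq => ?_⟩, fun q k h => ?_⟩
      · rcases List.mem_cons.1 hq with rfl | hq
        exacts [not_lt.1 h1, ((ih _).1 h).2 q hq]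
      · exact ((ih _).2 q k h).imp id fun e => ⟨List.mem_cons_of_mem _ e.1, e.2⟩

theorem pick_spec (items bl av : List ℕ) :
    (pick items bl av = none → ∀ q ∈ items, 3 ≤ cnt q bl) ∧
      ∀ q, pick items bl av = some q → q ∈ items ∧ cnt q bl < 3 := by
  obtain ⟨h1, h2⟩ := pickAux_spec bl av items none
  unfold pick
  cases h : pickAux bl av items none with
  | none => exact ⟨fun _ => (h1 h).2, fun q e => by simp at e⟩
  | some p =>
    refine ⟨fun e => by simp at e, fun q e => ?_⟩
    obtain rfl : p.1 = q := by simpa using e
    exact (h2 p.1 p.2 h).resolve_left fun ⟨k, e⟩ => by simp at e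

theorem card_filter_le_cnt {T : Finset ℕ} {q : ℕ} {bl av : List ℕ}
    (hsub : ∀ x ∈ T, x ∈ bl ∨ x ∈ av) :
    (T.filter fun b => b &&& q = q).card ≤ cnt q bl + cnt q av := by
  rw [cnt, cnt, List.countP_eq_length_filter, List.countP_eq_length_filter, ← List.length_append]
  refine le_trans (Finset.card_le_card fun x hx => ?_) (List.toFinset_card_le _)
  obtain ⟨hx, hq⟩ := Finset.mem_filter.1 hx
  rw [List.mem_toFinset, List.mem_append, List.mem_filter, List.mem_filter, beq_iff_eq]
  exact (hsub x hx).imp (fun h => ⟨h, hq⟩) fun h => ⟨h, hq⟩

variable {T : Finset ℕ} {items : List ℕ} {goal : List ℕ → Bool}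
  (hk : ∀ q ∈ items, (T.filter fun b => b &&& q = q).card = 3)
  (hok : ∀ (bl : List ℕ) (c d : ℕ), (∀ b ∈ bl, b ∈ T) → c ∈ T → d ∈ T → c ∉ bl → d ∉ bl → d ≠ c →
    okStep bl c d = true)
  (hcov : ∀ c ∈ T, ∃ q ∈ items, c &&& q = q)

include hk hok hcov

theorem search_sound : ∀ (n : ℕ) (bl av : List ℕ), search items goal n bl av = true →
    bl.Nodup → av.Nodup → (∀ x ∈ bl, x ∈ T) → (∀ x ∈ av, x ∉ bl) →
    (∀ x ∈ T, x ∈ bl ∨ x ∈ av) →
    ∃ l : List ℕ, l.toFinset = T ∧ goal l = true := by
  intro n
  induction n with
  | zero => intro bl av h; simp [search] at h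
  | succ n ih =>
    intro bl av h hbl hav hin hdis hsub
    unfold search at h
    obtain ⟨hnone, hsome⟩ := pick_spec items bl av
    split at h
    · next hp =>
      refine ⟨bl, Finset.Subset.antisymm (fun x hx => hin x (List.mem_toFinset.1 hx))
        (fun x hx => ?_), h⟩
      rw [List.mem_toFinset]
      by_contra hxb
      obtain ⟨q, hq, hxq⟩ := hcov x hx
      have h3 := hnone hp q hq
      rw [cnt, List.countP_eq_length_filter, ← List.toFinset_card_of_nodup (hbl.filter _)] at h3
      have hlt : (bl.filter fun b => b &&& q == q).toFinset.card <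
          (T.filter fun b => b &&& q = q).card := by
        refine Finset.card_lt_card ((Finset.ssubset_iff_of_subset fun y hy => ?_).2
          ⟨x, Finset.mem_filter.2 ⟨hx, hxq⟩, fun hy => hxb ?_⟩)
        · rw [List.mem_toFinset, List.mem_filter, beq_iff_eq] at hy
          exact Finset.mem_filter.2 ⟨hin y hy.1, hy.2⟩
        · rw [List.mem_toFinset, List.mem_filter] at hy
          exact hy.1
      rw [hk q hq] at hlt
      omega
    · next q hp =>
      obtain ⟨hqi, hq3⟩ := hsome q hp
      have key : ∀ (cs av' : List ℕ), branch (search items goal n) q bl cs av' = true →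
          av'.Nodup → (∀ x ∈ av', x ∉ bl) → (∀ x ∈ T, x ∈ bl ∨ x ∈ av') →
          (∀ x ∈ cs, x ∈ av') → cs.Nodup → (∀ x ∈ av', x &&& q = q → x ∈ cs) →
          ∃ l : List ℕ, l.toFinset = T ∧ goal l = true := by
        intro cs
        induction cs with
        | nil =>
          intro av' _ _ _ hsub' _ _ hcs
          exfalso
          have h0 : cnt q av' = 0 := by
            rw [cnt, List.countP_eq_zero]
            intro x hx hxq
            exact absurd (hcs x hx (by simpa using hxq)) (by simp)
          have h3 := card_filter_le_cnt (q := q) hsub'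
          rw [hk q hqi] at h3
          omega
        | cons c cs ihc =>
          intro av' hb hav' hdis' hsub' hcsin hcnd hcs
          have hlt : ¬ cnt q bl + cnt q av' < 3 := by
            have h3 := card_filter_le_cnt (q := q) hsub'
            rw [hk q hqi] at h3
            omega
          rw [branch, decide_eq_false hlt, cond_false, Bool.and_eq_true] at hb
          have hcav : c ∈ av' := hcsin c (List.mem_cons_self ..)
          by_cases hcT : c ∈ T
          · refine ih (c :: bl) _ hb.1 (List.nodup_cons.2 ⟨hdis' c hcav, hbl⟩)
              ((hav'.erase c).filter _) ?_ ?_ ?_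
            · intro x hx
              rcases List.mem_cons.1 hx with rfl | hx
              exacts [hcT, hin x hx]
            · intro x hx hxc
              obtain ⟨hx, -⟩ := List.mem_filter.1 hx
              rw [hav'.mem_erase_iff] at hx
              rcases List.mem_cons.1 hxc with e | e
              exacts [hx.1 e, hdis' x hx.2 e]
            · intro x hx
              by_cases hxc : x ∈ c :: bl
              · exact Or.inl hxc
              · refine Or.inr (List.mem_filter.2 ⟨?_, hok bl c x hin hcT hx (hdis' c hcav)
                  (fun e => hxc (List.mem_cons_of_mem _ e))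
                  fun e => hxc (e ▸ List.mem_cons_self ..)⟩)
                rw [hav'.mem_erase_iff]
                exact ⟨fun e => hxc (e ▸ List.mem_cons_self ..),
                  (hsub' x hx).resolve_left fun e => hxc (List.mem_cons_of_mem _ e)⟩
          · refine ihc (av'.erase c) hb.2 (hav'.erase c)
              (fun x hx => hdis' x (List.mem_of_mem_erase hx)) ?_ ?_
              (List.nodup_cons.1 hcnd).2 ?_
            · intro x hx
              exact (hsub' x hx).imp id fun h' =>
                hav'.mem_erase_iff.2 ⟨fun e => hcT (e ▸ hx), h'⟩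
            · intro x hx
              exact hav'.mem_erase_iff.2
                ⟨fun e => (List.nodup_cons.1 hcnd).1 (e ▸ hx), hcsin x (List.mem_cons_of_mem _ hx)⟩
            · intro x hx hxq
              rw [hav'.mem_erase_iff] at hx
              exact (List.mem_cons.1 (hcs x hx.2 hxq)).resolve_left hx.1
      refine key _ av h hav hdis hsub (fun x hx => (List.mem_filter.1 hx).1) (hav.filter _) ?_
      exact fun x hx hxq => List.mem_filter.2 ⟨hx, by simpa using hxq⟩

end Cfsg.Agent.H29.Srg77
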