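import Cfsg.Agent.H29.Srg77Local
import Cfsg.Agent.H29.Srg77Check

/-!
The sixty traces on the neighbourhood of a vertex of a graph with parameters (77, 16, 0, 4), as bit
masks with respect to a labelling, satisfy the hypotheses of the search.
-/

set_option autoImplicit false

namespace Cfsg.Agent.H29.Srg77

open Finset

theorem testBit_listMask (l : List ℕ) (i : ℕ) : (listMask l).testBit i = decide (i ∈ l) := by
  induction l with
  | nil => simp [listMask]
  | cons a r ih =>
    have h : listMask (a :: r) = 2 ^ a ||| listMask r := rfl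
    rw [h, Nat.testBit_or, ih, Nat.testBit_two_pow]
    by_cases h1 : a = i
    · subst h1; simp
    · simp [h1, Ne.symm h1]

theorem nodup_of_card {α : Type*} [DecidableEq α] {l : List α} (h : l.toFinset.card = l.length) :
    l.Nodup := by
  rw [List.card_toFinset] at h
  rw [← (List.dedup_sublist l).eq_of_length h]
  exact List.nodup_dedup l

variable {V : Type*} [Fintype V] [DecidableEq V] {G : SimpleGraph V} [DecidableRel G.Adj]

/-- The vertices outside the closed neighbourhood. -/
def far (G : SimpleGraph V) [DecidableRel G.Adj] (w : V) : Finset V :=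
  univ.filter fun u => u ≠ w ∧ ¬ G.Adj w u

/-- The trace on the neighbourhood. -/
def trace (G : SimpleGraph V) [DecidableRel G.Adj] (w u : V) : Finset V :=
  G.neighborFinset w ∩ G.neighborFinset u

theorem mem_far {w u : V} : u ∈ far G w ↔ u ≠ w ∧ ¬ G.Adj w u := by simp [far]

theorem mem_trace {w u x : V} : x ∈ trace G w u ↔ G.Adj w x ∧ G.Adj u x := by simp [trace]

theorem card_far (hG : G.IsSRGWith 77 16 0 4) (w : V) : (far G w).card = 60 := by
  have h : far G w = univ \ insert w (G.neighborFinset w) := by ext u; simp [far]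
  have hd : (G.neighborFinset w).card = 16 := hG.regular w
  rw [h, card_sdiff_of_subset (subset_univ _), card_insert_of_notMem (by simp), card_univ, hG.card,
    hd]

theorem card_trace (hG : G.IsSRGWith 77 16 0 4) {w u : V} (hu : u ∈ far G w) :
    (trace G w u).card = 4 :=
  (common hG w u).2 (Ne.symm (mem_far.1 hu).1) (mem_far.1 hu).2

theorem mem_far_of_adj (hG : G.IsSRGWith 77 16 0 4) {w a x : V} (ha : G.Adj w a) (hx : G.Adj x a)
    (hne : x ≠ w) : x ∈ far G w :=
  mem_far.2 ⟨hne, fun h => not_adj_of_common hG ha.symm hx.symm h⟩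

/-- Two traces meet in at most two points. -/
theorem trace_inter_le (hG : G.IsSRGWith 77 16 0 4) {w u v : V} (hu : u ∈ far G w) (hv : v ∈ far G w)
    (hne : u ≠ v) : (trace G w u ∩ trace G w v).card ≤ 2 := by
  by_contra hlt
  obtain ⟨U, hU, hUc⟩ := exists_subset_card_eq (s := trace G w u ∩ trace G w v) (n := 3) (by omega)
  have hc : ({w, u, v} : Finset V).card = 3 := by
    rw [card_insert_of_notMem (by simp [Ne.symm (mem_far.1 hu).1, Ne.symm (mem_far.1 hv).1]),
      card_pair hne]
  refine no_k33 hG {w, u, v} U hc hUc fun t ht q hq => ?_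
  obtain ⟨h1, h2⟩ := mem_inter.1 (hU hq)
  simp only [mem_insert, mem_singleton] at ht
  rcases ht with rfl | rfl | rfl
  exacts [(mem_trace.1 h1).1, (mem_trace.1 h1).2, (mem_trace.1 h2).2]

theorem trace_injective (hG : G.IsSRGWith 77 16 0 4) {w u v : V} (hu : u ∈ far G w)
    (hv : v ∈ far G w) (h : trace G w u = trace G w v) : u = v := by
  by_contra hne
  have := trace_inter_le hG hu hv hne
  rw [h, inter_self, card_trace hG hv] at this
  omega

/-- A labelling of the neighbourhood of `w`. -/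
structure Labelling (G : SimpleGraph V) (w : V) (lab : ℕ → V) : Prop where
  inj : ∀ i < 16, ∀ j < 16, lab i = lab j → i = j
  mem : ∀ x, G.Adj w x ↔ ∃ i < 16, lab i = x

/-- The mask of a trace. -/
def enc (G : SimpleGraph V) [DecidableRel G.Adj] (lab : ℕ → V) (u : V) : ℕ :=
  listMask ((List.range 16).filter fun i => decide (G.Adj u (lab i)))

theorem testBit_enc (lab : ℕ → V) (u : V) (i : ℕ) :
    (enc G lab u).testBit i = true ↔ i < 16 ∧ G.Adj u (lab i) := by
  rw [enc, testBit_listMask, decide_eq_true_eq, List.mem_filter, List.mem_range, decide_eq_true_eq]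

theorem enc_inter (lab : ℕ → V) (u v : V) : enc G lab u &&& enc G lab v =
    listMask ((List.range 16).filter fun i => decide (G.Adj u (lab i) ∧ G.Adj v (lab i))) := by
  apply Nat.eq_of_testBit_eq
  intro i
  rw [Bool.eq_iff_iff, Nat.testBit_and, Bool.and_eq_true, testBit_enc, testBit_enc,
    testBit_listMask, decide_eq_true_eq, List.mem_filter, List.mem_range, decide_eq_true_eq]
  tauto

variable {w : V} {lab : ℕ → V}

theorem length_labels (hl : Labelling G w lab) (P : V → Prop) [DecidablePred P] :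
    ((List.range 16).filter fun i => decide (P (lab i))).length =
      ((G.neighborFinset w).filter P).card := by
  rw [← List.toFinset_card_of_nodup (List.nodup_range.filter _)]
  refine card_bij (fun i _ => lab i) ?_ ?_ ?_
  · intro i hi
    rw [List.mem_toFinset, List.mem_filter, List.mem_range, decide_eq_true_eq] at hi
    rw [mem_filter, G.mem_neighborFinset]
    exact ⟨(hl.mem _).2 ⟨i, hi.1, rfl⟩, hi.2⟩
  · intro i hi j hj e
    rw [List.mem_toFinset, List.mem_filter, List.mem_range] at hi hj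
    exact hl.inj i hi.1 j hj.1 e
  · intro x hx
    rw [mem_filter, G.mem_neighborFinset] at hx
    obtain ⟨i, hi, rfl⟩ := (hl.mem x).1 hx.1
    exact ⟨i, by rw [List.mem_toFinset, List.mem_filter, List.mem_range, decide_eq_true_eq]
                 exact ⟨hi, hx.2⟩, rfl⟩

theorem length_common (hl : Labelling G w lab) (u v : V) :
    ((List.range 16).filter fun i => decide (G.Adj u (lab i) ∧ G.Adj v (lab i))).length =
      (trace G w u ∩ trace G w v).card := by
  rw [length_labels hl (fun x => G.Adj u x ∧ G.Adj v x)]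
  congr 1
  ext x
  simp only [mem_filter, G.mem_neighborFinset, mem_inter, mem_trace]
  tauto

theorem enc_mem_cand (hG : G.IsSRGWith 77 16 0 4) (hl : Labelling G w lab) {u : V}
    (hu : u ∈ far G w) : enc G lab u ∈ cand := by
  refine List.mem_map.2 ⟨_, List.mem_sublistsLen.2 ⟨List.filter_sublist, ?_⟩, rfl⟩
  rw [length_labels hl (fun x => G.Adj u x), ← card_trace hG hu]
  congr 1
  ext x
  simp [mem_trace]

theorem enc_injOn (hG : G.IsSRGWith 77 16 0 4) (hl : Labelling G w lab) :
    Set.InjOn (enc G lab) (far G w : Set V) := by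
  intro u hu v hv h
  refine trace_injective hG hu hv ?_
  ext x
  rw [mem_trace, mem_trace, and_congr_right_iff]
  intro hx
  obtain ⟨i, hi, rfl⟩ := (hl.mem x).1 hx
  have e : (enc G lab u).testBit i = (enc G lab v).testBit i := by rw [h]
  rw [Bool.eq_iff_iff, testBit_enc, testBit_enc] at e
  exact ⟨fun hh => (e.1 ⟨hi, hh⟩).2, fun hh => (e.2 ⟨hi, hh⟩).2⟩

theorem inter_codes (hG : G.IsSRGWith 77 16 0 4) (hl : Labelling G w lab) {u v : V}
    (hu : u ∈ far G w) (hv : v ∈ far G w) (hne : u ≠ v) :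
    le2 (enc G lab u &&& enc G lab v) = true ∧
      (eq2 (enc G lab u &&& enc G lab v) = true → (trace G w u ∩ trace G w v).card = 2) := by
  have hle := trace_inter_le hG hu hv hne
  have hs := small_popcounts
  simp only [List.all_eq_true, List.mem_range, Bool.and_eq_true, beq_iff_eq] at hs
  obtain ⟨⟨h1, h2⟩, -⟩ := hs _ (by omega : (trace G w u ∩ trace G w v).card < 3) _
    (List.mem_sublistsLen.2 ⟨List.filter_sublist, length_common hl u v⟩)
  rw [enc_inter]
  exact ⟨h1, fun h => by rw [h2, beq_iff_eq] at h; exact h⟩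

theorem inter_three (hG : G.IsSRGWith 77 16 0 4) (hl : Labelling G w lab) {u v z : V}
    (hu : u ∈ far G w) (hv : v ∈ far G w) (hne : u ≠ v)
    (h : eq1 (enc G lab z &&& enc G lab u &&& enc G lab v) = true) :
    (trace G w z ∩ (trace G w u ∩ trace G w v)).card = 1 := by
  have hle := trace_inter_le hG hu hv hne
  have hm : enc G lab z &&& enc G lab u &&& enc G lab v = listMask ((List.range 16).filter fun i =>
      decide (G.Adj z (lab i) ∧ G.Adj u (lab i) ∧ G.Adj v (lab i))) := by
    apply Nat.eq_of_testBit_eq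
    intro i
    rw [Bool.eq_iff_iff, Nat.testBit_and, Nat.testBit_and, Bool.and_eq_true, Bool.and_eq_true,
      testBit_enc, testBit_enc, testBit_enc, testBit_listMask, decide_eq_true_eq, List.mem_filter,
      List.mem_range, decide_eq_true_eq]
    tauto
  have hlen : ((List.range 16).filter fun i =>
      decide (G.Adj z (lab i) ∧ G.Adj u (lab i) ∧ G.Adj v (lab i))).length =
      (trace G w z ∩ (trace G w u ∩ trace G w v)).card := by
    rw [length_labels hl (fun x => G.Adj z x ∧ G.Adj u x ∧ G.Adj v x)]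
    congr 1
    ext x
    simp only [mem_filter, G.mem_neighborFinset, mem_inter, mem_trace]
    tauto
  have hlt : (trace G w z ∩ (trace G w u ∩ trace G w v)).card < 3 :=
    lt_of_le_of_lt (card_le_card inter_subset_right) (by omega)
  have hs := small_popcounts
  simp only [List.all_eq_true, List.mem_range, Bool.and_eq_true, beq_iff_eq] at hs
  obtain ⟨-, h3⟩ := hs _ hlt _ (List.mem_sublistsLen.2 ⟨List.filter_sublist, hlen⟩)
  rw [hm, h3, beq_iff_eq] at h
  exact h

theorem no_tri_codes (hG : G.IsSRGWith 77 16 0 4) (hl : Labelling G w lab) {u v z : V}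
    (hu : u ∈ far G w) (hv : v ∈ far G w) (hz : z ∈ far G w) (h1 : u ≠ v) (h2 : u ≠ z) (h3 : v ≠ z)
    (e1 : eq2 (enc G lab u &&& enc G lab v) = true) (e2 : eq2 (enc G lab u &&& enc G lab z) = true)
    (e3 : eq2 (enc G lab v &&& enc G lab z) = true)
    (e : eq1 (enc G lab u &&& enc G lab v &&& enc G lab z) = true) : False := by
  have c1 := (inter_codes hG hl hu hv h1).2 e1
  have c2 := (inter_codes hG hl hu hz h2).2 e2
  have c3 := (inter_codes hG hl hv hz h3).2 e3
  obtain ⟨a, ha⟩ := card_eq_one.1 (inter_three hG hl hv hz h3 e)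
  have ha' : a ∈ trace G w u ∩ (trace G w v ∩ trace G w z) := ha ▸ mem_singleton_self a
  simp only [mem_inter] at ha'
  have other : ∀ S : Finset V, S.card = 2 → a ∈ S → ∃ b ∈ S, b ≠ a := by
    intro S hS hS'
    obtain ⟨b, hb⟩ : (S.erase a).Nonempty := card_pos.1 (by rw [card_erase_of_mem hS', hS]; norm_num)
    exact ⟨b, (mem_erase.1 hb).2, (mem_erase.1 hb).1⟩
  obtain ⟨b, hb, hba⟩ := other _ c1 (mem_inter.2 ⟨ha'.1, ha'.2.1⟩)
  obtain ⟨c, hc, hca⟩ := other _ c2 (mem_inter.2 ⟨ha'.1, ha'.2.2⟩)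
  obtain ⟨d, hd, hda⟩ := other _ c3 (mem_inter.2 ⟨ha'.2.1, ha'.2.2⟩)
  simp only [mem_inter] at hb hc hd
  have only : ∀ x, x ∈ trace G w u → x ∈ trace G w v → x ∈ trace G w z → x = a := fun x p q r =>
    mem_singleton.1 (ha ▸ mem_inter.2 ⟨p, mem_inter.2 ⟨q, r⟩⟩)
  have hbc : b ≠ c := fun e => hba (only b hb.1 hb.2 (e ▸ hc.2))
  have hbd : b ≠ d := fun e => hba (only b hb.1 hb.2 (e ▸ hd.2))
  have hcd : c ≠ d := fun e => hca (only c hc.1 (e ▸ hd.1) hc.2)
  refine no_triangle hG (w := w) (a := a) (b := b) (c := c) (d := d) (u₁ := u) (u₂ := v) (u₃ := z)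
    (by simp [Ne.symm hba, Ne.symm hca, Ne.symm hda, hbc, hbd, hcd])
    (by simp [h1, h2, h3, Ne.symm (mem_far.1 hu).1, Ne.symm (mem_far.1 hv).1,
      Ne.symm (mem_far.1 hz).1])
    (mem_trace.1 ha'.1).1 (mem_trace.1 hb.1).1 (mem_trace.1 hc.1).1 (mem_trace.1 hd.1).1
    (mem_trace.1 ha'.1).2 (mem_trace.1 hb.1).2 (mem_trace.1 hc.1).2
    (mem_trace.1 ha'.2.1).2 (mem_trace.1 hb.2).2 (mem_trace.1 hd.1).2
    (mem_trace.1 ha'.2.2).2 (mem_trace.1 hc.2).2 (mem_trace.1 hd.2).2

theorem ok_step (hG : G.IsSRGWith 77 16 0 4) (hl : Labelling G w lab) {T : Finset ℕ}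
    (hT : T ⊆ (far G w).image (enc G lab)) (bl : List ℕ) (c d : ℕ) (hbl : ∀ b ∈ bl, b ∈ T)
    (hc : c ∈ T) (hd : d ∈ T) (hcb : c ∉ bl) (hdb : d ∉ bl) (hdc : d ≠ c) :
    okStep bl c d = true := by
  obtain ⟨u, hu, rfl⟩ := mem_image.1 (hT hc)
  obtain ⟨v, hv, rfl⟩ := mem_image.1 (hT hd)
  have huv : u ≠ v := fun e => hdc (by rw [e])
  rw [okStep, Bool.and_eq_true, Bool.or_eq_true]
  refine ⟨(inter_codes hG hl hu hv huv).1, ?_⟩
  by_cases h2 : eq2 (enc G lab u &&& enc G lab v) = true
  · right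
    rw [List.all_eq_true]
    intro e he
    obtain ⟨z, hz, rfl⟩ := mem_image.1 (hT (hbl e he))
    have hzu : z ≠ u := fun e' => hcb (e' ▸ he)
    have hzv : z ≠ v := fun e' => hdb (e' ▸ he)
    rw [Bool.not_eq_true', Bool.eq_false_iff]
    intro h
    rw [Bool.and_eq_true, Bool.and_eq_true] at h
    exact no_tri_codes hG hl hz hu hv hzu hzv huv h.1.2 h.1.1 h2 (by rw [Nat.and_assoc] at h ⊢; exact h.2)
  · left
    simpa using h2

theorem ok_blk (hG : G.IsSRGWith 77 16 0 4) (hl : Labelling G w lab) {T : Finset ℕ}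
    (hT : T ⊆ (far G w).image (enc G lab)) (bl : List ℕ) (c : ℕ) (hbl : ∀ b ∈ bl, b ∈ T)
    (hc : c ∈ T) (hcb : c ∉ bl) : okBlk bl c = true := by
  obtain ⟨u, hu, rfl⟩ := mem_image.1 (hT hc)
  have get : ∀ b ∈ bl, ∃ z ∈ far G w, z ≠ u ∧ enc G lab z = b := by
    intro b hb
    obtain ⟨z, hz, rfl⟩ := mem_image.1 (hT (hbl b hb))
    exact ⟨z, hz, fun e => hcb (e ▸ hb), rfl⟩
  rw [okBlk, Bool.and_eq_true, List.all_eq_true]
  refine ⟨fun b hb => ?_, ?_⟩
  · obtain ⟨z, hz, hzu, rfl⟩ := get b hb
    exact (inter_codes hG hl hz hu hzu).1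
  · simp only [noTri, List.all_eq_true, List.mem_filter, Bool.not_eq_true', Bool.eq_false_iff]
    rintro d ⟨hd, hdu⟩ e ⟨he, heu⟩ h
    obtain ⟨x, hx, hxu, rfl⟩ := get d hd
    obtain ⟨y, hy, hyu, rfl⟩ := get e he
    rw [Bool.and_eq_true] at h
    have hxy : x ≠ y := by
      rintro rfl
      have h1 := card_trace hG hx
      have hsub : enc G lab x &&& enc G lab x = enc G lab x := Nat.and_self _
      rw [Nat.and_assoc, hsub] at h
      have hlen := (inter_codes hG hl hu hx hxu.symm).2 (by rwa [Nat.and_comm] at hdu)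
      have h3 := inter_three hG hl hu hx hxu.symm (z := x) (by
        rw [Nat.and_comm (enc G lab x) (enc G lab u), Nat.and_assoc, hsub]
        exact h.2)
      rw [← inter_assoc, inter_comm (trace G w x), inter_assoc, inter_self] at h3
      omega
    refine no_tri_codes hG hl hu hx hy hxu.symm hyu.symm hxy ?_ ?_ h.1 h.2
    · rwa [Nat.and_comm]
    · rwa [Nat.and_comm]

end Cfsg.Agent.H29.Srg77
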