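import Mathlib

/-!
Local structure of a strongly regular graph with parameters (77, 16, 0, 4): no three vertices have
three common neighbours, and the neighbourhood traces at a vertex contain no triangle.
-/

set_option autoImplicit false

namespace Cfsg.Agent.H29.Srg77

open Finset

variable {V : Type*} [Fintype V] [DecidableEq V] {G : SimpleGraph V} [DecidableRel G.Adj]

theorem common (hG : G.IsSRGWith 77 16 0 4) (a b : V) :
    (G.Adj a b → (G.neighborFinset a ∩ G.neighborFinset b).card = 0) ∧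
    (a ≠ b → ¬ G.Adj a b → (G.neighborFinset a ∩ G.neighborFinset b).card = 4) := by
  have key : (G.neighborFinset a ∩ G.neighborFinset b).card = Fintype.card (G.commonNeighbors a b) := by
    rw [← Set.toFinset_card]
    congr 1
    ext x
    simp [SimpleGraph.mem_commonNeighbors]
  exact ⟨fun h => key.trans (hG.of_adj a b h), fun h h' => key.trans (hG.of_not_adj h h')⟩

theorem not_adj_of_common (hG : G.IsSRGWith 77 16 0 4) {a b x : V} (ha : G.Adj x a)
    (hb : G.Adj x b) : ¬ G.Adj a b := by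
  intro h
  have h0 := (common hG a b).1 h
  rw [card_eq_zero, eq_empty_iff_forall_notMem] at h0
  exact h0 x (mem_inter.2 ⟨(G.mem_neighborFinset a x).2 ha.symm, (G.mem_neighborFinset b x).2 hb.symm⟩)

/-- Counting the neighbours of an independent set. -/
theorem union_bound (hG : G.IsSRGWith 77 16 0 4) (T R : Finset V)
    (hT : ∀ s ∈ T, ∀ t ∈ T, s ≠ t → ¬ G.Adj s t) (hR : ∀ x ∈ R, ∃ t ∈ T, G.Adj t x) :
    3 * (16 * T.card) +
      ∑ x ∈ R, ((T.filter fun t => G.Adj t x).card - 1) * ((T.filter fun t => G.Adj t x).card - 2) ≤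
      16 * T.card + 4 * (T.card * (T.card - 1)) + 2 * (T.biUnion fun v => G.neighborFinset v).card := by
  set U := T.biUnion fun v => G.neighborFinset v with hU
  set f : V → ℕ := fun x => (T.filter fun t => G.Adj t x).card with hf
  have hdeg : ∀ t : V, (G.neighborFinset t).card = 16 := fun t => hG.regular t
  have hfs : ∀ x, f x = ∑ t ∈ T, if x ∈ G.neighborFinset t then 1 else 0 := fun x => by
    rw [← card_filter]
    simp [hf]
  have h1 : ∑ x ∈ U, f x = 16 * T.card := by
    simp only [hfs]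
    rw [sum_comm]
    simp only [← card_filter]
    rw [sum_congr rfl (g := fun _ => 16) fun t ht => ?_, sum_const, smul_eq_mul, mul_comm]
    rw [← hdeg t]
    congr 1
    ext x
    simp only [mem_filter, and_iff_right_iff_imp]
    exact fun h => mem_biUnion.2 ⟨t, ht, h⟩
  have h2 : ∑ x ∈ U, f x * f x = 16 * T.card + 4 * (T.card * (T.card - 1)) := by
    simp only [hfs, sum_mul_sum]
    rw [sum_comm]
    rw [sum_congr rfl (g := fun _ => 16 + 4 * (T.card - 1)), sum_const, smul_eq_mul]
    · ring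
    intro s hs
    rw [sum_comm, ← add_sum_erase _ _ hs]
    have e : ∀ t ∈ T, (∑ x ∈ U, (if x ∈ G.neighborFinset s then 1 else 0) *
        (if x ∈ G.neighborFinset t then 1 else 0) : ℕ) =
        (G.neighborFinset s ∩ G.neighborFinset t).card := by
      intro t ht
      rw [sum_congr rfl (g := fun x => if x ∈ G.neighborFinset s ∧ x ∈ G.neighborFinset t then 1 else 0)
        fun x _ => by by_cases h : x ∈ G.neighborFinset s <;> simp [h], ← card_filter]
      congr 1
      ext x
      simp only [mem_filter, mem_inter, and_iff_right_iff_imp]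
      exact fun h => mem_biUnion.2 ⟨s, hs, h.1⟩
    rw [e s hs, inter_self, hdeg, sum_congr rfl (g := fun _ => 4), sum_const, smul_eq_mul,
      card_erase_of_mem hs, mul_comm (T.card - 1)]
    intro t ht
    obtain ⟨hne, ht⟩ := mem_erase.1 ht
    rw [e t ht]
    exact (common hG s t).2 (Ne.symm hne) (hT s hs t ht (Ne.symm hne))
  have hpt : ∀ x ∈ U, 3 * f x + (f x - 1) * (f x - 2) = f x * f x + 2 := by
    intro x hx
    obtain ⟨t, ht, htx⟩ := mem_biUnion.1 hx
    have : 1 ≤ f x := card_pos.2 ⟨t, mem_filter.2 ⟨ht, (G.mem_neighborFinset t x).1 htx⟩⟩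
    obtain ⟨k, hk⟩ : ∃ k, f x = k + 1 := ⟨f x - 1, by omega⟩
    rw [hk]
    rcases k with _ | j
    · norm_num
    · rw [show j + 1 + 1 - 2 = j by omega, show j + 1 + 1 - 1 = j + 1 by omega]
      ring
  have h3 := sum_congr (rfl : U = U) hpt
  rw [sum_add_distrib, sum_add_distrib, ← mul_sum, h1, h2, sum_const, smul_eq_mul] at h3
  have h4 : ∑ x ∈ R, (f x - 1) * (f x - 2) ≤ ∑ x ∈ U, (f x - 1) * (f x - 2) :=
    sum_le_sum_of_subset fun x hx => by
      obtain ⟨t, ht, htx⟩ := hR x hx
      exact mem_biUnion.2 ⟨t, ht, (G.mem_neighborFinset t x).2 htx⟩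
  show 3 * (16 * T.card) + ∑ x ∈ R, (f x - 1) * (f x - 2) ≤ _
  omega

/-- No three vertices have three common neighbours. -/
theorem no_k33 (hG : G.IsSRGWith 77 16 0 4) (T U : Finset V) (hT : T.card = 3) (hU : U.card = 3)
    (h : ∀ t ∈ T, ∀ q ∈ U, G.Adj t q) : False := by
  have side : ∀ A B : Finset V, A.card = 3 → B.card = 3 → (∀ t ∈ A, ∀ q ∈ B, G.Adj t q) →
      39 ≤ (A.biUnion fun v => G.neighborFinset v).card := by
    intro A B hA hB hAB
    obtain ⟨b, hb⟩ : B.Nonempty := card_pos.1 (by omega)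
    have hind : ∀ s ∈ A, ∀ t ∈ A, s ≠ t → ¬ G.Adj s t := fun s hs t ht _ =>
      not_adj_of_common hG (hAB s hs b hb).symm (hAB t ht b hb).symm
    obtain ⟨a, ha⟩ : A.Nonempty := card_pos.1 (by omega)
    have hb' := union_bound hG A B hind fun x hx => ⟨a, ha, hAB a ha x hx⟩
    rw [sum_congr rfl (g := fun _ => 2) fun x hx => by
      rw [filter_true_of_mem fun t ht => hAB t ht x hx, hA], sum_const, hB, hA] at hb'
    simp only [smul_eq_mul] at hb'
    omega
  have h1 := side T U hT hU h
  have h2 := side U T hU hT fun q hq t ht => (h t ht q hq).symm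
  have hd : Disjoint (T.biUnion fun v => G.neighborFinset v) (U.biUnion fun v => G.neighborFinset v) := by
    rw [disjoint_left]
    intro x hx hx'
    obtain ⟨t, ht, hxt⟩ := mem_biUnion.1 hx
    obtain ⟨q, hq, hxq⟩ := mem_biUnion.1 hx'
    exact not_adj_of_common hG ((G.mem_neighborFinset t x).1 hxt).symm
      ((G.mem_neighborFinset q x).1 hxq).symm (h t ht q hq)
  have := card_le_univ ((T.biUnion fun v => G.neighborFinset v) ∪ U.biUnion fun v => G.neighborFinset v)
  rw [card_union_of_disjoint hd, hG.card] at this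
  omega

/-- The traces of three vertices on the neighbourhood of `w` form no triangle. -/
theorem no_triangle (hG : G.IsSRGWith 77 16 0 4) {w a b c d u₁ u₂ u₃ : V}
    (hN : [a, b, c, d].Nodup) (hM : [w, u₁, u₂, u₃].Nodup)
    (hwa : G.Adj w a) (hwb : G.Adj w b) (hwc : G.Adj w c) (hwd : G.Adj w d)
    (h1a : G.Adj u₁ a) (h1b : G.Adj u₁ b) (h1c : G.Adj u₁ c)
    (h2a : G.Adj u₂ a) (h2b : G.Adj u₂ b) (h2d : G.Adj u₂ d)
    (h3a : G.Adj u₃ a) (h3c : G.Adj u₃ c) (h3d : G.Adj u₃ d) : False := by
  have side : ∀ (w a b c d u₁ u₂ u₃ : V), [a, b, c, d].Nodup → [w, u₁, u₂, u₃].Nodup →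
      G.Adj w a → G.Adj w b → G.Adj w c → G.Adj w d →
      G.Adj u₁ a → G.Adj u₁ b → G.Adj u₁ c → G.Adj u₂ a → G.Adj u₂ b → G.Adj u₂ d →
      G.Adj u₃ a → G.Adj u₃ c → G.Adj u₃ d →
      46 ≤ (([w, u₁, u₂, u₃].toFinset).biUnion fun v => G.neighborFinset v).card := by
    clear hN hM hwa hwb hwc hwd h1a h1b h1c h2a h2b h2d h3a h3c h3d
    intro w a b c d u₁ u₂ u₃ hN hM hwa hwb hwc hwd h1a h1b h1c h2a h2b h2d h3a h3c h3d
    set T := [w, u₁, u₂, u₃].toFinset with hT
    have hTc : T.card = 4 := List.toFinset_card_of_nodup hM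
    have hall : ∀ t ∈ T, G.Adj t a := by
      intro t ht
      simp only [hT, List.mem_toFinset, List.mem_cons, List.not_mem_nil, or_false] at ht
      rcases ht with rfl | rfl | rfl | rfl <;> assumption
    have hwT : w ∈ T := by simp [hT]
    have hb' := union_bound hG T [a, b, c, d].toFinset
      (fun s hs t ht _ => not_adj_of_common hG (hall s hs).symm (hall t ht).symm) fun x hx => by
        simp only [List.mem_toFinset, List.mem_cons, List.not_mem_nil, or_false] at hx
        refine ⟨w, hwT, ?_⟩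
        rcases hx with rfl | rfl | rfl | rfl <;> assumption
    simp only [List.nodup_cons, List.mem_cons, List.not_mem_nil, or_false, List.nodup_nil,
      and_true, not_or, not_false_eq_true] at hN hM
    obtain ⟨⟨hab, hac, had⟩, ⟨hbc, hbd⟩, hcd⟩ := hN
    obtain ⟨⟨hw1, hw2, hw3⟩, ⟨h12, h13⟩, h23⟩ := hM
    have f4 : (T.filter fun t => G.Adj t a).card = 4 := by rw [filter_true_of_mem hall, hTc]
    have f3 : ∀ x t₁ t₂ : V, t₁ ∈ T → t₂ ∈ T → w ≠ t₁ → w ≠ t₂ → t₁ ≠ t₂ → G.Adj w x →
        G.Adj t₁ x → G.Adj t₂ x → 2 ≤ ((T.filter fun t => G.Adj t x).card - 1) *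
          ((T.filter fun t => G.Adj t x).card - 2) := by
      intro x t₁ t₂ m1 m2 n1 n2 n12 e e1 e2
      have hs : ({w, t₁, t₂} : Finset V) ⊆ T.filter fun t => G.Adj t x := by
        intro t ht
        simp only [mem_insert, mem_singleton] at ht
        rw [mem_filter]
        rcases ht with rfl | rfl | rfl
        exacts [⟨hwT, e⟩, ⟨m1, e1⟩, ⟨m2, e2⟩]
      have h3 := card_le_card hs
      rw [card_insert_of_notMem (by simp [n1, n2]), card_pair n12] at h3
      exact le_trans (by norm_num : 2 ≤ 2 * 1) (Nat.mul_le_mul (by omega) (by omega))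
    have m1 : u₁ ∈ T := by simp [hT]
    have m2 : u₂ ∈ T := by simp [hT]
    have m3 : u₃ ∈ T := by simp [hT]
    rw [show [a, b, c, d].toFinset = insert a (insert b (insert c {d})) by simp,
      sum_insert (by simp [hab, hac, had]), sum_insert (by simp [hbc, hbd]),
      sum_insert (by simp [hcd]), sum_singleton, f4, hTc] at hb'
    have := f3 b u₁ u₂ m1 m2 hw1 hw2 h12 hwb h1b h2b
    have := f3 c u₁ u₃ m1 m3 hw1 hw3 h13 hwc h1c h3c
    have := f3 d u₂ u₃ m2 m3 hw2 hw3 h23 hwd h2d h3d
    omega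
  have s1 := side w a b c d u₁ u₂ u₃ hN hM hwa hwb hwc hwd h1a h1b h1c h2a h2b h2d h3a h3c h3d
  have s2 := side a w u₁ u₂ u₃ b c d hM hN hwa.symm h1a.symm h2a.symm h3a.symm
    hwb.symm h1b.symm h2b.symm hwc.symm h1c.symm h3c.symm hwd.symm h2d.symm h3d.symm
  set A := ([w, u₁, u₂, u₃].toFinset).biUnion fun v => G.neighborFinset v
  set B := ([a, b, c, d].toFinset).biUnion fun v => G.neighborFinset v
  have hsub : A ∩ B ⊆ (G.neighborFinset u₁ ∩ G.neighborFinset d) ∪
      (G.neighborFinset u₂ ∩ G.neighborFinset c) ∪ (G.neighborFinset u₃ ∩ G.neighborFinset b) := by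
    intro x hx
    obtain ⟨hxA, hxB⟩ := mem_inter.1 hx
    obtain ⟨t, ht, hxt⟩ := mem_biUnion.1 hxA
    obtain ⟨q, hq, hxq⟩ := mem_biUnion.1 hxB
    have hn : ¬ G.Adj t q := not_adj_of_common hG ((G.mem_neighborFinset t x).1 hxt).symm
      ((G.mem_neighborFinset q x).1 hxq).symm
    simp only [List.mem_toFinset, List.mem_cons, List.not_mem_nil, or_false] at ht hq
    simp only [mem_union, mem_inter]
    rcases ht with rfl | rfl | rfl | rfl <;> rcases hq with rfl | rfl | rfl | rfl <;>
      first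
        | exact absurd ‹G.Adj _ _› hn
        | exact Or.inl (Or.inl ⟨hxt, hxq⟩)
        | exact Or.inl (Or.inr ⟨hxt, hxq⟩)
        | exact Or.inr ⟨hxt, hxq⟩
  have hne : ∀ t q : V, G.Adj t a → G.Adj w q →
      (G.neighborFinset t ∩ G.neighborFinset q).card ≤ 4 := by
    intro t q hta hwq
    by_cases h : G.Adj t q
    · rw [(common hG t q).1 h]; norm_num
    · refine le_of_eq ((common hG t q).2 ?_ h)
      rintro rfl
      exact not_adj_of_common hG hwq hwa hta
  have hle : (A ∩ B).card ≤ 12 := by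
    refine (card_le_card hsub).trans ((card_union_le _ _).trans ?_)
    have := card_union_le (G.neighborFinset u₁ ∩ G.neighborFinset d)
      (G.neighborFinset u₂ ∩ G.neighborFinset c)
    have := hne u₁ d h1a hwd
    have := hne u₂ c h2a hwc
    have := hne u₃ b h3a hwb
    omega
  have := card_union_add_card_inter A B
  have := card_le_univ (A ∪ B)
  rw [hG.card] at this
  omega

end Cfsg.Agent.H29.Srg77
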