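import Cfsg.Agent.H29.GolayExt
import Cfsg.Agent.Golay.Stabilisers

/-!
Automorphism groups of the systems S(5,8,24), S(4,7,23) and S(3,6,22).
-/

set_option autoImplicit false

namespace Cfsg.Agent.H29

open Finset Golay
open scoped Pointwise

theorem smul_eq_map (σ : Equiv.Perm GolayPt) (s : Finset GolayPt) :
    σ • s = s.map σ.toEmbedding := by
  rw [Finset.map_eq_image]; rfl

theorem mapSys_eq_smul (σ : Equiv.Perm GolayPt) (S : Set (Finset GolayPt)) :
    mapSys σ.toEmbedding S = σ • S := by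
  rw [← Set.image_smul]
  exact Set.image_congr fun b _ => (smul_eq_map σ b).symm

theorem toEmbedding_apply' (σ : Equiv.Perm GolayPt) (p : GolayPt) : σ.toEmbedding p = σ p := rfl

theorem fix_of_mem_preimage {σ : Equiv.Perm GolayPt} {g : GolayPt} (h : σ g = g) :
    σ.symm g = g := by
  rw [Equiv.symm_apply_eq, h]

/-- Transport of the automorphism group along an embedding of the point set. -/
theorem aut_map_viaEmbedding {α : Type*} [Fintype α] [DecidableEq α] (e : α ↪ GolayPt)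
    {B : Set (Finset α)} {S : Set (Finset GolayPt)} (h : mapSys e B = S)
    (σ : Equiv.Perm GolayPt) :
    σ ∈ (Cfsg.setSystemAut B).map (Equiv.Perm.viaEmbeddingHom e) ↔
      (∀ p, p ∉ Finset.univ.map e → σ p = p) ∧ σ • S = S := by
  have hpre : ∀ (g : Equiv.Perm α) (b : Finset α),
      (b.map g.toEmbedding).map e = (b.map e).map (g.viaEmbedding e).toEmbedding := by
    intro g b
    rw [Finset.map_map, Finset.map_map]
    refine congrArg (fun x => Finset.map x b) (Function.Embedding.ext fun x => ?_)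
    exact (Equiv.Perm.viaEmbedding_apply g e x).symm
  have hrange : ∀ p, p ∉ Finset.univ.map e ↔ p ∉ Set.range e := by simp
  constructor
  · rintro ⟨g, hg, rfl⟩
    rw [Equiv.Perm.viaEmbeddingHom_apply]
    refine ⟨fun p hp => Equiv.Perm.viaEmbedding_apply_of_notMem g e p ((hrange p).1 hp), ?_⟩
    rw [← mapSys_eq_smul, ← h]
    have hg' := mem_setSystemAut.1 hg
    ext c
    constructor
    · rintro ⟨_, ⟨b, hb, rfl⟩, rfl⟩
      exact ⟨b.map g.toEmbedding, (hg' b).2 hb, hpre g b⟩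
    · rintro ⟨b, hb, rfl⟩
      refine ⟨(b.map g.symm.toEmbedding).map e, mem_mapSys.2 ((hg' _).1 ?_), ?_⟩
      · simpa [Finset.map_map] using hb
      · show ((b.map g.symm.toEmbedding).map e).map _ = b.map e
        rw [← hpre]
        simp [Finset.map_map]
  · rintro ⟨hfix, hS⟩
    have hin : ∀ x, σ (e x) ∈ Set.range e := by
      intro x
      by_contra hn
      have h1 := hfix _ ((hrange _).2 hn)
      exact hn ⟨x, (σ.injective h1).symm⟩
    choose g hg using hin
    have hinj : Function.Injective g := fun x y hxy =>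
      e.injective (σ.injective (by rw [← hg, ← hg, hxy]))
    let g' : Equiv.Perm α := Equiv.ofBijective g (Finite.injective_iff_bijective.1 hinj)
    have hvia : g'.viaEmbedding e = σ := by
      ext1 p
      by_cases hp : p ∈ Set.range e
      · obtain ⟨x, rfl⟩ := hp
        rw [Equiv.Perm.viaEmbedding_apply]
        exact hg x
      · rw [Equiv.Perm.viaEmbedding_apply_of_notMem g' e p hp, hfix p ((hrange p).2 hp)]
    refine ⟨g', ?_, by rw [Equiv.Perm.viaEmbeddingHom_apply, hvia]⟩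
    rw [SetLike.mem_coe, mem_setSystemAut]
    intro b
    rw [← mem_mapSys (e := e), hpre, hvia, ← smul_eq_map, h]
    conv_lhs => rw [← hS]
    rw [Set.smul_mem_smul_set_iff, ← h, mem_mapSys]

theorem aut_equiv {α : Type*} [Fintype α] [DecidableEq α] (e : α ↪ GolayPt)
    {B : Set (Finset α)} {K : Subgroup (Equiv.Perm GolayPt)}
    (hK : (Cfsg.setSystemAut B).map (Equiv.Perm.viaEmbeddingHom e) = K) :
    ∃ φ : Cfsg.setSystemAut B ≃* K, ∀ (g : Cfsg.setSystemAut B) (x : α),
      (φ g : Equiv.Perm GolayPt) (e x) = e (g • x) :=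
  ⟨((Cfsg.setSystemAut B).equivMapOfInjective _ (Equiv.Perm.viaEmbeddingHom_injective e)).trans
    (MulEquiv.subgroupCongr hK), fun g x => Equiv.Perm.viaEmbedding_apply g.1 e x⟩

theorem notMem_X23 {p : GolayPt} : p ∉ X23 ↔ p = pt 23 := by
  rw [← X_erase.1]; simp

theorem notMem_X22 {p : GolayPt} : p ∉ X22 ↔ p = pt 23 ∨ p = pt 0 := by
  rw [← X_erase.2.1, ← X_erase.1]; simp; tauto

theorem smul_octads_iff {σ : Equiv.Perm GolayPt} :
    σ ∈ Cfsg.M24 ↔ σ • Cfsg.octads = Cfsg.octads := by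
  rw [M24_eq_setSystemAut_octads]; exact MulAction.mem_stabilizer_iff

theorem pt23 : pt 23 = (none : GolayPt) := pt_values.1

theorem pt0 : pt 0 = (some 0 : GolayPt) := pt_values.2

/-- Images commute with taking derived systems at a fixed point. -/
theorem smul_derived {σ : Equiv.Perm GolayPt} {a : GolayPt} (ha : σ a = a)
    (S : Set (Finset GolayPt)) :
    σ • {s : Finset GolayPt | a ∉ s ∧ insert a s ∈ S} =
      {s : Finset GolayPt | a ∉ s ∧ insert a s ∈ σ • S} := by
  ext s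
  rw [Set.mem_smul_set_iff_inv_smul_mem]
  have h1 : σ⁻¹ a = a := by
    rw [Equiv.Perm.inv_eq_iff_eq, ha]
  have h2 : σ⁻¹ • insert a s = insert a (σ⁻¹ • s) := by
    rw [smul_eq_map, smul_eq_map, Finset.map_insert, toEmbedding_apply', h1]
  simp only [Set.mem_ofPred_eq, Set.mem_smul_set_iff_inv_smul_mem, h2]
  refine and_congr (not_congr ?_) Iff.rfl
  conv_lhs => rw [← h1]
  exact Finset.smul_mem_smul_finset_iff _

theorem mem_M23_iff {σ : Equiv.Perm GolayPt} :
    σ ∈ Cfsg.Spor.M23 ↔ σ (pt 23) = pt 23 ∧ σ • std23 = std23 := by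
  constructor
  · rintro ⟨h1, h2⟩
    have h : σ (pt 23) = pt 23 := by rw [pt23]; exact h2
    refine ⟨h, ?_⟩
    rw [← std23_eq, smul_derived h, smul_octads_iff.1 h1]
  · rintro ⟨h, hS⟩
    refine ⟨smul_octads_iff.2 ?_, by rw [pt23] at h; exact h⟩
    rw [← mapSys_eq_smul]
    refine ext24 ?_ fun l hl => ?_
    · have := sys24.map σ.toEmbedding
      rwa [Finset.map_univ_equiv] at this
    · rw [← hS, ← std23_eq, smul_derived h, ← mapSys_eq_smul] at hl
      exact hl

theorem outer_notMem : mkPerm outer22 • std23 ≠ std23 := by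
  have hot := outer_table
  simp only [Bool.and_eq_true, beq_iff_eq] at hot
  obtain ⟨⟨⟨hv, -⟩, -⟩, -⟩ := hot
  have h : (hept.all fun m => hept.contains (tblImg outer22 m)) = false := by decide +kernel
  simp only [List.all_eq_false, List.contains_iff_mem] at h
  obtain ⟨m, hm, hm'⟩ := h
  intro he
  have hmem : ptSet (tblImg outer22 m) ∈ std23 := by
    rw [← he, ptSet_tblImg_map hv, ← smul_eq_map]
    exact Set.smul_mem_smul_set ⟨m, hm, rfl⟩
  obtain ⟨m', hm1, hm2⟩ := hmem
  exact hm' (ptSet_injOn (hept_lt m' hm1) (tblImg_lt hv m) hm2 ▸ hm1)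

theorem outer_facts : mkPerm outer22 (pt 23) = pt 23 ∧ mkPerm outer22 (pt 0) = pt 0 ∧
    mkPerm outer22 • std22 = std22 := by
  have hot := outer_table
  simp only [Bool.and_eq_true, beq_iff_eq, List.all_eq_true, List.contains_iff_mem] at hot
  obtain ⟨⟨⟨hv, o23⟩, o0⟩, ohex⟩ := hot
  have h23 := mkPerm_pt_eq hv (by norm_num) o23
  have h0 := mkPerm_pt_eq hv (by norm_num) o0
  refine ⟨h23, h0, ?_⟩
  rw [← mapSys_eq_smul]
  refine SysOn.eq_of_subset (by norm_num) ?_ sys22 ?_
  · have := sys22.map (mkPerm outer22).toEmbedding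
    rwa [((fixing_maps h23).2 h0).1] at this
  · rintro _ ⟨_, ⟨l, hl, rfl⟩, rfl⟩
    exact ⟨_, ohex l hl, ptSet_tblImg_map hv l⟩

theorem mem_M22_iff {σ : Equiv.Perm GolayPt} :
    σ ∈ Cfsg.Spor.M22 ↔ σ (pt 23) = pt 23 ∧ σ (pt 0) = pt 0 ∧ σ • std23 = std23 := by
  rw [Cfsg.Spor.M22, Subgroup.mem_inf, mem_M23_iff, MulAction.mem_stabilizer_iff,
    Equiv.Perm.smul_def, ← pt0]
  tauto

/-- The two cosets of `M22` in the automorphism group of the S(3,6,22). -/
theorem aut22_cases {σ : Equiv.Perm GolayPt} (h23 : σ (pt 23) = pt 23) (h0 : σ (pt 0) = pt 0)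
    (hS : σ • std22 = std22) :
    σ ∈ Cfsg.Spor.M22 ∨ (mkPerm outer22)⁻¹ * σ ∈ Cfsg.Spor.M22 := by
  have hT : SysOn 4 7 X23 (mapSys σ.toEmbedding std23) := by
    have := sys23.map σ.toEmbedding
    rwa [(fixing_maps h23).1] at this
  obtain ⟨τ, hτ, -, hτS⟩ := ext23 hT fun l hl => by
    rw [← hS, ← std22_eq, smul_derived h0, ← mapSys_eq_smul] at hl
    exact hl
  rw [mapSys_eq_smul, mapSys_eq_smul] at hτS
  rcases hτ with rfl | rfl
  · left
    rw [one_smul] at hτS
    exact mem_M22_iff.2 ⟨h23, h0, hτS⟩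
  · right
    refine mem_M22_iff.2 ⟨?_, ?_, ?_⟩
    · rw [Equiv.Perm.mul_apply, h23, Equiv.Perm.inv_eq_iff_eq, outer_facts.1]
    · rw [Equiv.Perm.mul_apply, h0, Equiv.Perm.inv_eq_iff_eq, outer_facts.2.1]
    · rw [mul_smul, hτS, inv_smul_smul]

theorem steiner24_aut {α : Type*} [Fintype α] [DecidableEq α] (hα : Fintype.card α = 24)
    {B : Set (Finset α)} (hB : Cfsg.IsSteinerSystem 5 8 B) :
    Cfsg.IsM24 (Cfsg.setSystemAut B) ∧
      MulAction.IsMultiplyPretransitive (Cfsg.setSystemAut B) α 5 := by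
  obtain ⟨e, heX, he⟩ := exists_embed24 hα hB
  have hK : (Cfsg.setSystemAut B).map (Equiv.Perm.viaEmbeddingHom e) = Cfsg.M24 := by
    ext σ
    rw [aut_map_viaEmbedding e he, smul_octads_iff]
    exact and_iff_right fun p hp => absurd (heX.symm ▸ Finset.mem_univ p) hp
  obtain ⟨φ, hφ⟩ := aut_equiv e hK
  haveI := isM24_M24.1
  refine ⟨⟨φ.isSimpleGroup, (Nat.card_congr φ.toEquiv).trans card_M24⟩, ⟨fun x y => ?_⟩⟩
  obtain ⟨m, hm⟩ := exists_M24_map_points (k := 5) le_rfl (a := fun i => e (x i))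
    (b := fun i => e (y i)) (e.injective.comp x.injective) (e.injective.comp y.injective)
  refine ⟨φ.symm m, Function.Embedding.ext fun i => e.injective ?_⟩
  show e (φ.symm m • x i) = e (y i)
  rw [← hφ, φ.apply_symm_apply, hm]

theorem steiner23_aut {α : Type*} [Fintype α] [DecidableEq α] (hα : Fintype.card α = 23)
    {B : Set (Finset α)} (hB : Cfsg.IsSteinerSystem 4 7 B) :
    Cfsg.IsM23 (Cfsg.setSystemAut B) ∧
      MulAction.IsMultiplyPretransitive (Cfsg.setSystemAut B) α 4 := by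
  obtain ⟨e, heX, he⟩ := exists_embed23 hα hB
  have hK : (Cfsg.setSystemAut B).map (Equiv.Perm.viaEmbeddingHom e) = Cfsg.Spor.M23 := by
    ext σ
    rw [aut_map_viaEmbedding e he, mem_M23_iff, heX]
    simp [notMem_X23]
  obtain ⟨φ, hφ⟩ := aut_equiv e hK
  haveI := isM23_spor.1
  refine ⟨⟨φ.isSimpleGroup, (Nat.card_congr φ.toEquiv).trans isM23_spor.2⟩, ⟨fun x y => ?_⟩⟩
  have hne : ∀ z : α, e z ≠ pt 23 := fun z h => by
    have : e z ∈ X23 := heX ▸ Finset.mem_map_of_mem e (Finset.mem_univ z)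
    exact (notMem_X23.2 h) this
  obtain ⟨m, hm⟩ := exists_M24_map_points (k := 5) le_rfl
    (a := Fin.cons (pt 23) fun i => e (x i)) (b := Fin.cons (pt 23) fun i => e (y i))
    (Fin.cons_injective_iff.2 ⟨by rintro ⟨i, hi⟩; exact hne _ hi, e.injective.comp x.injective⟩)
    (Fin.cons_injective_iff.2 ⟨by rintro ⟨i, hi⟩; exact hne _ hi, e.injective.comp y.injective⟩)
  have hm23 : (m : Equiv.Perm GolayPt) ∈ Cfsg.Spor.M23 := by
    refine ⟨m.2, ?_⟩
    have := hm 0
    simp only [Fin.cons_zero] at this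
    rw [pt23] at this
    exact this
  refine ⟨φ.symm ⟨m, hm23⟩, Function.Embedding.ext fun i => e.injective ?_⟩
  show e (φ.symm ⟨m, hm23⟩ • x i) = e (y i)
  rw [← hφ, φ.apply_symm_apply]
  simpa using hm i.succ

theorem steiner22_aut {α : Type*} [Fintype α] [DecidableEq α] (hα : Fintype.card α = 22)
    {B : Set (Finset α)} (hB : Cfsg.IsSteinerSystem 3 6 B) :
    Nat.card (Cfsg.setSystemAut B) = 887040 ∧
      MulAction.IsMultiplyPretransitive (Cfsg.setSystemAut B) α 3 ∧
      ∃ H : Subgroup (Cfsg.setSystemAut B), H.index = 2 ∧ Cfsg.IsM22 H := by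
  obtain ⟨e, heX, he⟩ := exists_embed22 hα hB
  set K := (Cfsg.setSystemAut B).map (Equiv.Perm.viaEmbeddingHom e) with hKdef
  have hmem : ∀ σ, σ ∈ K ↔ σ (pt 23) = pt 23 ∧ σ (pt 0) = pt 0 ∧ σ • std22 = std22 := by
    intro σ
    rw [hKdef, aut_map_viaEmbedding e he, heX]
    simp [notMem_X22, or_imp, forall_and, and_assoc]
  obtain ⟨φ, hφ⟩ := aut_equiv e hKdef.symm
  have hle : Cfsg.Spor.M22 ≤ K := by
    intro σ hσ
    obtain ⟨h1, h2, h3⟩ := mem_M22_iff.1 hσ
    refine (hmem σ).2 ⟨h1, h2, ?_⟩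
    rw [← std22_eq, smul_derived h2, h3]
  have ho : mkPerm outer22 ∈ K := (hmem _).2 outer_facts
  have hon : mkPerm outer22 ∉ Cfsg.Spor.M22 := fun h => outer_notMem (mem_M22_iff.1 h).2.2
  let N : Subgroup K := Cfsg.Spor.M22.subgroupOf K
  have hcase : ∀ b : K, b ∈ N ∨ (⟨mkPerm outer22, ho⟩ : K)⁻¹ * b ∈ N := fun b => by
    obtain ⟨h1, h2, h3⟩ := (hmem _).1 b.2
    simpa [N, Subgroup.mem_subgroupOf] using aut22_cases h1 h2 h3
  have hidx : N.index = 2 := by
    refine Subgroup.index_eq_two_iff'.2 ⟨(⟨mkPerm outer22, ho⟩ : K)⁻¹, fun b => ?_⟩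
    rcases hcase b with h | h
    · refine Or.inr ⟨h, fun h' => hon ?_⟩
      have := (N.mul_mem_cancel_right h).1 h'
      simpa [N, Subgroup.mem_subgroupOf] using this
    · refine Or.inl ⟨h, fun h' => hon ?_⟩
      have := (N.mul_mem_cancel_right h').1 h
      simpa [N, Subgroup.mem_subgroupOf] using this
  have hN : Nat.card N = 443520 :=
    (Nat.card_congr (Subgroup.subgroupOfEquivOfLe hle).toEquiv).trans isM22_spor.2
  have hcardK : Nat.card K = 887040 := by
    rw [← N.card_mul_index, hidx, hN]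
  refine ⟨(Nat.card_congr φ.toEquiv).trans hcardK, ⟨fun x y => ?_⟩,
    N.comap φ.toMonoidHom, ?_, ?_, ?_⟩
  · have hne : ∀ z : α, e z ≠ pt 23 ∧ e z ≠ pt 0 := fun z => by
      have : e z ∈ X22 := heX ▸ Finset.mem_map_of_mem e (Finset.mem_univ z)
      exact ⟨fun h => notMem_X22.2 (Or.inl h) this, fun h => notMem_X22.2 (Or.inr h) this⟩
    have hinj : ∀ w : Fin 3 ↪ α, Function.Injective
        (Fin.cons (pt 23) (Fin.cons (pt 0) fun i => e (w i)) : Fin 5 → GolayPt) := by
      intro w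
      refine Fin.cons_injective_iff.2 ⟨?_, Fin.cons_injective_iff.2
        ⟨by rintro ⟨i, hi⟩; exact (hne _).2 hi, e.injective.comp w.injective⟩⟩
      rintro ⟨i, hi⟩
      refine Fin.cases (fun hi => ?_) (fun j hj => (hne (w j)).1 (by simpa using hj)) i hi
      rw [Fin.cons_zero, pt23, pt0] at hi
      exact Option.some_ne_none _ hi
    obtain ⟨m, hm⟩ := exists_M24_map_points (k := 5) le_rfl (hinj x) (hinj y)
    have h0 := hm 0
    have h1 := hm 1
    have hm22 : (m : Equiv.Perm GolayPt) ∈ Cfsg.Spor.M22 := by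
      refine ⟨⟨m.2, ?_⟩, ?_⟩
      · simp only [Fin.cons_zero] at h0
        rw [pt23] at h0
        exact h0
      · rw [show (1 : Fin 5) = (0 : Fin 4).succ from rfl] at h1
        simp only [Fin.cons_succ, Fin.cons_zero] at h1
        rw [pt0] at h1
        exact h1
    refine ⟨φ.symm ⟨m, hle hm22⟩, Function.Embedding.ext fun i => e.injective ?_⟩
    show e (φ.symm ⟨m, hle hm22⟩ • x i) = e (y i)
    rw [← hφ, φ.apply_symm_apply]
    simpa using hm i.succ.succ
  · exact (Subgroup.index_comap_of_surjective N φ.surjective).trans hidx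
  · haveI := isM22_spor.1
    exact MulEquiv.isSimpleGroup ((φ.subgroupMap (N.comap φ.toMonoidHom)).trans
      ((MulEquiv.subgroupCongr (Subgroup.map_comap_eq_self_of_surjective φ.surjective N)).trans
        (Subgroup.subgroupOfEquivOfLe hle)))
  · refine (Nat.card_congr (((φ.subgroupMap (N.comap φ.toMonoidHom)).trans
      (MulEquiv.subgroupCongr
        (Subgroup.map_comap_eq_self_of_surjective φ.surjective N))).toEquiv)).trans hN

end Cfsg.Agent.H29
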