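import Cfsg.Prelude.Def_Sporadic_a

/-!
Elementary facts on Steiner systems `IsSteinerSystem` and their automorphisms.
-/

set_option autoImplicit false

open scoped Pointwise

namespace Cfsg.Agent.H29

variable {α β : Type*}

/-- Two blocks with `t` common points are equal. -/
theorem block_eq {t k : ℕ} {B : Set (Finset α)} (hB : Cfsg.IsSteinerSystem t k B) {b b' s : Finset α}
    (hb : b ∈ B) (hb' : b' ∈ B) (hs : s.card = t) (hsb : s ⊆ b) (hsb' : s ⊆ b') : b = b' := by
  obtain ⟨_, _, hu⟩ := hB.2 s hs
  rw [hu b ⟨hb, hsb⟩, hu b' ⟨hb', hsb'⟩]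

/-- Pulling a Steiner system back along a bijection. -/
theorem pullback_steiner {t k : ℕ} {B : Set (Finset α)} (hB : Cfsg.IsSteinerSystem t k B) (e : β ≃ α) :
    Cfsg.IsSteinerSystem t k {s : Finset β | s.map e.toEmbedding ∈ B} := by
  refine ⟨fun b hb => by rw [← hB.1 _ hb, Finset.card_map], fun s hs => ?_⟩
  obtain ⟨b, ⟨hb, hsb⟩, hu⟩ := hB.2 (s.map e.toEmbedding) (by rw [Finset.card_map, hs])
  refine ⟨b.map e.symm.toEmbedding, ⟨?_, ?_⟩, ?_⟩
  · show (b.map e.symm.toEmbedding).map e.toEmbedding ∈ B
    simpa [Finset.map_map] using hb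
  · have h := Finset.map_subset_map (f := e.symm.toEmbedding) |>.2 hsb
    simpa [Finset.map_map] using h
  · rintro b' ⟨hb', hsb'⟩
    have h := hu (b'.map e.toEmbedding) ⟨hb', Finset.map_subset_map.2 hsb'⟩
    rw [← h]
    simp [Finset.map_map]

/-- Membership in the automorphism group of a family of subsets. -/
theorem mem_setSystemAut [DecidableEq α] {B : Set (Finset α)} {σ : Equiv.Perm α} :
    σ ∈ Cfsg.setSystemAut B ↔ ∀ b : Finset α, b.map σ.toEmbedding ∈ B ↔ b ∈ B := by
  have key : ∀ b : Finset α, σ • b = b.map σ.toEmbedding := by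
    intro b
    rw [Finset.map_eq_image]
    rfl
  rw [MulAction.mem_stabilizer_iff, Set.ext_iff]
  constructor
  · intro h b
    rw [← key, ← h (σ • b)]
    exact Set.smul_mem_smul_set_iff
  · intro h x
    rw [Set.mem_smul_set_iff_inv_smul_mem, ← h (σ⁻¹ • x), ← key, smul_inv_smul]

/-- Two families that are pullbacks of one family are isomorphic. -/
theorem setSystemIso_of_pullback {γ : Type*} [DecidableEq β] {B : Set (Finset α)} {B' : Set (Finset β)}
    {S : Set (Finset γ)} (e : γ ≃ α) (f : γ ≃ β) (he : ∀ s, s.map e.toEmbedding ∈ B ↔ s ∈ S)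
    (hf : ∀ s, s.map f.toEmbedding ∈ B' ↔ s ∈ S) : Cfsg.SetSystemIso B B' := by
  refine ⟨e.symm.trans f, ?_⟩
  have key : ∀ b : Finset α, b.image (e.symm.trans f) = (b.map e.symm.toEmbedding).map f.toEmbedding := by
    intro b
    rw [Finset.map_map, Finset.map_eq_image]
    rfl
  ext c
  simp only [Set.mem_image, key, hf]
  constructor
  · rintro ⟨b, hb, rfl⟩
    rw [hf, ← he]
    simpa [Finset.map_map] using hb
  · intro hc
    refine ⟨(c.map f.symm.toEmbedding).map e.toEmbedding, ?_, ?_⟩
    · rw [he, ← hf]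
      simpa [Finset.map_map] using hc
    · ext y; simp

/-- The system derived at a point. -/
def derived (a : α) (B : Set (Finset α)) : Set (Finset {x : α // x ≠ a}) :=
  {s | Finset.cons a (s.map (Function.Embedding.subtype _)) (by simp) ∈ B}

theorem derived_steiner {t k : ℕ} {B : Set (Finset α)} (hB : Cfsg.IsSteinerSystem (t + 1) (k + 1) B)
    (a : α) : Cfsg.IsSteinerSystem t k (derived a B) := by
  classical
  constructor
  · intro b hb
    have h := hB.1 _ hb
    rw [Finset.card_cons, Finset.card_map] at h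
    omega
  · intro s hs
    have hna : a ∉ s.map (Function.Embedding.subtype fun x => x ≠ a) := by simp
    obtain ⟨b, ⟨hb, hsb⟩, hu⟩ := hB.2 (Finset.cons a (s.map (Function.Embedding.subtype _)) hna)
      (by rw [Finset.card_cons, Finset.card_map, hs])
    have hab : a ∈ b := hsb (Finset.mem_cons_self a _)
    have hrec : Finset.cons a ((b.subtype fun x => x ≠ a).map (Function.Embedding.subtype _))
        (by simp) = b := by
      ext x
      simp only [Finset.mem_cons, Finset.subtype_map, Finset.mem_filter]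
      constructor
      · rintro (rfl | ⟨h, _⟩)
        · exact hab
        · exact h
      · intro hx
        by_cases hxa : x = a
        · exact Or.inl hxa
        · exact Or.inr ⟨hx, hxa⟩
    refine ⟨b.subtype _, ⟨?_, ?_⟩, ?_⟩
    · show Finset.cons a _ _ ∈ B
      rw [hrec]; exact hb
    · intro x hx
      rw [Finset.mem_subtype]
      exact hsb (Finset.mem_cons_of_mem (Finset.mem_map_of_mem _ hx))
    · rintro b' ⟨hb', hsb'⟩
      have h := hu _ ⟨hb', Finset.cons_subset_cons.2 (Finset.map_subset_map.2 hsb')⟩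
      ext x
      rw [Finset.mem_subtype, ← h, Finset.mem_cons]
      simp [x.2]

end Cfsg.Agent.H29
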