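import Cfsg.Prelude.Def_Sporadic_a

/-!
A kernel-checkable search engine for Steiner systems with block size `t + 1`: subsets of `Fin n`
are encoded by bit masks, and the `t`-subsets covered by a list of blocks by one bit map.
-/

set_option autoImplicit false

namespace Cfsg.Agent.H29

/-- The subset of `Fin n` encoded by a bit mask. -/
def ofMask (n m : ℕ) : Finset (Fin n) := Finset.univ.filter fun i : Fin n => m.testBit i.val = true

theorem mem_ofMask {n m : ℕ} {i : Fin n} : i ∈ ofMask n m ↔ m.testBit i.val = true := by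
  simp [ofMask]

theorem ofMask_inj {n a b : ℕ} (ha : a < 2 ^ n) (hb : b < 2 ^ n) (h : ofMask n a = ofMask n b) :
    a = b := by
  apply Nat.eq_of_testBit_eq
  intro i
  by_cases hi : i < n
  · have h1 := congrArg (fun s => decide ((⟨i, hi⟩ : Fin n) ∈ s)) h
    simpa [mem_ofMask] using h1
  · rw [Nat.testBit_lt_two_pow (lt_of_lt_of_le ha (Nat.pow_le_pow_right two_pos (by omega))),
      Nat.testBit_lt_two_pow (lt_of_lt_of_le hb (Nat.pow_le_pow_right two_pos (by omega)))]

theorem ofMask_or {n m : ℕ} (i : Fin n) : ofMask n (m ||| 2 ^ i.val) = insert i (ofMask n m) := by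
  ext j
  simp only [mem_ofMask, Nat.testBit_or, Nat.testBit_two_pow, Finset.mem_insert, Bool.or_eq_true,
    decide_eq_true_eq, Fin.ext_iff]
  rw [or_comm, eq_comm]

theorem ofMask_xor {n m : ℕ} (i : Fin n) (hi : m.testBit i.val = true) :
    ofMask n (m ^^^ 2 ^ i.val) = (ofMask n m).erase i := by
  ext j
  simp only [mem_ofMask, Nat.testBit_xor, Nat.testBit_two_pow, Finset.mem_erase]
  by_cases h : j = i
  · subst h; simp [hi]
  · have : i.val ≠ j.val := fun hh => h (Fin.ext hh.symm)
    simp [h, this]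

theorem exists_mask {n : ℕ} (s : Finset (Fin n)) : ∃ m, m < 2 ^ n ∧ ofMask n m = s := by
  classical
  induction s using Finset.induction_on with
  | empty => exact ⟨0, Nat.two_pow_pos n, by ext i; simp [mem_ofMask]⟩
  | @insert a s _ ih =>
    obtain ⟨m, hm, rfl⟩ := ih
    exact ⟨m ||| 2 ^ a.val, Nat.or_lt_two_pow hm (Nat.pow_lt_pow_right one_lt_two a.isLt),
      ofMask_or a⟩

theorem testBit_foldl_or {ι : Type*} (f : ι → ℕ) (l : List ι) (a m : ℕ) :
    (l.foldl (fun acc i => acc ||| f i) a).testBit m = true ↔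
      a.testBit m = true ∨ ∃ i ∈ l, (f i).testBit m = true := by
  induction l generalizing a with
  | nil => simp
  | cons x l ih => simp [ih, Nat.testBit_or, or_assoc]

/-- Bit map of the masks obtained from `c` by removing one point. -/
def cover (n c : ℕ) : ℕ :=
  (List.range n).foldl (fun acc i => acc ||| (bif c.testBit i then 2 ^ (c ^^^ 2 ^ i) else 0)) 0

theorem testBit_cover {n c m : ℕ} :
    (cover n c).testBit m = true ↔ ∃ i < n, c.testBit i = true ∧ c ^^^ 2 ^ i = m := by
  rw [cover, testBit_foldl_or (fun i => bif c.testBit i then 2 ^ (c ^^^ 2 ^ i) else 0)]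
  simp only [Nat.zero_testBit, Bool.false_eq_true, false_or, List.mem_range]
  refine exists_congr fun i => and_congr_right fun _ => ?_
  cases c.testBit i <;> simp [Nat.testBit_two_pow]

/-- Image of a mask under a map of points. -/
def mapMask {n : ℕ} (p : Fin n → Fin n) (c : ℕ) : ℕ :=
  (List.finRange n).foldl (fun acc i => acc ||| (bif c.testBit i.val then 2 ^ (p i).val else 0)) 0

theorem ofMask_mapMask {n : ℕ} (p : Fin n → Fin n) (c : ℕ) :
    ofMask n (mapMask p c) = (ofMask n c).image p := by
  ext j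
  rw [mem_ofMask, mapMask,
    testBit_foldl_or (fun i : Fin n => bif c.testBit i.val then 2 ^ (p i).val else 0)]
  simp only [Nat.zero_testBit, Bool.false_eq_true, false_or, List.mem_finRange, true_and,
    Finset.mem_image, mem_ofMask]
  refine exists_congr fun i => ?_
  cases c.testBit i.val <;> simp [Nat.testBit_two_pow, Fin.ext_iff]

/-- Exhaustive search for the completions of a partial system. -/
def search (n : ℕ) (leaf : List ℕ → Bool) : List ℕ → ℕ → List ℕ → Bool
  | [], _, ch => leaf ch
  | s :: r, cv, ch =>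
    bif cv.testBit s then search n leaf r cv ch
    else (List.range n).all fun i =>
      s.testBit i || (cv &&& cover n (s ||| 2 ^ i)) != 0 ||
        search n leaf r (cv ||| cover n (s ||| 2 ^ i)) ((s ||| 2 ^ i) :: ch)

/-- Two members of a system covering the same mask are equal. -/
theorem cover_common {n t : ℕ} {T : Set (Finset (Fin n))} (hT : Cfsg.IsSteinerSystem t (t + 1) T)
    {c d m : ℕ} (hc : ofMask n c ∈ T) (hd : ofMask n d ∈ T)
    (hcm : (cover n c).testBit m = true) (hdm : (cover n d).testBit m = true) :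
    ofMask n c = ofMask n d := by
  classical
  obtain ⟨i, hi, hci, him⟩ := testBit_cover.1 hcm
  obtain ⟨j, hj, hdj, hjm⟩ := testBit_cover.1 hdm
  have e1 := ofMask_xor ⟨i, hi⟩ hci
  have e2 := ofMask_xor ⟨j, hj⟩ hdj
  rw [him] at e1
  rw [hjm] at e2
  have hcard : (ofMask n m).card = t := by
    rw [e1, Finset.card_erase_of_mem (mem_ofMask.2 hci), hT.1 _ hc]; omega
  obtain ⟨b, _, hu⟩ := hT.2 _ hcard
  rw [hu _ ⟨hc, e1 ▸ Finset.erase_subset _ _⟩, hu _ ⟨hd, e2 ▸ Finset.erase_subset _ _⟩]

/-- Soundness of the search. -/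
theorem search_sound {n t : ℕ} (leaf : List ℕ → Bool) {T : Set (Finset (Fin n))}
    (hT : Cfsg.IsSteinerSystem t (t + 1) T) (l : List ℕ) :
    (∀ s ∈ l, s < 2 ^ n ∧ (ofMask n s).card = t) → ∀ (cv : ℕ) (ch : List ℕ),
    (∀ c ∈ ch, c < 2 ^ n ∧ ofMask n c ∈ T) →
    (∀ m, cv.testBit m = true ↔ ∃ c ∈ ch, (cover n c).testBit m = true) →
    search n leaf l cv ch = true →
    ∃ ch' : List ℕ, ch ⊆ ch' ∧ leaf ch' = true ∧ (∀ c ∈ ch', c < 2 ^ n ∧ ofMask n c ∈ T) ∧
      ∀ s ∈ l, ∃ c ∈ ch', (cover n c).testBit s = true := by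
  classical
  induction l with
  | nil => intro _ cv ch hch _ h; exact ⟨ch, List.Subset.refl _, h, hch, by simp⟩
  | cons s r ih =>
    intro hl cv ch hch hcv h
    have hr : ∀ x ∈ r, x < 2 ^ n ∧ (ofMask n x).card = t := fun x hx => hl x (List.mem_cons_of_mem _ hx)
    rw [search] at h
    by_cases hs : cv.testBit s = true
    · rw [hs, cond_true] at h
      obtain ⟨ch', h1, h2, h3, h4⟩ := ih hr cv ch hch hcv h
      refine ⟨ch', h1, h2, h3, fun x hx => ?_⟩
      rcases List.mem_cons.1 hx with rfl | hx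
      · obtain ⟨c, hc, hc'⟩ := (hcv _).1 hs
        exact ⟨c, h1 hc, hc'⟩
      · exact h4 x hx
    · have hs' : cv.testBit s = false := by simpa using hs
      rw [hs', cond_false, List.all_eq_true] at h
      obtain ⟨hsl, hsc⟩ := hl s List.mem_cons_self
      obtain ⟨b, ⟨hb, hsb⟩, -⟩ := hT.2 _ hsc
      have hdiff : (b \ ofMask n s).card = 1 := by
        rw [Finset.card_sdiff_of_subset hsb, hT.1 _ hb, hsc]; omega
      obtain ⟨i, hi⟩ := Finset.card_eq_one.1 hdiff
      have hins : insert i (ofMask n s) = b := by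
        rw [← Finset.union_sdiff_of_subset hsb, hi, Finset.union_comm, ← Finset.insert_eq]
      have hni : s.testBit i.val = false := by
        have : i ∈ b \ ofMask n s := by rw [hi]; simp
        simpa [mem_ofMask] using (Finset.mem_sdiff.1 this).2
      set c := s ||| 2 ^ i.val with hc
      have hcl : c < 2 ^ n := Nat.or_lt_two_pow hsl (Nat.pow_lt_pow_right one_lt_two i.isLt)
      have hcT : ofMask n c ∈ T := by rw [hc, ofMask_or, hins]; exact hb
      have hcbit : c.testBit i.val = true := by simp [hc, Nat.testBit_or, Nat.testBit_two_pow]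
      have hcs : (cover n c).testBit s = true := by
        refine testBit_cover.2 ⟨i.val, i.isLt, hcbit, ?_⟩
        apply Nat.eq_of_testBit_eq
        intro j
        rw [hc, Nat.testBit_xor, Nat.testBit_or, Nat.testBit_two_pow]
        by_cases hij : i.val = j
        · subst hij; simp [hni]
        · simp [hij]
      have h' := h i.val (List.mem_range.2 i.isLt)
      simp only [hni, Bool.false_or, Bool.or_eq_true, bne_iff_ne, ne_eq] at h'
      rcases h' with h' | h'
      · exfalso
        apply hs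
        obtain ⟨m, hm⟩ := Nat.exists_testBit_of_ne_zero h'
        rw [Nat.testBit_and, Bool.and_eq_true] at hm
        obtain ⟨d, hd, hdm⟩ := (hcv m).1 hm.1
        have : d = c := ofMask_inj (hch d hd).1 hcl (cover_common hT (hch d hd).2 hcT hdm hm.2)
        exact (hcv s).2 ⟨d, hd, this ▸ hcs⟩
      · obtain ⟨ch', h1, h2, h3, h4⟩ := ih hr _ (c :: ch)
          (by intro x hx; rcases List.mem_cons.1 hx with rfl | hx
              · exact ⟨hcl, hcT⟩
              · exact hch x hx)
          (by intro m; simp [Nat.testBit_or, hcv m, or_comm, ← hc]) h'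
        refine ⟨ch', fun x hx => h1 (List.mem_cons_of_mem _ hx), h2, h3, fun x hx => ?_⟩
        rcases List.mem_cons.1 hx with rfl | hx
        · exact ⟨c, h1 List.mem_cons_self, hcs⟩
        · exact h4 x hx

/-- All masks of `t`-subsets. -/
def tMasks (n t : ℕ) : List ℕ :=
  (List.range (2 ^ n)).filter fun m => (List.range n).countP (fun i => m.testBit i) == t

theorem countP_testBit (n m : ℕ) :
    (List.range n).countP (fun i => m.testBit i) = (ofMask n m).card := by
  rw [List.countP_eq_length_filter,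
    ← List.toFinset_card_of_nodup (List.nodup_range.filter _), ← Finset.card_map Fin.valEmbedding]
  congr 1
  ext i
  simp only [List.mem_toFinset, List.mem_filter, List.mem_range, Finset.mem_map, mem_ofMask,
    Fin.valEmbedding_apply]
  constructor
  · rintro ⟨h1, h2⟩; exact ⟨⟨i, h1⟩, h2, rfl⟩
  · rintro ⟨a, h2, rfl⟩; exact ⟨a.isLt, h2⟩

/-- A partial system whose completions all pass `leaf` forces the whole system. -/
theorem search_complete {n t : ℕ} (leaf : List ℕ → Bool) {T : Set (Finset (Fin n))}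
    (hT : Cfsg.IsSteinerSystem t (t + 1) T) (init : List ℕ)
    (hinit : ∀ c ∈ init, c < 2 ^ n ∧ ofMask n c ∈ T)
    (h : search n leaf (tMasks n t) (init.foldl (fun acc c => acc ||| cover n c) 0) init = true) :
    ∃ ch : List ℕ, leaf ch = true ∧ ∀ b : Finset (Fin n), b ∈ T ↔ ∃ c ∈ ch, ofMask n c = b := by
  classical
  obtain ⟨ch, -, h2, h3, h4⟩ := search_sound leaf hT (tMasks n t)
    (by intro s hs; simpa [tMasks, countP_testBit] using hs) _ init hinit
    (by intro m; simp [testBit_foldl_or (cover n)]) h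
  refine ⟨ch, h2, fun b => ⟨fun hb => ?_, ?_⟩⟩
  · obtain ⟨s, hsb, hs⟩ := Finset.exists_subset_card_eq (s := b) (n := t) (by rw [hT.1 b hb]; omega)
    obtain ⟨m, hm, rfl⟩ := exists_mask s
    obtain ⟨c, hc, hcm⟩ := h4 m (by simp [tMasks, countP_testBit, hm, hs])
    obtain ⟨i, hi, hci, hx⟩ := testBit_cover.1 hcm
    have hsub : ofMask n m ⊆ ofMask n c := by
      rw [← hx, ofMask_xor ⟨i, hi⟩ hci]; exact Finset.erase_subset _ _
    obtain ⟨b', _, hu⟩ := hT.2 _ hs
    exact ⟨c, hc, by rw [hu b ⟨hb, hsb⟩, hu _ ⟨(h3 c hc).2, hsub⟩]⟩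
  · rintro ⟨c, hc, rfl⟩
    exact (h3 c hc).2

end Cfsg.Agent.H29
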