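import Cfsg.Agent.H29.SteinerBasic

/-!
Steiner systems supported on a subset of a type, and the intersection numbers of S(3,6,22),
S(4,7,23), S(5,8,24).
-/

set_option autoImplicit false

namespace Cfsg.Agent.H29

open Finset

variable {α β : Type*}

/-- A Steiner system with parameters `(t, k)` on the point set `X`. -/
def SysOn (t k : ℕ) (X : Finset α) (T : Set (Finset α)) : Prop :=
  (∀ b ∈ T, b.card = k ∧ b ⊆ X) ∧ ∀ s : Finset α, s ⊆ X → s.card = t → ∃! b, b ∈ T ∧ s ⊆ b

theorem SysOn.block_eq {t k : ℕ} {X : Finset α} {T : Set (Finset α)} (hT : SysOn t k X T)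
    {b b' s : Finset α} (hb : b ∈ T) (hb' : b' ∈ T) (hs : s.card = t) (h : s ⊆ b) (h' : s ⊆ b') :
    b = b' := by
  obtain ⟨c, -, hu⟩ := hT.2 s (h.trans (hT.1 b hb).2) hs
  rw [hu b ⟨hb, h⟩, hu b' ⟨hb', h'⟩]

theorem SysOn.card_inter_lt [DecidableEq α] {t k : ℕ} {X : Finset α} {T : Set (Finset α)}
    (hT : SysOn t k X T) {b b' : Finset α} (hb : b ∈ T) (hb' : b' ∈ T) (hne : b ≠ b') :
    (b ∩ b').card < t := by
  by_contra hlt
  obtain ⟨s, hs, hsc⟩ := exists_subset_card_eq (s := b ∩ b') (n := t) (by omega)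
  exact hne (hT.block_eq hb hb' hsc (hs.trans inter_subset_left) (hs.trans inter_subset_right))

/-- A system contained in another one with the same parameters equals it. -/
theorem SysOn.eq_of_subset {t k : ℕ} {X : Finset α} {T S : Set (Finset α)} (htk : t ≤ k)
    (hT : SysOn t k X T) (hS : SysOn t k X S) (h : T ⊆ S) : T = S := by
  refine Set.Subset.antisymm h fun b hb => ?_
  obtain ⟨s, hs, hsc⟩ := exists_subset_card_eq (s := b) (n := t) (by rw [(hS.1 b hb).1]; exact htk)
  obtain ⟨c, ⟨hc, hsub⟩, -⟩ := hT.2 s (hs.trans (hS.1 b hb).2) hsc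
  rwa [hS.block_eq hb (h hc) hsc hs hsub]

theorem sysOn_univ [Fintype α] {t k : ℕ} {B : Set (Finset α)} (hB : Cfsg.IsSteinerSystem t k B) :
    SysOn t k univ B :=
  ⟨fun b hb => ⟨hB.1 b hb, subset_univ b⟩, fun s _ hs => hB.2 s hs⟩

theorem SysOn.isSteiner [Fintype α] {t k : ℕ} {B : Set (Finset α)} (h : SysOn t k univ B) :
    Cfsg.IsSteinerSystem t k B :=
  ⟨fun b hb => (h.1 b hb).1, fun s hs => h.2 s (subset_univ s) hs⟩

/-- The image of a system under an embedding. -/
theorem SysOn.map {t k : ℕ} {X : Finset α} {T : Set (Finset α)} (hT : SysOn t k X T) (e : α ↪ β) :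
    SysOn t k (X.map e) ((fun b => b.map e) '' T) := by
  classical
  refine ⟨?_, fun s hs hsc => ?_⟩
  · rintro _ ⟨b, hb, rfl⟩
    exact ⟨by rw [card_map]; exact (hT.1 b hb).1, map_subset_map.2 (hT.1 b hb).2⟩
  · obtain ⟨u, hu, rfl⟩ := subset_map_iff.1 hs
    rw [card_map] at hsc
    obtain ⟨b, ⟨hb, hub⟩, huniq⟩ := hT.2 u hu hsc
    refine ⟨b.map e, ⟨⟨b, hb, rfl⟩, map_subset_map.2 hub⟩, ?_⟩
    rintro _ ⟨⟨c, hc, rfl⟩, hcu⟩
    exact congrArg (fun x => x.map e) (huniq c ⟨hc, map_subset_map.1 hcu⟩)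

/-- The derived system at a point. -/
theorem SysOn.derive [DecidableEq α] {t k : ℕ} {X : Finset α} {T : Set (Finset α)}
    (hT : SysOn (t + 1) (k + 1) X T) {a : α} (ha : a ∈ X) :
    SysOn t k (X.erase a) {s | a ∉ s ∧ insert a s ∈ T} := by
  refine ⟨fun s hs => ?_, fun s hs hsc => ?_⟩
  · obtain ⟨h1, h2⟩ := hs
    have h := hT.1 _ h2
    rw [card_insert_of_notMem h1] at h
    exact ⟨by omega, fun x hx => mem_erase.2 ⟨fun e => h1 (e ▸ hx), h.2 (mem_insert_of_mem hx)⟩⟩
  · have has : a ∉ s := fun h => (mem_erase.1 (hs h)).1 rfl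
    have hsX : insert a s ⊆ X := insert_subset ha (hs.trans (erase_subset _ _))
    obtain ⟨b, ⟨hb, hsb⟩, hu⟩ := hT.2 _ hsX (by rw [card_insert_of_notMem has, hsc])
    have hab : a ∈ b := hsb (mem_insert_self a s)
    refine ⟨b.erase a, ⟨⟨notMem_erase a b, by rwa [insert_erase hab]⟩, ?_⟩, ?_⟩
    · exact fun x hx => mem_erase.2 ⟨fun e => has (e ▸ hx), hsb (mem_insert_of_mem hx)⟩
    · rintro c ⟨⟨hac, hc⟩, hsc'⟩
      rw [← hu _ ⟨hc, insert_subset_insert a hsc'⟩, erase_insert hac]

/-- Between `R ⊆ b` the number of `k`-sets. -/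
theorem count_between' [DecidableEq α] (R b : Finset α) (hR : R ⊆ b) (k : ℕ) (hk : R.card ≤ k) :
    ((powersetCard k b).filter fun s => R ⊆ s).card = (b.card - R.card).choose (k - R.card) := by
  rw [← card_sdiff_of_subset hR, ← card_powersetCard (k - R.card) (b \ R)]
  refine card_bij' (fun s _ => s \ R) (fun s _ => s ∪ R) ?_ ?_ ?_ ?_
  · intro s hs
    obtain ⟨h1, h2⟩ := mem_filter.1 hs
    obtain ⟨h3, h4⟩ := mem_powersetCard.1 h1
    exact mem_powersetCard.2
      ⟨sdiff_subset_sdiff h3 subset_rfl, by rw [card_sdiff_of_subset h2, h4]⟩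
  · intro s hs
    obtain ⟨h3, h4⟩ := mem_powersetCard.1 hs
    have hd : Disjoint s R := disjoint_of_subset_left h3 sdiff_disjoint
    exact mem_filter.2 ⟨mem_powersetCard.2 ⟨union_subset (h3.trans sdiff_subset) hR,
      by rw [card_union_of_disjoint hd, h4]; omega⟩, subset_union_right⟩
  · intro s hs
    exact sdiff_union_of_subset (mem_filter.1 hs).2
  · intro s hs
    exact union_sdiff_cancel_right
      (disjoint_of_subset_left (mem_powersetCard.1 hs).1 sdiff_disjoint)

/-- The number of blocks through an `i`-set, `i ≤ t`. -/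
theorem SysOn.lambda [DecidableEq α] {t k : ℕ} {X : Finset α} (B : Finset (Finset α))
    (hB : SysOn t k X (B : Set (Finset α))) (R : Finset α) (hRX : R ⊆ X) (hR : R.card ≤ t) :
    (B.filter fun b => R ⊆ b).card * (k - R.card).choose (t - R.card) =
      (X.card - R.card).choose (t - R.card) := by
  have h1 := count_between' R X hRX t hR
  have hcover : (powersetCard t X).filter (fun s => R ⊆ s) =
      (B.filter fun b => R ⊆ b).biUnion fun b => (powersetCard t b).filter fun s => R ⊆ s := by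
    ext s
    simp only [mem_filter, mem_powersetCard, mem_biUnion]
    constructor
    · rintro ⟨⟨hsX, hst⟩, hRs⟩
      obtain ⟨b, ⟨hb, hsb⟩, -⟩ := hB.2 s hsX hst
      exact ⟨b, ⟨hb, hRs.trans hsb⟩, ⟨hsb, hst⟩, hRs⟩
    · rintro ⟨b, ⟨hb, -⟩, ⟨hsb, hst⟩, hRs⟩
      exact ⟨⟨hsb.trans (hB.1 b hb).2, hst⟩, hRs⟩
  rw [hcover, card_biUnion] at h1
  · rw [← h1, ← smul_eq_mul, ← sum_const]
    refine sum_congr rfl fun b hb => ?_
    obtain ⟨hbB, hRb⟩ := mem_filter.1 hb
    rw [count_between' R b hRb t hR, (hB.1 b hbB).1]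
  · intro b hb b' hb' hne
    rw [Function.onFun, disjoint_left]
    intro s hs hs'
    obtain ⟨h2, -⟩ := mem_filter.1 hs
    obtain ⟨h3, -⟩ := mem_filter.1 hs'
    obtain ⟨h4, h5⟩ := mem_powersetCard.1 h2
    exact hne (hB.block_eq (mem_filter.1 hb).1 (mem_filter.1 hb').1 h5 h4 (mem_powersetCard.1 h3).1)

/-- Number of other blocks meeting a block in `s` points, weighted by `s choose i`. -/
theorem SysOn.sum_choose [DecidableEq α] {t k : ℕ} {X : Finset α} (B : Finset (Finset α))
    (hB : SysOn t k X (B : Set (Finset α))) (htk : t ≤ k) {b : Finset α} (hb : b ∈ B) {i : ℕ}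
    (hi : i ≤ t) :
    (∑ s ∈ range t, ((B.erase b).filter fun c => (c ∩ b).card = s).card * s.choose i + k.choose i) *
      (k - i).choose (t - i) = k.choose i * (X.card - i).choose (t - i) := by
  have hbk := (hB.1 b hb).1
  have hsum : ∑ c ∈ B, (c ∩ b).card.choose i =
      ∑ R ∈ powersetCard i b, (B.filter fun c => R ⊆ c).card := by
    have h1 : ∀ c ∈ B, (c ∩ b).card.choose i =
        ((powersetCard i b).filter fun R => R ⊆ c).card := by
      intro c _
      rw [← card_powersetCard]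
      congr 1
      ext R
      simp only [mem_powersetCard, mem_filter, subset_inter_iff]
      tauto
    rw [sum_congr rfl h1]
    simp only [card_filter]
    rw [sum_comm]
  have hrhs : (∑ c ∈ B, (c ∩ b).card.choose i) * (k - i).choose (t - i) =
      k.choose i * (X.card - i).choose (t - i) := by
    rw [hsum, sum_mul, sum_congr rfl (g := fun _ => (X.card - i).choose (t - i)), sum_const,
      card_powersetCard, hbk, smul_eq_mul]
    intro R hR
    obtain ⟨hRb, hRc⟩ := mem_powersetCard.1 hR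
    have := hB.lambda B R (hRb.trans (hB.1 b hb).2) (by omega)
    rwa [hRc] at this
  rw [← hrhs, ← add_sum_erase B _ hb, inter_self, hbk, add_comm (k.choose i)]
  congr 2
  rw [← sum_fiberwise_of_maps_to (s := B.erase b) (t := range t) (g := fun c => (c ∩ b).card)
    (fun c hc => mem_range.2 (hB.card_inter_lt (mem_erase.1 hc).2 hb (mem_erase.1 hc).1))]
  refine sum_congr rfl fun s _ => ?_
  rw [← smul_eq_mul, ← sum_const]
  exact sum_congr rfl fun c hc => by rw [(mem_filter.1 hc).2]

theorem SysOn.exists_finset {t k : ℕ} {X : Finset α} {T : Set (Finset α)} (hT : SysOn t k X T) :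
    ∃ B : Finset (Finset α), (B : Set (Finset α)) = T := by
  classical
  have hfin : T.Finite := (powersetCard k X).finite_toSet.subset fun b hb =>
    mem_powersetCard.2 ⟨(hT.1 b hb).2, (hT.1 b hb).1⟩
  exact ⟨hfin.toFinset, hfin.coe_toFinset⟩

/-- Blocks of an S(3,6,22) meet in 0 or 2 points. -/
theorem SysOn.inter22 [DecidableEq α] {X : Finset α} {T : Set (Finset α)} (hT : SysOn 3 6 X T)
    (hX : X.card = 22) {b c : Finset α} (hb : b ∈ T) (hc : c ∈ T) (hne : c ≠ b) :
    (c ∩ b).card = 0 ∨ (c ∩ b).card = 2 := by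
  obtain ⟨B, rfl⟩ := hT.exists_finset
  have h2 := hT.sum_choose B (by norm_num) hb (i := 2) (by norm_num)
  have h1 := hT.sum_choose B (by norm_num) hb (i := 1) (by norm_num)
  generalize hN : (fun s => ((B.erase b).filter fun d => (d ∩ b).card = s).card) = N
  simp only [fun s => show ((B.erase b).filter fun d => (d ∩ b).card = s).card = N s from
    congrFun hN s, hX] at h1 h2
  norm_num [sum_range_succ, Nat.choose] at h1 h2
  have hN1 : N 1 = 0 := by omega
  rw [← congrFun hN 1, card_eq_zero, filter_eq_empty_iff] at hN1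
  have := hN1 (mem_erase.2 ⟨hne, hc⟩)
  have := hT.card_inter_lt hc hb hne
  omega

/-- Blocks of an S(4,7,23) meet in 1 or 3 points. -/
theorem SysOn.inter23 [DecidableEq α] {X : Finset α} {T : Set (Finset α)} (hT : SysOn 4 7 X T)
    (hX : X.card = 23) {b c : Finset α} (hb : b ∈ T) (hc : c ∈ T) (hne : c ≠ b) :
    (c ∩ b).card = 1 ∨ (c ∩ b).card = 3 := by
  obtain ⟨B, rfl⟩ := hT.exists_finset
  have h3 := hT.sum_choose B (by norm_num) hb (i := 3) (by norm_num)
  have h2 := hT.sum_choose B (by norm_num) hb (i := 2) (by norm_num)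
  have h1 := hT.sum_choose B (by norm_num) hb (i := 1) (by norm_num)
  have h0 := hT.sum_choose B (by norm_num) hb (i := 0) (by norm_num)
  generalize hN : (fun s => ((B.erase b).filter fun d => (d ∩ b).card = s).card) = N
  simp only [fun s => show ((B.erase b).filter fun d => (d ∩ b).card = s).card = N s from
    congrFun hN s, hX] at h0 h1 h2 h3
  norm_num [sum_range_succ, Nat.choose] at h0 h1 h2 h3
  have hN2 : N 2 = 0 := by omega
  have hN0 : N 0 = 0 := by omega
  rw [← congrFun hN 2, card_eq_zero, filter_eq_empty_iff] at hN2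
  rw [← congrFun hN 0, card_eq_zero, filter_eq_empty_iff] at hN0
  have := hN2 (mem_erase.2 ⟨hne, hc⟩)
  have := hN0 (mem_erase.2 ⟨hne, hc⟩)
  have := hT.card_inter_lt hc hb hne
  omega

/-- Blocks of an S(5,8,24) meet in 0, 2 or 4 points. -/
theorem SysOn.inter24 [DecidableEq α] {X : Finset α} {T : Set (Finset α)} (hT : SysOn 5 8 X T)
    (hX : X.card = 24) {b c : Finset α} (hb : b ∈ T) (hc : c ∈ T) (hne : c ≠ b) :
    (c ∩ b).card = 0 ∨ (c ∩ b).card = 2 ∨ (c ∩ b).card = 4 := by
  obtain ⟨B, rfl⟩ := hT.exists_finset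
  have h4 := hT.sum_choose B (by norm_num) hb (i := 4) (by norm_num)
  have h3 := hT.sum_choose B (by norm_num) hb (i := 3) (by norm_num)
  have h2 := hT.sum_choose B (by norm_num) hb (i := 2) (by norm_num)
  have h1 := hT.sum_choose B (by norm_num) hb (i := 1) (by norm_num)
  generalize hN : (fun s => ((B.erase b).filter fun d => (d ∩ b).card = s).card) = N
  simp only [fun s => show ((B.erase b).filter fun d => (d ∩ b).card = s).card = N s from
    congrFun hN s, hX] at h1 h2 h3 h4
  norm_num [sum_range_succ, Nat.choose] at h1 h2 h3 h4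
  have hN3 : N 3 = 0 := by omega
  have hN1 : N 1 = 0 := by omega
  rw [← congrFun hN 3, card_eq_zero, filter_eq_empty_iff] at hN3
  rw [← congrFun hN 1, card_eq_zero, filter_eq_empty_iff] at hN1
  have := hN3 (mem_erase.2 ⟨hne, hc⟩)
  have := hN1 (mem_erase.2 ⟨hne, hc⟩)
  have := hT.card_inter_lt hc hb hne
  omega

end Cfsg.Agent.H29
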