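import Mathlib

/-!
The centraliser of a transvection in the special linear group of dimension five over two elements.
-/

set_option autoImplicit false

namespace Cfsg.Agent.H29

open Matrix

/-- The shape of an element commuting with the standard transvection. -/
def tvShape (A : Matrix (Fin 3) (Fin 3) (ZMod 2)) (x : ZMod 2) (y z : Fin 3 → ZMod 2) :
    Matrix (Fin 5) (Fin 5) (ZMod 2) :=
  Fin.cases (Fin.cases 1 (Fin.cases x y))
    (fun i => Fin.cases (Fin.cases 0 (Fin.cases 1 fun _ => 0) )
      (fun i' => Fin.cases 0 (Fin.cases (z i') (A i'))) i)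

theorem det_tvShape (A : Matrix (Fin 3) (Fin 3) (ZMod 2)) (x : ZMod 2) (y z : Fin 3 → ZMod 2) :
    (tvShape A x y z).det = A.det := by
  rw [det_succ_column_zero, Fin.sum_univ_succ, Finset.sum_eq_zero (fun i _ => ?_)]
  · have h1 : (tvShape A x y z) 0 0 = 1 := rfl
    rw [h1, det_succ_row_zero, Fin.sum_univ_succ, Finset.sum_eq_zero (fun i _ => ?_)]
    · have h2 : ((tvShape A x y z).submatrix (Fin.succAbove 0) Fin.succ) 0 0 = 1 := rfl
      rw [h2]
      have h3 : ((tvShape A x y z).submatrix (Fin.succAbove 0) Fin.succ).submatrix Fin.succ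
          (Fin.succAbove 0) = A := by
        ext i j; rfl
      rw [h3]
      simp
    · have h : ((tvShape A x y z).submatrix (Fin.succAbove 0) Fin.succ) 0 i.succ = 0 := by
        fin_cases i <;> rfl
      rw [h]; simp
  · have h : tvShape A x y z i.succ 0 = 0 := by fin_cases i <;> rfl
    rw [h]; simp

theorem commute_transvection_iff (M : Matrix (Fin 5) (Fin 5) (ZMod 2)) :
    M * transvection 0 1 1 = transvection 0 1 1 * M ↔
      (∀ i, i ≠ 0 → M i 0 = 0) ∧ (∀ j, j ≠ 1 → M 1 j = 0) ∧ M 0 0 = M 1 1 := by
  rw [transvection, mul_add, add_mul, mul_one, one_mul, add_left_cancel_iff, ← Matrix.ext_iff]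
  constructor
  · intro h
    refine ⟨fun i hi => ?_, fun j hj => ?_, ?_⟩
    · have := h i 1; simpa [hi] using this
    · have := h 0 j; simpa [hj] using this.symm
    · have := h 0 1; simpa using this
  · rintro ⟨h1, h2, h3⟩ i j
    rcases eq_or_ne i 0 with rfl | hi <;> rcases eq_or_ne j 1 with rfl | hj
    · simpa using h3
    · simp [hj, h2 j hj]
    · simp [hi, h1 i hi]
    · simp [hi, hj]

theorem card_det_one : Nat.card {A : Matrix (Fin 3) (Fin 3) (ZMod 2) // A.det = 1} = 168 := by
  have h : (Finset.univ.filter fun v : Fin 3 → Fin 3 → ZMod 2 =>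
      v 0 0 * (v 1 1 * v 2 2 + v 1 2 * v 2 1) + v 0 1 * (v 1 0 * v 2 2 + v 1 2 * v 2 0) +
        v 0 2 * (v 1 0 * v 2 1 + v 1 1 * v 2 0) = 1).card = 168 := by decide +kernel
  rw [Nat.card_eq_fintype_card, Fintype.card_subtype, ← h]
  refine Finset.card_bij' (fun A _ => fun i j => A i j) (fun v _ => Matrix.of v) ?_ ?_ ?_ ?_
  · intro A hA
    simp only [Finset.mem_filter, Finset.mem_univ, true_and, det_fin_three] at hA ⊢
    simp only [ZMod.neg_eq_self_mod_two, sub_eq_add_neg] at hA
    linear_combination hA
  · intro v hv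
    simp only [Finset.mem_filter, Finset.mem_univ, true_and, det_fin_three] at hv ⊢
    simp only [ZMod.neg_eq_self_mod_two, sub_eq_add_neg, Matrix.of_apply]
    linear_combination hv
  · exact fun A _ => rfl
  · exact fun v _ => rfl

theorem card_centralizer_transvection (s : Matrix.SpecialLinearGroup (Fin 5) (ZMod 2))
    (hs : (s : Matrix (Fin 5) (Fin 5) (ZMod 2)) = Matrix.transvection 0 1 1) :
    Nat.card (Subgroup.centralizer ({s} : Set (Matrix.SpecialLinearGroup (Fin 5) (ZMod 2))))
      = 21504 := by
  let T := {A : Matrix (Fin 3) (Fin 3) (ZMod 2) // A.det = 1} × ZMod 2 × (Fin 3 → ZMod 2) ×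
    (Fin 3 → ZMod 2)
  let f : T → Subgroup.centralizer ({s} : Set (Matrix.SpecialLinearGroup (Fin 5) (ZMod 2))) :=
    fun t => ⟨⟨tvShape t.1.1 t.2.1 t.2.2.1 t.2.2.2, by rw [det_tvShape]; exact t.1.2⟩, by
      refine Subgroup.mem_centralizer_singleton_iff.2 ?_
      apply Subtype.ext
      show tvShape t.1.1 t.2.1 t.2.2.1 t.2.2.2 * (s : Matrix (Fin 5) (Fin 5) (ZMod 2)) =
        (s : Matrix (Fin 5) (Fin 5) (ZMod 2)) * tvShape t.1.1 t.2.1 t.2.2.1 t.2.2.2
      rw [hs, commute_transvection_iff]
      refine ⟨fun i hi => ?_, fun j hj => ?_, rfl⟩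
      · fin_cases i <;> first | rfl | exact absurd rfl hi
      · fin_cases j <;> first | rfl | exact absurd rfl hj⟩
  have hb : Function.Bijective f := by
    refine ⟨fun t t' h => ?_, fun u => ?_⟩
    · have hm : tvShape t.1.1 t.2.1 t.2.2.1 t.2.2.2 = tvShape t'.1.1 t'.2.1 t'.2.2.1 t'.2.2.2 :=
        congrArg (fun u => u.1.1) h
      refine Prod.ext (Subtype.ext (Matrix.ext fun i j => ?_)) (Prod.ext ?_ (Prod.ext ?_ ?_))
      · exact congrFun (congrFun hm i.succ.succ) j.succ.succ
      · exact congrFun (congrFun hm 0) 1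
      · funext i; exact congrFun (congrFun hm 0) i.succ.succ
      · funext i; exact congrFun (congrFun hm i.succ.succ) 1
    · obtain ⟨⟨M, hdet⟩, hu⟩ := u
      have hu := Subgroup.mem_centralizer_singleton_iff.1 hu
      have hu' : M * transvection 0 1 1 = transvection 0 1 1 * M := by
        have := congrArg Subtype.val hu
        rw [← hs]; exact this
      obtain ⟨h1, h2, h3⟩ := (commute_transvection_iff M).1 hu'
      have h00 : M 0 0 = 1 := by
        by_contra hne
        have h0 : M 0 0 = 0 := by
          generalize M 0 0 = q at hne ⊢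
          revert q; decide
        have : M.det = 0 := Matrix.det_eq_zero_of_column_eq_zero 0 fun i => by
          rcases eq_or_ne i 0 with rfl | hi
          · exact h0
          · exact h1 i hi
        rw [this] at hdet
        exact zero_ne_one hdet
      let A : Matrix (Fin 3) (Fin 3) (ZMod 2) := Matrix.of fun i j => M i.succ.succ j.succ.succ
      have hM : tvShape A (M 0 1) (fun j => M 0 j.succ.succ) (fun i => M i.succ.succ 1) = M := by
        ext i j
        refine Fin.cases ?_ (fun i => Fin.cases ?_ (fun i => ?_) i) i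
        · refine Fin.cases ?_ (fun j => Fin.cases ?_ (fun j => ?_) j) j
          · exact h00.symm
          · rfl
          · rfl
        · refine Fin.cases ?_ (fun j => Fin.cases ?_ (fun j => ?_) j) j
          · exact (h2 0 (by decide)).symm
          · exact h00.symm.trans h3
          · exact (h2 _ (Fin.succ_succ_ne_one j)).symm
        · refine Fin.cases ?_ (fun j => Fin.cases ?_ (fun j => ?_) j) j
          · exact (h1 _ (Fin.succ_ne_zero _)).symm
          · rfl
          · rfl
      refine ⟨(⟨A, by rw [← det_tvShape A, hM]; exact hdet⟩, M 0 1,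
        fun j => M 0 j.succ.succ, fun i => M i.succ.succ 1), Subtype.ext (Subtype.ext hM)⟩
  rw [← Nat.card_congr (Equiv.ofBijective f hb), Nat.card_prod, Nat.card_prod, Nat.card_prod,
    card_det_one, Nat.card_fun, Nat.card_zmod, Nat.card_fin]
  norm_num

end Cfsg.Agent.H29
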